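/-
Square-zero endomorphisms with their scalar families inside a group of linear maps.
-/
import Mathlib
import Cfsg.Prelude.Def_RootSubgroups

set_option autoImplicit false

namespace CfsgLib.QP

variable {k : Type*} [Field k] {M : Type*} [AddCommGroup M] [Module k M]

/-- An endomorphism which is an element of `G`. -/
def InG (G : Subgroup (LinearMap.GeneralLinearGroup k M)) (x : Module.End k M) : Prop :=
  ∃ g ∈ G, (g : Module.End k M) = x

variable {G : Subgroup (LinearMap.GeneralLinearGroup k M)}

theorem inG_one : InG G (1 : Module.End k M) := ⟨1, one_mem _, rfl⟩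

theorem InG.mul {x y : Module.End k M} (hx : InG G x) (hy : InG G y) : InG G (x * y) := by
  obtain ⟨g, hg, rfl⟩ := hx
  obtain ⟨h, hh, rfl⟩ := hy
  exact ⟨g * h, mul_mem hg hh, rfl⟩

theorem InG.mem {g : LinearMap.GeneralLinearGroup k M} (h : InG G (g : Module.End k M)) : g ∈ G := by
  obtain ⟨g', hg', e⟩ := h
  rwa [← Units.ext e]

theorem InG.inv {x y : Module.End k M} (hx : InG G x) (h : x * y = 1) : InG G y := by
  obtain ⟨g, hg, rfl⟩ := hx
  exact ⟨g⁻¹, inv_mem hg, Units.inv_eq_of_mul_eq_one_right h⟩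

/-- A square-zero endomorphism as a unipotent unit. -/
def mk (s : Module.End k M) (hs : s * s = 0) : LinearMap.GeneralLinearGroup k M :=
  ⟨1 + s, 1 - s, by rw [mul_sub, mul_one, add_mul, one_mul, hs]; abel,
    by rw [sub_mul, one_mul, mul_add, mul_one, hs]; abel⟩

@[simp] theorem mk_val (s : Module.End k M) (hs : s * s = 0) : (mk s hs : Module.End k M) = 1 + s := rfl

theorem one_add_mul_one_sub {s : Module.End k M} (hs : s * s = 0) : (1 + s) * (1 - s) = 1 :=
  (mk s hs).val_inv

theorem one_sub_mul_one_add {s : Module.End k M} (hs : s * s = 0) : (1 - s) * (1 + s) = 1 :=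
  (mk s hs).inv_val

/-- `d(s)`, the rank. -/
noncomputable def rk (s : Module.End k M) : ℕ := Module.finrank k (LinearMap.range s)

/-- A non-zero square-zero endomorphism whose scalar family lies in `G`. -/
structure Mem (G : Subgroup (LinearMap.GeneralLinearGroup k M)) (s : Module.End k M) : Prop where
  sq : s * s = 0
  ne : s ≠ 0
  fam : ∀ c : k, InG G (1 + c • s)

/-- A member of least rank. -/
def Min (G : Subgroup (LinearMap.GeneralLinearGroup k M)) (s : Module.End k M) : Prop :=
  Mem G s ∧ ∀ u, Mem G u → rk s ≤ rk u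

theorem smul_sq {s : Module.End k M} (hs : s * s = 0) (c d : k) : (c • s) * (d • s) = 0 := by
  rw [smul_mul_smul_comm, hs, smul_zero]

theorem Mem.inG {s : Module.End k M} (h : Mem G s) : InG G (1 + s) := by simpa using h.fam 1

end CfsgLib.QP

namespace CfsgLib.QP

variable {k : Type*} [Field k] {M : Type*} [AddCommGroup M] [Module k M]
variable {G : Subgroup (LinearMap.GeneralLinearGroup k M)}

theorem Mem.sub {s : Module.End k M} (h : Mem G s) (c : k) : InG G (1 - c • s) := by
  simpa [neg_smul, sub_eq_add_neg] using h.fam (-c)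

/-- Membership in `𝒬`. -/
theorem mem_quadratic_iff {g : LinearMap.GeneralLinearGroup k M} :
    g ∈ Cfsg.quadraticElements G ↔ Mem G ((g : Module.End k M) - 1) := by
  constructor
  · rintro ⟨-, ⟨hsq, hne⟩, hfam⟩
    refine ⟨hsq, hne, fun c => ⟨mk _ (smul_sq hsq c c), hfam ⟨c, ?_⟩, rfl⟩⟩
    exact mk_val _ _
  · intro h
    refine ⟨?_, ⟨h.sq, h.ne⟩, ?_⟩
    · exact InG.mem (by simpa using h.inG)
    · rintro τ ⟨c, hc⟩
      exact InG.mem (hc ▸ h.fam c)

theorem mk_sub_one (s : Module.End k M) (hs : s * s = 0) : (mk s hs : Module.End k M) - 1 = s := by simp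

theorem mem_minimal_iff {g : LinearMap.GeneralLinearGroup k M} :
    g ∈ Cfsg.minimalQuadraticElements G ↔ Min G ((g : Module.End k M) - 1) := by
  refine ⟨fun ⟨h, hmin⟩ => ⟨mem_quadratic_iff.mp h, fun u hu => ?_⟩,
    fun ⟨h, hmin⟩ => ⟨mem_quadratic_iff.mpr h, fun τ hτ => hmin _ (mem_quadratic_iff.mp hτ)⟩⟩
  have := hmin (mk u hu.sq) (mem_quadratic_iff.mpr (by simpa using hu))
  refine le_of_le_of_eq this ?_
  show Module.finrank k (LinearMap.range ((mk u hu.sq : Module.End k M) - 1)) = rk u
  rw [mk_sub_one]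
  rfl

theorem rk_neg (s : Module.End k M) : rk (-s) = rk s := by rw [rk, LinearMap.range_neg, rk]

theorem range_smul_eq (s : Module.End k M) {c : k} (hc : c ≠ 0) : LinearMap.range (c • s) = LinearMap.range s :=
  LinearMap.range_smul s c hc

theorem ker_smul_eq (s : Module.End k M) {c : k} (hc : c ≠ 0) : LinearMap.ker (c • s) = LinearMap.ker s :=
  LinearMap.ker_smul s c hc

theorem Mem.smul {s : Module.End k M} (h : Mem G s) {c : k} (hc : c ≠ 0) : Mem G (c • s) :=
  ⟨smul_sq h.sq c c, smul_ne_zero hc h.ne, fun d => by rw [smul_smul]; exact h.fam _⟩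

theorem Min.smul {s : Module.End k M} (h : Min G s) {c : k} (hc : c ≠ 0) : Min G (c • s) :=
  ⟨h.1.smul hc, fun u hu => by rw [rk, range_smul_eq s hc]; exact h.2 u hu⟩

theorem Min.neg {s : Module.End k M} (h : Min G s) : Min G (-s) := by
  have := h.smul (neg_ne_zero.mpr (one_ne_zero (α := k)))
  rwa [neg_one_smul] at this

theorem Min.of_rk {s u : Module.End k M} (h : Min G s) (hu : Mem G u) (hle : rk u ≤ rk s) : Min G u :=
  ⟨hu, fun v hv => hle.trans (h.2 v hv)⟩

/-- The same commutator space and fixed space. -/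
def Same (s u : Module.End k M) : Prop :=
  LinearMap.ker u = LinearMap.ker s ∧ LinearMap.range u = LinearMap.range s

theorem Same.refl (s : Module.End k M) : Same s s := ⟨rfl, rfl⟩

theorem Same.symm {s u : Module.End k M} (h : Same s u) : Same u s := ⟨h.1.symm, h.2.symm⟩

theorem Same.trans {s u v : Module.End k M} (h : Same s u) (h' : Same u v) : Same s v :=
  ⟨h'.1.trans h.1, h'.2.trans h.2⟩

theorem Min.same {s u : Module.End k M} (h : Min G s) (hu : Mem G u) (hs : Same s u) : Min G u :=
  h.of_rk hu (by rw [rk, hs.2, rk])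

/-- A member with smaller kernel and commutator space has the same ones. -/
theorem Min.same_of_le [FiniteDimensional k M] {s u : Module.End k M} (h : Min G s) (hu : Mem G u)
    (hk : LinearMap.ker s ≤ LinearMap.ker u) (hr : LinearMap.range u ≤ LinearMap.range s) :
    Same s u ∧ Min G u := by
  have e1 : LinearMap.range u = LinearMap.range s := Submodule.eq_of_le_of_finrank_le hr (h.2 u hu)
  refine ⟨⟨?_, e1⟩, h.of_rk hu (by rw [rk, e1, rk])⟩
  refine (Submodule.eq_of_le_of_finrank_le hk ?_).symm
  have h1 := LinearMap.finrank_range_add_finrank_ker u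
  have h2 := LinearMap.finrank_range_add_finrank_ker s
  rw [e1] at h1
  omega

/-- Products of endomorphisms with the same spaces as a square-zero one vanish. -/
theorem mul_eq_zero_of_same {s u v : Module.End k M} (hs : s * s = 0) (hu : Same s u) (hv : Same s v) :
    u * v = 0 := by
  refine LinearMap.ext fun m => ?_
  have h1 : v m ∈ LinearMap.range s := hv.2 ▸ LinearMap.mem_range_self v m
  obtain ⟨n, hn⟩ := h1
  have h2 : v m ∈ LinearMap.ker u := by
    rw [hu.1, LinearMap.mem_ker, ← hn]
    exact LinearMap.congr_fun hs n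
  simpa using h2

/-- Sums of members with the same spaces. -/
theorem Min.add [FiniteDimensional k M] {s u v : Module.End k M} (h : Min G s) (hu : Mem G u) (hv : Mem G v)
    (hus : Same s u) (hvs : Same s v) (hne : u + v ≠ 0) : Same s (u + v) ∧ Min G (u + v) := by
  have hz := fun {a b : Module.End k M} (ha : Same s a) (hb : Same s b) => mul_eq_zero_of_same h.1.sq ha hb
  refine h.same_of_le ⟨by rw [add_mul, mul_add, mul_add, hz hus hus, hz hus hvs, hz hvs hus, hz hvs hvs]; simp, hne,
    fun c => ?_⟩ (fun m hm => ?_) ?_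
  · have := (hu.fam c).mul (hv.fam c)
    rwa [mul_add, mul_one, add_mul, one_mul, smul_mul_smul_comm, hz hus hvs, smul_zero, add_zero, add_assoc,
      ← smul_add] at this
  · rw [LinearMap.mem_ker, LinearMap.add_apply, LinearMap.mem_ker.mp (hus.1.ge hm), LinearMap.mem_ker.mp (hvs.1.ge hm),
      add_zero]
  · rintro _ ⟨m, rfl⟩
    exact Submodule.add_mem _ (hus.2.le ⟨m, rfl⟩) (hvs.2.le ⟨m, rfl⟩)

theorem mem_sameActionClass_iff {σ g : LinearMap.GeneralLinearGroup k M} :
    g ∈ Cfsg.sameActionClass G σ ↔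
      Min G ((g : Module.End k M) - 1) ∧ Same ((σ : Module.End k M) - 1) ((g : Module.End k M) - 1) :=
  ⟨fun h => ⟨mem_minimal_iff.mp h.1, h.2.1, h.2.2⟩, fun h => ⟨mem_minimal_iff.mpr h.1, h.2.1, h.2.2⟩⟩

/-- The subgroup `E(σ)`, element-wise. -/
theorem mem_sameActionSubgroup_iff [FiniteDimensional k M] {σ g : LinearMap.GeneralLinearGroup k M}
    (hσ : σ ∈ Cfsg.minimalQuadraticElements G) :
    g ∈ Cfsg.sameActionSubgroup G σ ↔
      g = 1 ∨ (Min G ((g : Module.End k M) - 1) ∧ Same ((σ : Module.End k M) - 1) ((g : Module.End k M) - 1)) := by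
  refine ⟨fun h => ?_, ?_⟩
  · have hs := mem_minimal_iff.mp hσ
    induction h using Subgroup.closure_induction with
    | mem x hx => exact Or.inr (mem_sameActionClass_iff.mp hx)
    | one => exact Or.inl rfl
    | mul x y _ _ hx hy =>
      rcases hx with rfl | ⟨hx, hxs⟩
      · rwa [one_mul]
      rcases hy with rfl | ⟨hy, hys⟩
      · rw [mul_one]; exact Or.inr ⟨hx, hxs⟩
      have h0 := mul_eq_zero_of_same hs.1.sq hxs hys
      have e : ((x * y : LinearMap.GeneralLinearGroup k M) : Module.End k M) - 1 =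
          ((x : Module.End k M) - 1) + ((y : Module.End k M) - 1) := by
        rw [sub_mul, mul_sub, one_mul, mul_one, sub_eq_zero] at h0
        rw [Units.val_mul, eq_add_of_sub_eq h0]
        abel
      by_cases hne : ((x : Module.End k M) - 1) + ((y : Module.End k M) - 1) = 0
      · exact Or.inl (Units.ext (sub_eq_zero.mp (e.trans hne)))
      · rw [e]
        obtain ⟨h1, h2⟩ := hs.add hx.1 hy.1 hxs hys hne
        exact Or.inr ⟨h2, h1⟩
    | inv x _ hx =>
      rcases hx with rfl | ⟨hx, hxs⟩
      · exact Or.inl inv_one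
      have e : ((x⁻¹ : LinearMap.GeneralLinearGroup k M) : Module.End k M) - 1 = -((x : Module.End k M) - 1) := by
        have h1 := one_add_mul_one_sub hx.1.sq
        rw [add_sub_cancel] at h1
        rw [Units.inv_eq_of_mul_eq_one_right h1]
        abel
      rw [e]
      refine Or.inr ⟨hx.neg, ?_, by rw [LinearMap.range_neg, hxs.2]⟩
      rw [← hxs.1]
      ext m
      simp only [LinearMap.mem_ker, LinearMap.neg_apply, neg_eq_zero]
  · rintro (rfl | h)
    · exact one_mem _
    · exact Subgroup.subset_closure (mem_sameActionClass_iff.mpr h)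

theorem mk_mem_sameActionSubgroup [FiniteDimensional k M] {σ : LinearMap.GeneralLinearGroup k M}
    (hσ : σ ∈ Cfsg.minimalQuadraticElements G) {u : Module.End k M} (hu : Mem G u)
    (hs : Same ((σ : Module.End k M) - 1) u) : mk u hu.sq ∈ Cfsg.sameActionSubgroup G σ := by
  rw [mem_sameActionSubgroup_iff hσ, mk_sub_one]
  exact Or.inr ⟨(mem_minimal_iff.mp hσ).same hu hs, hs⟩

theorem two_ne (hk2 : ringChar k ≠ 2) : (2 : k) ≠ 0 := Ring.two_ne_zero hk2

/-- There is a scalar other than `0` and `±1`. -/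
theorem exists_scalar (hk2 : ringChar k ≠ 2) (hk3 : Nat.card k ≠ 3) : ∃ a : k, a ≠ 0 ∧ a ^ 2 ≠ 1 := by
  by_contra h
  push Not at h
  classical
  have hne : (1 : k) ≠ -1 := fun e => two_ne hk2 (by linear_combination e)
  have hall : ∀ a : k, a ∈ ({0, 1, -1} : Finset k) := fun a => by
    by_cases ha : a = 0
    · simp [ha]
    · rcases sq_eq_one_iff.mp (h a ha) with e | e <;> simp [e]
  haveI : Fintype k := ⟨{0, 1, -1}, hall⟩
  refine hk3 ?_
  rw [Nat.card_eq_fintype_card]
  rw [← Finset.card_univ, ← Finset.eq_univ_of_forall hall]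
  rw [Finset.card_insert_of_notMem (by simp), Finset.card_pair hne]

end CfsgLib.QP
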