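/-
`SL₂` over `k[X]/(P)` is generated by the families `up c` and `lo (c α)`, `c ∈ k`.
-/
import Mathlib
import Cfsg.Agent.S5060
import Cfsg.Agent.Lib.RootSub.QP.Basic

set_option autoImplicit false

namespace CfsgLib.QP.Gen

open Matrix Polynomial

universe u

section Basic

variable {R : Type*} [CommRing R]

local notation "SL" => Matrix.SpecialLinearGroup (Fin 2) R

/-- Upper unitriangular matrix. -/
def up (t : R) : SL := ⟨!![1, t; 0, 1], by simp [Matrix.det_fin_two]⟩

/-- Lower unitriangular matrix. -/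
def lo (t : R) : SL := ⟨!![1, 0; t, 1], by simp [Matrix.det_fin_two]⟩

@[simp] theorem coe_up (t : R) : (up t).1 = !![1, t; 0, 1] := rfl
@[simp] theorem coe_lo (t : R) : (lo t).1 = !![1, 0; t, 1] := rfl

theorem ext_entries {g h : SL} (h00 : g.1 0 0 = h.1 0 0) (h01 : g.1 0 1 = h.1 0 1)
    (h10 : g.1 1 0 = h.1 1 0) (h11 : g.1 1 1 = h.1 1 1) : g = h := by
  apply Subtype.ext
  ext i j
  fin_cases i <;> fin_cases j <;> assumption

theorem det_eq (g : SL) : g.1 0 0 * g.1 1 1 - g.1 0 1 * g.1 1 0 = 1 := by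
  rw [← Matrix.det_fin_two]; exact g.2

theorem mul_entry (g h : SL) (i j : Fin 2) :
    (g * h).1 i j = g.1 i 0 * h.1 0 j + g.1 i 1 * h.1 1 j := by
  rw [Matrix.SpecialLinearGroup.coe_mul, Matrix.mul_apply, Fin.sum_univ_two]

theorem inv_entries (g : SL) :
    (g⁻¹).1 0 0 = g.1 1 1 ∧ (g⁻¹).1 0 1 = -g.1 0 1 ∧ (g⁻¹).1 1 0 = -g.1 1 0 ∧
      (g⁻¹).1 1 1 = g.1 0 0 := by
  rw [Matrix.SpecialLinearGroup.coe_inv, Matrix.adjugate_fin_two]
  exact ⟨rfl, rfl, rfl, rfl⟩

theorem up_mul (s t : R) : up s * up t = up (s + t) := by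
  apply ext_entries <;> simp [mul_entry, add_comm]

theorem lo_mul (s t : R) : lo s * lo t = lo (s + t) := by
  apply ext_entries <;> simp [mul_entry, add_comm]

theorem up_zero : up (0 : R) = 1 := by apply ext_entries <;> simp

theorem lo_zero : lo (0 : R) = 1 := by apply ext_entries <;> simp

theorem up_inv (t : R) : (up t)⁻¹ = up (-t) :=
  inv_eq_of_mul_eq_one_right (by rw [up_mul, add_neg_cancel, up_zero])

theorem lo_inv (t : R) : (lo t)⁻¹ = lo (-t) :=
  inv_eq_of_mul_eq_one_right (by rw [lo_mul, add_neg_cancel, lo_zero])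

theorem conj_up (g : SL) (t : R) :
    (g * up t * g⁻¹).1 0 1 = t * g.1 0 0 ^ 2 ∧ (g * up t * g⁻¹).1 1 0 = -(t * g.1 1 0 ^ 2) ∧
      (g * up t * g⁻¹).1 0 0 = 1 - t * g.1 0 0 * g.1 1 0 ∧ (g * up t * g⁻¹).1 1 1 = 1 + t * g.1 0 0 * g.1 1 0 := by
  obtain ⟨i00, i01, i10, i11⟩ := inv_entries g
  have hd := det_eq g
  refine ⟨?_, ?_, ?_, ?_⟩
  · rw [mul_entry (g * up t), mul_entry g, mul_entry g, i01, i11]; simp; ring
  · rw [mul_entry (g * up t), mul_entry g, mul_entry g, i00, i10]; simp; ring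
  · rw [mul_entry (g * up t), mul_entry g, mul_entry g, i00, i10]; simp; linear_combination hd
  · rw [mul_entry (g * up t), mul_entry g, mul_entry g, i01, i11]; simp; linear_combination hd

theorem conj_lo (g : SL) (t : R) :
    (g * lo t * g⁻¹).1 0 1 = -(t * g.1 0 1 ^ 2) ∧ (g * lo t * g⁻¹).1 1 0 = t * g.1 1 1 ^ 2 ∧
      (g * lo t * g⁻¹).1 0 0 = 1 + t * g.1 0 1 * g.1 1 1 ∧ (g * lo t * g⁻¹).1 1 1 = 1 - t * g.1 0 1 * g.1 1 1 := by
  obtain ⟨i00, i01, i10, i11⟩ := inv_entries g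
  have hd := det_eq g
  refine ⟨?_, ?_, ?_, ?_⟩
  · rw [mul_entry (g * lo t), mul_entry g, mul_entry g, i01, i11]; simp; ring
  · rw [mul_entry (g * lo t), mul_entry g, mul_entry g, i00, i10]; simp; ring
  · rw [mul_entry (g * lo t), mul_entry g, mul_entry g, i00, i10]; simp; linear_combination hd
  · rw [mul_entry (g * lo t), mul_entry g, mul_entry g, i01, i11]; simp; linear_combination hd

/-- The diagonal matrix with entries `a`, `b`, `a b = 1`. -/
def diag (a b : R) (h : a * b = 1) : SL := ⟨!![a, 0; 0, b], by rw [Matrix.det_fin_two_of]; linear_combination h⟩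

@[simp] theorem coe_diag (a b : R) (h : a * b = 1) : (diag a b h).1 = !![a, 0; 0, b] := rfl

theorem diag_eq (a b : R) (h : a * b = 1) : diag a b h = lo (b - 1) * up 1 * lo (a - 1) * up (-b) := by
  apply ext_entries <;> simp [mul_entry]
  · linear_combination h
  · linear_combination -h
  · linear_combination b * h

/-- Scaling of the off-diagonal entries, as a function. -/
def scaleFun (u v : R) (h : u * v = 1) (g : SL) : SL :=
  ⟨!![g.1 0 0, g.1 0 1 * u; g.1 1 0 * v, g.1 1 1], by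
    rw [Matrix.det_fin_two_of]; linear_combination det_eq g - (g.1 0 1 * g.1 1 0) * h⟩

@[simp] theorem coe_scaleFun (u v : R) (h : u * v = 1) (g : SL) :
    (scaleFun u v h g).1 = !![g.1 0 0, g.1 0 1 * u; g.1 1 0 * v, g.1 1 1] := rfl

/-- Scaling of the off-diagonal entries. -/
def scale (u v : R) (h : u * v = 1) : SL →* SL :=
  MonoidHom.mk' (scaleFun u v h) fun g g' => by
    apply ext_entries <;> simp [mul_entry]
    · linear_combination -(g.1 0 1 * g'.1 1 0) * h
    · ring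
    · ring
    · linear_combination -(g.1 1 0 * g'.1 0 1) * h

theorem scale_up (u v : R) (h : u * v = 1) (t : R) : scale u v h (up t) = up (t * u) := by
  apply ext_entries <;> simp [scale]

theorem scale_lo (u v : R) (h : u * v = 1) (t : R) : scale u v h (lo t) = lo (t * v) := by
  apply ext_entries <;> simp [scale]

/-- Exchange of the coordinates followed by scaling, as a function. -/
def twistFun (a b : R) (h : a * b = 1) (g : SL) : SL :=
  ⟨!![g.1 1 1, g.1 1 0 * b; g.1 0 1 * a, g.1 0 0], by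
    rw [Matrix.det_fin_two_of]; linear_combination det_eq g - (g.1 0 1 * g.1 1 0) * h⟩

@[simp] theorem coe_twistFun (a b : R) (h : a * b = 1) (g : SL) :
    (twistFun a b h g).1 = !![g.1 1 1, g.1 1 0 * b; g.1 0 1 * a, g.1 0 0] := rfl

/-- Exchange of the coordinates followed by scaling. -/
def twist (a b : R) (h : a * b = 1) : SL →* SL :=
  MonoidHom.mk' (twistFun a b h) fun g g' => by
    apply ext_entries <;> simp [mul_entry]
    · linear_combination -(g.1 1 0 * g'.1 0 1) * h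
    · ring
    · ring
    · linear_combination -(g.1 0 1 * g'.1 1 0) * h

theorem twist_up (a b : R) (h : a * b = 1) (t : R) : twist a b h (up t) = lo (t * a) := by
  apply ext_entries <;> simp [twist]

theorem twist_lo (a b : R) (h : a * b = 1) (t : R) : twist a b h (lo t) = up (t * b) := by
  apply ext_entries <;> simp [twist]

theorem map_up {S : Type*} [CommRing S] (f : R →+* S) (t : R) :
    Matrix.SpecialLinearGroup.map f (up t) = up (f t) := by
  apply ext_entries <;> simp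

theorem map_lo {S : Type*} [CommRing S] (f : R →+* S) (t : R) :
    Matrix.SpecialLinearGroup.map f (lo t) = lo (f t) := by
  apply ext_entries <;> simp

/-- A non-scalar normal subgroup of `SL₂` over a field contains a transvection. -/
theorem exists_lo {K : Type*} [Field K] (N : Subgroup (Matrix.SpecialLinearGroup (Fin 2) K))
    (hN : ∀ g, ∀ w ∈ N, g * w * g⁻¹ ∈ N) {t : K} (ht : t ≠ 0) (ht2 : t ^ 2 ≠ 1) (h2 : (2 : K) ≠ 0)
    {w : Matrix.SpecialLinearGroup (Fin 2) K} (hw : w ∈ N) (h10 : w.1 1 0 ≠ 0) : ∃ y ≠ 0, lo y ∈ N := by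
  have hnorm : ∀ w ∈ N, w.1 1 0 ≠ 0 → ∃ w' ∈ N, w'.1 0 0 = 0 ∧ w'.1 1 0 ≠ 0 ∧ w'.1 1 1 = w.1 0 0 + w.1 1 1 := by
    intro w hw h10
    obtain ⟨i00, i01, i10, i11⟩ := inv_entries (up (-(w.1 0 0) / w.1 1 0))
    refine ⟨_, hN (up (-(w.1 0 0) / w.1 1 0)) w hw, ?_, ?_, ?_⟩ <;>
      simp only [mul_entry, i00, i01, i10, i11] <;> simp
    · field_simp; ring
    · exact h10
    · field_simp
  obtain ⟨w₁, hw₁, a1, b1, -⟩ := hnorm w hw h10
  -- a member with non-zero trace
  obtain ⟨w₂, hw₂, a2, b2, e2⟩ : ∃ w₂ ∈ N, w₂.1 0 0 = 0 ∧ w₂.1 1 0 ≠ 0 ∧ w₂.1 1 1 ≠ 0 := by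
    by_cases he : w₁.1 1 1 = 0
    · obtain ⟨a, ha, ha2⟩ : ∃ a : K, a ≠ 0 ∧ 2 + a ^ 2 ≠ 0 := by
        by_cases h3 : (3 : K) = 0
        · exact ⟨t, ht, fun e => ht2 (by linear_combination e - h3)⟩
        · exact ⟨1, one_ne_zero, by norm_num; exact h3⟩
      have hd := det_eq w₁
      rw [a1, he] at hd
      set v := w₁ * (up (a / w₁.1 1 0) * w₁⁻¹ * (up (a / w₁.1 1 0))⁻¹) with hv
      have hvN : v ∈ N := mul_mem hw₁ (hN _ _ (inv_mem hw₁))
      obtain ⟨i00, i01, i10, i11⟩ := inv_entries w₁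
      have v10 : v.1 1 0 = -(a * w₁.1 1 0) := by
        rw [hv, up_inv]; simp only [mul_entry, i00, i01, i10, i11]; simp [a1, he]; field_simp
      have vtr : v.1 0 0 + v.1 1 1 = 2 + a ^ 2 := by
        rw [hv, up_inv]; simp only [mul_entry, i00, i01, i10, i11]; simp [a1, he]; field_simp
        linear_combination 2 * hd
      obtain ⟨w₃, h3, a3, b3, e3⟩ := hnorm v hvN (by rw [v10]; exact neg_ne_zero.mpr (mul_ne_zero ha b1))
      exact ⟨w₃, h3, a3, b3, by rw [e3, vtr]; exact ha2⟩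
    · exact ⟨w₁, hw₁, a1, b1, he⟩
  set d := diag t t⁻¹ (mul_inv_cancel₀ ht) with hd'
  set l := w₂ * (d * w₂⁻¹ * d⁻¹) with hl
  have hlN : l ∈ N := mul_mem hw₂ (hN _ _ (inv_mem hw₂))
  obtain ⟨i00, i01, i10, i11⟩ := inv_entries w₂
  obtain ⟨j00, j01, j10, j11⟩ := inv_entries d
  have hdd := det_eq w₂
  rw [a2] at hdd
  have l01 : l.1 0 1 = 0 := by
    rw [hl]; simp only [mul_entry, i00, i01, i10, i11, j00, j01, j10, j11]; simp [hd', a2]
  have l00 : l.1 0 0 = t⁻¹ ^ 2 := by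
    rw [hl]; simp only [mul_entry, i00, i01, i10, i11, j00, j01, j10, j11]; simp [hd', a2]
    field_simp; linear_combination hdd
  have l11 : l.1 1 1 = t ^ 2 := by
    rw [hl]; simp only [mul_entry, i00, i01, i10, i11, j00, j01, j10, j11]; simp [hd', a2]
    field_simp; linear_combination hdd
  have l10 : l.1 1 0 = w₂.1 1 0 * w₂.1 1 1 * (1 - t⁻¹ ^ 2) := by
    rw [hl]; simp only [mul_entry, i00, i01, i10, i11, j00, j01, j10, j11]; simp [hd', a2]
    field_simp; ring
  refine ⟨w₂.1 1 0 * w₂.1 1 1 * (1 - t⁻¹ ^ 2) * (1 - t ^ 2), ?_, ?_⟩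
  · refine mul_ne_zero (mul_ne_zero (mul_ne_zero b2 e2) (sub_ne_zero.mpr fun e => ht2 ?_))
      (sub_ne_zero.mpr (Ne.symm ht2))
    rw [inv_pow] at e
    exact inv_eq_one.mp e.symm
  · have hm : d * l * d⁻¹ * l⁻¹ ∈ N := mul_mem (hN d l hlN) (inv_mem hlN)
    obtain ⟨m00, m01, m10, m11⟩ := inv_entries l
    convert hm using 1
    apply ext_entries <;> simp only [mul_entry, m00, m01, m10, m11, j00, j01, j10, j11, l00, l01, l10, l11] <;>
      simp [hd'] <;> field_simp <;> ring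

end Basic

section Elem

variable (k : Type*) [Field k] {R : Type*} [CommRing R] [Algebra k R]

/-- The subgroup generated by the two families. -/
def elem (α : R) : Subgroup (Matrix.SpecialLinearGroup (Fin 2) R) :=
  Subgroup.closure ({g | ∃ c : k, g = up (algebraMap k R c)} ∪ {g | ∃ c : k, g = lo (algebraMap k R c * α)})

theorem up_mem_elem (α : R) (c : k) : up (algebraMap k R c) ∈ elem k α :=
  Subgroup.subset_closure (Or.inl ⟨c, rfl⟩)

theorem lo_mem_elem (α : R) (c : k) : lo (algebraMap k R c * α) ∈ elem k α :=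
  Subgroup.subset_closure (Or.inr ⟨c, rfl⟩)

theorem map_elem {S : Type*} [CommRing S] [Algebra k S] (f : R →ₐ[k] S) (α : R) :
    (elem k α).map (Matrix.SpecialLinearGroup.map (f : R →+* S)) = elem k (f α) := by
  rw [elem, elem, MonoidHom.map_closure]
  congr 1
  ext g
  simp only [Set.image_union, Set.mem_union, Set.mem_image, Set.mem_setOf_eq]
  constructor
  · rintro (⟨_, ⟨c, rfl⟩, rfl⟩ | ⟨_, ⟨c, rfl⟩, rfl⟩)
    · exact Or.inl ⟨c, by rw [map_up]; simp⟩
    · exact Or.inr ⟨c, by rw [map_lo]; simp⟩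
  · rintro (⟨c, rfl⟩ | ⟨c, rfl⟩)
    · exact Or.inl ⟨_, ⟨c, rfl⟩, by rw [map_up]; simp⟩
    · exact Or.inr ⟨_, ⟨c, rfl⟩, by rw [map_lo]; simp⟩

theorem smul_up_mem {α : R} {y : R} (hy : up y ∈ elem k α) (c : k) : up (algebraMap k R c * y) ∈ elem k α := by
  by_cases hc : c = 0
  · rw [hc, map_zero, zero_mul, up_zero]; exact one_mem _
  have h : algebraMap k R c * algebraMap k R c⁻¹ = 1 := by rw [← map_mul, mul_inv_cancel₀ hc, map_one]
  have hle : elem k α ≤ (elem k α).comap (scale _ _ h) := by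
    rw [elem, Subgroup.closure_le]
    rintro g (⟨d, rfl⟩ | ⟨d, rfl⟩)
    · show scale _ _ h _ ∈ elem k α
      rw [scale_up, ← map_mul]; exact up_mem_elem k α _
    · show scale _ _ h _ ∈ elem k α
      rw [scale_lo, mul_right_comm, ← map_mul]; exact lo_mem_elem k α _
  have := hle hy
  rwa [Subgroup.mem_comap, scale_up, mul_comm] at this

/-- The inductive step. -/
theorem step {R' K : Type*} [CommRing R'] [Algebra k R'] [Field K] [Algebra k K] (h2 : (2 : k) ≠ 0) {t : k}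
    (ht : t ≠ 0) (ht2 : t ^ 2 ≠ 1) (π : R →ₐ[k] R') (ρ : R →ₐ[k] K) (α : R)
    (hπ : Function.Surjective π) (hρ : Function.Surjective ρ) (hu : IsUnit α)
    (hπΓ : elem k (π α) = ⊤) (hρΓ : elem k (ρ α) = ⊤)
    (hJρ : ∀ j r, π j = 0 → ρ r = 0 → j * r = 0)
    (hJ1 : ∀ j j', π j = 0 → j ≠ 0 → π j' = 0 → ∃ r, j' = j * r)
    (hP : ∃ p : k[X], aeval (π α) p = 0 ∧ aeval α p ≠ 0) : elem k α = ⊤ := by
  set Γ := elem k α with hΓ
  have liftπ : ∀ g', ∃ g ∈ Γ, Matrix.SpecialLinearGroup.map (π : R →+* R') g = g' := fun g' => by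
    rw [← Subgroup.mem_map, map_elem, hπΓ]; exact Subgroup.mem_top _
  have liftρ : ∀ g', ∃ g ∈ Γ, Matrix.SpecialLinearGroup.map (ρ : R →+* K) g = g' := fun g' => by
    rw [← Subgroup.mem_map, map_elem, hρΓ]; exact Subgroup.mem_top _
  have entρ : ∀ {g : Matrix.SpecialLinearGroup (Fin 2) R} {g'}, Matrix.SpecialLinearGroup.map (ρ : R →+* K) g = g' →
      ∀ i j, ρ (g.1 i j) = g'.1 i j := fun e i j => e ▸ rfl
  have entπ : ∀ {g : Matrix.SpecialLinearGroup (Fin 2) R} {g'}, Matrix.SpecialLinearGroup.map (π : R →+* R') g = g' →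
      ∀ i j, π (g.1 i j) = g'.1 i j := fun e i j => e ▸ rfl
  obtain ⟨W0, hW0Γ, hW0⟩ := liftρ ⟨!![0, -1; 1, 0], by simp [Matrix.det_fin_two_of]⟩
  have w10 : ρ (W0.1 1 0) = 1 := by simpa using entρ hW0 1 0
  have w11 : ρ (W0.1 1 1) = 0 := by simpa using entρ hW0 1 1
  obtain ⟨β, hαβ⟩ := hu.exists_right_inv
  have hθ : ∀ g ∈ Γ, twist α β hαβ g ∈ Γ := by
    suffices Γ ≤ Γ.comap (twist α β hαβ) from fun g hg => this hg
    rw [hΓ, elem, Subgroup.closure_le]
    rintro g (⟨c, rfl⟩ | ⟨c, rfl⟩)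
    · show twist α β hαβ _ ∈ elem k α
      rw [twist_up]; exact lo_mem_elem k α c
    · show twist α β hαβ _ ∈ elem k α
      rw [twist_lo, mul_assoc, hαβ, mul_one]; exact up_mem_elem k α c
  have hlo : ∀ y, up y ∈ Γ → lo (y * α) ∈ Γ := fun y h => twist_up α β hαβ y ▸ hθ _ h
  have hup : ∀ y, lo y ∈ Γ → up (y * β) ∈ Γ := fun y h => twist_lo α β hαβ y ▸ hθ _ h
  have hJeq : ∀ {j r r'}, π j = 0 → ρ r = ρ r' → j * r = j * r' := fun {j r r'} hj e => by
    have := hJρ j (r - r') hj (by rw [map_sub, e, sub_self]); rw [mul_sub, sub_eq_zero] at this; exact this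
  -- a transvection congruent to the identity gives everything
  have hfull : ∀ j, π j = 0 → j ≠ 0 → up j ∈ Γ → Γ = ⊤ := by
    intro j hj hj0 hjΓ
    have hjr : ∀ r, up (j * r) ∈ Γ := by
      have hsq : ∀ a : K, ∀ r, ρ r = a ^ 2 → up (j * r) ∈ Γ := by
        intro a r hr
        by_cases ha : a = 0
        · rw [hJρ j r hj (by rw [hr, ha]; simp), up_zero]; exact one_mem _
        obtain ⟨g, hg, hgρ⟩ := liftρ (diag a a⁻¹ (mul_inv_cancel₀ ha))
        obtain ⟨c01, c10, c00, c11⟩ := conj_up g j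
        have e1 : j * g.1 1 0 = 0 := hJρ _ _ hj (by simpa using entρ hgρ 1 0)
        have e : g * up j * g⁻¹ = up (j * r) := by
          refine ext_entries ?_ ?_ ?_ ?_
          · rw [c00, mul_right_comm, e1]; simp
          · rw [c01, hJeq hj (r' := r) (by rw [map_pow, hr, entρ hgρ 0 0]; simp)]; simp
          · rw [c10, pow_two, ← mul_assoc, e1]; simp
          · rw [c11, mul_right_comm, e1]; simp
        exact e ▸ mul_mem (mul_mem hg hjΓ) (inv_mem hg)
      intro r
      have h2K : (2 : K) ≠ 0 := fun e => h2 ((algebraMap k K).injective (by rw [map_ofNat, map_zero]; exact e))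
      obtain ⟨r₁, hr₁⟩ := hρ (((ρ r + 1) / 2) ^ 2)
      obtain ⟨r₂, hr₂⟩ := hρ (((ρ r - 1) / 2) ^ 2)
      have e : j * r = j * r₁ + -(j * r₂) := by
        rw [← sub_eq_add_neg, ← mul_sub]
        exact hJeq hj (by rw [map_sub, hr₁, hr₂]; field_simp; ring)
      rw [e, ← up_mul, ← up_inv]
      exact mul_mem (hsq _ _ hr₁) (inv_mem (hsq _ _ hr₂))
    have hupJ : ∀ j', π j' = 0 → up j' ∈ Γ := fun j' hj' => by
      obtain ⟨r, rfl⟩ := hJ1 j j' hj hj0 hj'
      exact hjr r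
    have hloJ : ∀ j', π j' = 0 → lo j' ∈ Γ := fun j' hj' => by
      simpa [mul_assoc, mul_comm β α, hαβ] using hlo (j' * β) (hupJ _ (by rw [map_mul, hj', zero_mul]))
    have hker : ∀ g, Matrix.SpecialLinearGroup.map (π : R →+* R') g = 1 → g ∈ Γ := by
      intro g hg
      have g00 : π (g.1 0 0 - 1) = 0 := by rw [map_sub, map_one, entπ hg 0 0]; simp
      have g01 : π (g.1 0 1) = 0 := by rw [entπ hg 0 1]; simp
      have g10 : π (g.1 1 0) = 0 := by rw [entπ hg 1 0]; simp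
      by_cases hb : ρ j = 0
      · have hJ0 : ∀ j', π j' = 0 → ρ j' = 0 := fun j' hj' => by
          obtain ⟨r, rfl⟩ := hJ1 j j' hj hj0 hj'
          rw [map_mul, hb, zero_mul]
        have hi := hJρ _ _ g00 (hJ0 _ g00)
        have hinv : g.1 0 0 * (2 - g.1 0 0) = 1 := by linear_combination -hi
        have e : g = lo (g.1 1 0 * (2 - g.1 0 0)) * diag _ _ hinv * up ((2 - g.1 0 0) * g.1 0 1) := by
          apply ext_entries <;> simp [mul_entry]
          · linear_combination -(g.1 0 1) * hinv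
          · linear_combination -(g.1 1 0) * hinv
          · linear_combination (2 - g.1 0 0) * det_eq g - (g.1 1 1 + g.1 1 0 * (2 - g.1 0 0) * g.1 0 1) * hinv
        have gd : π (2 - g.1 0 0 - 1) = 0 := by
          rw [show 2 - g.1 0 0 - 1 = -(g.1 0 0 - 1) by ring, map_neg, g00, neg_zero]
        rw [e, diag_eq]
        refine mul_mem (mul_mem (hloJ _ (by rw [map_mul, g10, zero_mul]))
          (mul_mem (mul_mem (mul_mem (hloJ _ gd) ?_) (hloJ _ g00)) ?_))
          (hupJ _ (by rw [map_mul, g01, mul_zero]))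
        · simpa using up_mem_elem k α 1
        · rw [show -(2 - g.1 0 0) = -1 + -(2 - g.1 0 0 - 1) by ring, ← up_mul]
          exact mul_mem (by simpa using up_mem_elem k α (-1)) (hupJ _ (by rw [map_neg, gd, neg_zero]))
      · -- the kernel is the second factor
        have hinj : ∀ d, π d = 0 → ρ d = 0 → d = 0 := fun d hd hd' => by
          by_contra hd0
          obtain ⟨r, e⟩ := hJ1 d j hd hd0 hj
          exact hb (by rw [e, map_mul, hd', zero_mul])
        have hJK : ∀ x : K, ∃ j', π j' = 0 ∧ ρ j' = x := fun x => by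
          obtain ⟨r, hr⟩ := hρ (x / ρ j)
          exact ⟨j * r, by rw [map_mul, hj, zero_mul], by rw [map_mul, hr]; field_simp⟩
        have hsurj : (Γ ⊓ (Matrix.SpecialLinearGroup.map (π : R →+* R')).ker).map
            (Matrix.SpecialLinearGroup.map (ρ : R →+* K)) = ⊤ := by
          rw [eq_top_iff, ← hρΓ, elem, Subgroup.closure_le]
          rintro x (⟨c, rfl⟩ | ⟨c, rfl⟩) <;> [obtain ⟨j', hj', e⟩ := hJK (algebraMap k K c);
            obtain ⟨j', hj', e⟩ := hJK (algebraMap k K c * ρ α)]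
          · refine ⟨up j', ⟨hupJ _ hj', ?_⟩, by rw [map_up]; exact congrArg up e⟩
            show Matrix.SpecialLinearGroup.map (π : R →+* R') (up j') = 1
            rw [map_up, show (π : R →+* R') j' = 0 from hj', up_zero]
          · refine ⟨lo j', ⟨hloJ _ hj', ?_⟩, by rw [map_lo]; exact congrArg lo e⟩
            show Matrix.SpecialLinearGroup.map (π : R →+* R') (lo j') = 1
            rw [map_lo, show (π : R →+* R') j' = 0 from hj', lo_zero]
        obtain ⟨h, ⟨hhΓ, hhπ⟩, hhρ⟩ : Matrix.SpecialLinearGroup.map (ρ : R →+* K) g ∈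
            (Γ ⊓ (Matrix.SpecialLinearGroup.map (π : R →+* R')).ker).map (Matrix.SpecialLinearGroup.map (ρ : R →+* K)) :=
          hsurj.symm ▸ Subgroup.mem_top _
        have e : h = g := by
          apply Subtype.ext
          ext a b
          refine sub_eq_zero.mp (hinj _ ?_ ?_)
          · rw [map_sub, entπ (MonoidHom.mem_ker.mp hhπ), entπ hg, sub_self]
          · rw [map_sub, entρ hhρ]
            show _ - ρ (g.1 a b) = 0
            exact sub_self _
        exact e ▸ hhΓ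
    rw [eq_top_iff]
    intro g _
    obtain ⟨h, hh, e⟩ := liftπ (Matrix.SpecialLinearGroup.map (π : R →+* R') g)
    have := mul_mem (hker (g * h⁻¹) (by rw [map_mul, map_inv, e, mul_inv_cancel])) hh
    rwa [inv_mul_cancel_right] at this
  by_contra hne
  have hA : ∀ j, π j = 0 → up j ∈ Γ → j = 0 := fun j hj h => by_contra fun h0 => hne (hfull j hj h0 h)
  have hB : ∀ j, π j = 0 → lo j ∈ Γ → j = 0 := fun j hj h => by
    have := hA _ (by rw [map_mul, hj, zero_mul]) (hup j h)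
    linear_combination α * this - j * hαβ
  -- the kernel elements are scalar
  have hker10 : ∀ g ∈ Γ, Matrix.SpecialLinearGroup.map (π : R →+* R') g = 1 → g.1 1 0 = 0 := by
    intro g hgΓ hg
    have g00 : π (g.1 0 0 - 1) = 0 := by rw [map_sub, map_one, entπ hg 0 0]; simp
    have g11 : π (g.1 1 1 - 1) = 0 := by rw [map_sub, map_one, entπ hg 1 1]; simp
    have g01 : π (g.1 0 1) = 0 := by rw [entπ hg 0 1]; simp
    have g10 : π (g.1 1 0) = 0 := by rw [entπ hg 1 0]; simp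
    by_contra h10
    by_cases hb : ρ (g.1 1 0) = 0
    · have hJ0 : ∀ j, π j = 0 → ρ j = 0 := fun j hj => by
        obtain ⟨r, rfl⟩ := hJ1 _ j g10 h10 hj
        rw [map_mul, hb, zero_mul]
      have z : ∀ {x y}, π x = 0 → π y = 0 → x * y = 0 := fun {x y} hx hy => hJρ x y hx (hJ0 y hy)
      obtain ⟨i00, i01, i10, i11⟩ := inv_entries g
      have hu1 : up (1 : R) ∈ Γ := by simpa using up_mem_elem k α 1
      set c := up (1 : R) * g * (up (1 : R))⁻¹ * g⁻¹ with hc
      have hcΓ : c ∈ Γ := mul_mem (mul_mem (mul_mem hu1 hgΓ) (inv_mem hu1)) (inv_mem hgΓ)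
      have c00 : c.1 0 0 = 1 + g.1 1 0 := by
        rw [hc, up_inv]; simp only [mul_entry, i00, i01, i10, i11]; simp
        linear_combination det_eq g + z g10 g10 + z g10 g00
      have c10 : c.1 1 0 = 0 := by
        rw [hc, up_inv]; simp only [mul_entry, i00, i01, i10, i11]; simp
        linear_combination z g10 g10
      have c11 : c.1 1 1 = 1 - g.1 1 0 := by
        rw [hc, up_inv]; simp only [mul_entry, i00, i01, i10, i11]; simp
        linear_combination det_eq g - z g10 g00 + 0 * z g10 g01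
      obtain ⟨k00, k01, k10, k11⟩ := inv_entries c
      have e : up (1 : R) * c * (up (1 : R))⁻¹ * c⁻¹ = up (-(2 * g.1 1 0)) := by
        rw [up_inv]
        apply ext_entries <;> simp only [mul_entry, k00, k01, k10, k11] <;> simp [c00, c10, c11]
        · linear_combination -z g10 g10
        · linear_combination -2 * z g10 g10
        · linear_combination -z g10 g10
      refine h10 ?_
      have hj : π (-(2 * g.1 1 0)) = 0 := by rw [map_neg, map_mul, g10, mul_zero, neg_zero]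
      have := hA _ hj (e ▸ mul_mem (mul_mem (mul_mem hu1 hcΓ) (inv_mem hu1)) (inv_mem hcΓ))
      have hi : algebraMap k R 2⁻¹ * 2 = 1 := by
        rw [← map_ofNat (algebraMap k R) 2, ← map_mul, inv_mul_cancel₀ h2, map_one]
      linear_combination -(algebraMap k R 2⁻¹) * this - (g.1 1 0) * hi
    · -- a transvection in the image of the kernel
      set N := (Γ ⊓ (Matrix.SpecialLinearGroup.map (π : R →+* R')).ker).map (Matrix.SpecialLinearGroup.map (ρ : R →+* K))
      have hN : ∀ x, ∀ w ∈ N, x * w * x⁻¹ ∈ N := by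
        rintro x _ ⟨w, ⟨hwΓ, hwπ⟩, rfl⟩
        obtain ⟨x', hx', rfl⟩ := liftρ x
        refine ⟨x' * w * x'⁻¹, ⟨Γ.mul_mem (Γ.mul_mem hx' hwΓ) (Γ.inv_mem hx'), ?_⟩, by simp⟩
        exact (inferInstance : (Matrix.SpecialLinearGroup.map (π : R →+* R')).ker.Normal).conj_mem w hwπ x'
      have h2K : (2 : K) ≠ 0 := fun e => h2 ((algebraMap k K).injective (by rw [map_ofNat, map_zero]; exact e))
      obtain ⟨y, hy, w, ⟨hwΓ, hwπ⟩, hwρ⟩ := exists_lo N hN (t := algebraMap k K t) (by simpa using ht)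
        (fun e => ht2 ((algebraMap k K).injective (by rw [map_pow, map_one]; exact e))) h2K
        (w := Matrix.SpecialLinearGroup.map (ρ : R →+* K) g) ⟨g, ⟨hgΓ, hg⟩, rfl⟩ hb
      have hinj : ∀ d, π d = 0 → ρ d = 0 → d = 0 := fun d hd hd' => by
        by_contra hd0
        obtain ⟨r, e⟩ := hJ1 d (g.1 1 0) hd hd0 g10
        exact hb (by rw [e, map_mul, hd', zero_mul])
      have he := entπ (MonoidHom.mem_ker.mp hwπ)
      have e : w = lo (w.1 1 0) := by
        refine ext_entries (sub_eq_zero.mp (hinj _ ?_ ?_)) (hinj _ ?_ ?_) (by simp) (sub_eq_zero.mp (hinj _ ?_ ?_))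
        · simp [he]
        · simp [entρ hwρ]
        · simp [he]
        · simp [entρ hwρ]
        · simp [he]
        · simp [entρ hwρ]
      refine hy ?_
      have := hB (w.1 1 0) (by simp [he]) (e ▸ hwΓ)
      simpa [entρ hwρ] using congrArg ρ this
  have hscal : ∀ g ∈ Γ, Matrix.SpecialLinearGroup.map (π : R →+* R') g = 1 →
      g.1 1 0 = 0 ∧ g.1 0 1 = 0 ∧ g.1 0 0 = g.1 1 1 := by
    intro g hgΓ hg
    have h0 := hker10 g hgΓ hg
    obtain ⟨i00, i01, i10, i11⟩ := inv_entries W0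
    have hconj : ∀ x ∈ Γ, x * g * x⁻¹ ∈ Γ ∧ Matrix.SpecialLinearGroup.map (π : R →+* R') (x * g * x⁻¹) = 1 :=
      fun x hx => ⟨mul_mem (mul_mem hx hgΓ) (inv_mem hx), by rw [map_mul, map_mul, hg, mul_one, map_inv, mul_inv_cancel]⟩
    have form : ∀ x : Matrix.SpecialLinearGroup (Fin 2) R, (x * g * x⁻¹).1 1 0 =
        x.1 1 0 * x.1 1 1 * (g.1 0 0 - g.1 1 1) + x.1 1 1 ^ 2 * g.1 1 0 - x.1 1 0 ^ 2 * g.1 0 1 := fun x => by
      obtain ⟨j00, j01, j10, j11⟩ := inv_entries x
      simp only [mul_entry, j00, j10]; ring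
    have g01 : π (g.1 0 1) = 0 := by rw [entπ hg 0 1]; simp
    have gdd : π (g.1 0 0 - g.1 1 1) = 0 := by rw [map_sub, entπ hg 0 0, entπ hg 1 1]; simp
    have h01 : g.1 0 1 = 0 := by
      have e := hker10 _ (hconj W0 hW0Γ).1 (hconj W0 hW0Γ).2
      rw [form, h0] at e
      have e1 := hJρ _ _ gdd w11
      have e2 : g.1 0 1 * W0.1 1 0 ^ 2 = g.1 0 1 * 1 := hJeq g01 (by rw [map_pow, w10, map_one, one_pow])
      linear_combination -e - e2 + W0.1 1 0 * e1
    obtain ⟨L, hL, hLρ⟩ := liftρ (lo 1)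
    have e := hker10 _ (hconj L hL).1 (hconj L hL).2
    rw [form, h0, h01] at e
    have e3 : (g.1 0 0 - g.1 1 1) * (L.1 1 0 * L.1 1 1) = (g.1 0 0 - g.1 1 1) * 1 :=
      hJeq gdd (by simp [entρ hLρ])
    refine ⟨h0, h01, ?_⟩
    linear_combination e - e3
  have hi2 : algebraMap k R 2⁻¹ * 2 = 1 := by
    rw [← map_ofNat (algebraMap k R) 2, ← map_mul, inv_mul_cancel₀ h2, map_one]
  have hu1 : up (1 : R) ∈ Γ := by simpa using up_mem_elem k α 1
  have hliftA : ∀ z, ∃ y, π y = z ∧ up y ∈ Γ := by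
    intro z
    obtain ⟨g, hg, hgπ⟩ := liftπ (up (algebraMap k R' 2⁻¹ * z))
    obtain ⟨i00, i01, i10, i11⟩ := inv_entries g
    set w := g * up 1 * g⁻¹ * (up (1 : R))⁻¹ with hw
    obtain ⟨s10, s01, sdd⟩ := hscal w (mul_mem (mul_mem (mul_mem hg hu1) (inv_mem hg)) (inv_mem hu1))
      (by rw [hw, map_mul, map_mul, map_mul, map_inv, map_inv, hgπ, map_up, map_one, up_mul, up_inv, up_mul, up_inv,
            up_mul]; simp [up_zero])
    obtain ⟨c01, c10, c00, c11⟩ := conj_up g 1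
    have e : g * up 1 * g⁻¹ = w * up 1 := by rw [hw, inv_mul_cancel_right]
    have e00 : 1 - 1 * g.1 0 0 * g.1 1 0 = w.1 0 0 := by rw [← c00, e, mul_entry]; simp [s01]
    have e11 : 1 + 1 * g.1 0 0 * g.1 1 0 = w.1 0 0 := by rw [← c11, e, mul_entry]; simp [s10, sdd]
    have e01 : 1 * g.1 0 0 ^ 2 = w.1 0 0 := by rw [← c01, e, mul_entry]; simp [s01]
    have e10 : -(1 * g.1 1 0 ^ 2) = 0 := by rw [← c10, e, mul_entry]; simp [s10]
    have hs : w.1 0 0 = 1 := by linear_combination -(algebraMap k R 2⁻¹) * (e00 + e11) + (1 - w.1 0 0) * hi2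
    have hprod : g.1 0 0 * g.1 1 0 = 0 := by linear_combination -e00 - hs
    have hd := det_eq g
    have h10 : g.1 1 0 = 0 := by
      linear_combination -(g.1 1 0) * hd + g.1 1 1 * hprod + g.1 0 1 * e10
    have hsq : g.1 0 0 * g.1 0 0 = 1 := by linear_combination e01 + hs
    have h11 : g.1 1 1 = g.1 0 0 := by
      linear_combination g.1 0 0 * hd - g.1 1 1 * hsq + g.1 0 0 * g.1 0 1 * h10
    refine ⟨(g * g).1 0 1, ?_, ?_⟩
    · rw [mul_entry, map_add, map_mul, map_mul, entπ hgπ, entπ hgπ, entπ hgπ]; simp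
      have : (2 : R') * algebraMap k R' 2⁻¹ = 1 := by
        rw [← map_ofNat (algebraMap k R') 2, ← map_mul, mul_inv_cancel₀ h2, map_one]
      linear_combination z * this
    · convert mul_mem hg hg using 1
      apply ext_entries <;> simp [mul_entry, h10, h11] <;> linear_combination -hsq
  have huniq : ∀ y y', π y = π y' → up y ∈ Γ → up y' ∈ Γ → y = y' := fun y y' e h h' => by
    refine sub_eq_zero.mp (hA _ (by rw [map_sub, e, sub_self]) ?_)
    rw [sub_eq_add_neg, ← up_mul, ← up_inv]; exact mul_mem h (inv_mem h')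
  have hβπ : π α * π β = 1 := by rw [← map_mul, hαβ, map_one]
  -- the monomial element over `-α`
  obtain ⟨Z, hπZ, hZ⟩ := hliftA (π β)
  set w := up Z * lo (-α) * up Z with hw
  have hwΓ : w ∈ Γ := mul_mem (mul_mem hZ (by simpa [neg_mul] using lo_mem_elem k α (-1))) hZ
  have w00' : w.1 0 0 = 1 + Z * -α := by rw [hw]; simp [mul_entry]
  have w10' : w.1 1 0 = -α := by rw [hw]; simp [mul_entry]
  have hπw : π (w.1 0 0) = 0 := by rw [w00', map_add, map_mul, map_neg, hπZ, map_one]; linear_combination -hβπ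
  have key : ∀ x, up x ∈ Γ → x * w.1 0 0 ^ 2 = 0 ∧ x * w.1 0 0 * w.1 1 0 = 0 ∧ up (-(x * α)) ∈ Γ := by
    intro x hx
    obtain ⟨c01, c10, c00, c11⟩ := conj_up w x
    set q := w * up x * w⁻¹
    have hqΓ : q ∈ Γ := mul_mem (mul_mem hwΓ hx) (inv_mem hwΓ)
    clear_value q
    obtain ⟨y', hy'π, hy'⟩ := hliftA (-(π x * π α))
    have hy : lo (y' * α) ∈ Γ := hlo _ hy'
    have hπ11 : π (q.1 1 1) = 1 := by rw [c11, map_add, map_mul, map_mul, hπw]; simp
    have hπ00 : π (q.1 0 0) = 1 := by rw [c00, map_sub, map_mul, map_mul, hπw]; simp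
    have hπ01 : π (q.1 0 1) = 0 := by rw [c01, map_mul, map_pow, hπw]; simp
    have hπ10 : π (q.1 1 0) = π (y' * α) := by
      rw [c10, w10', map_neg, map_mul, map_pow, map_neg, map_mul, hy'π]; ring
    obtain ⟨s10, s01, sdd⟩ := hscal (q * lo (-(y' * α))) (mul_mem hqΓ (by rw [← lo_inv]; exact inv_mem hy)) (by
      apply ext_entries <;> simp [mul_entry, hπ11, hπ00, hπ01, hπ10])
    have e01 : q.1 0 1 = 0 := by rw [mul_entry, coe_lo] at s01; simpa using s01
    have edd : q.1 0 0 = q.1 1 1 := by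
      rw [mul_entry, mul_entry, coe_lo, e01] at sdd; simpa using sdd
    have e10 : q.1 1 0 = q.1 1 1 * (y' * α) := by
      rw [mul_entry, coe_lo] at s10; simp at s10; linear_combination s10
    have h0 : x * w.1 0 0 * w.1 1 0 = 0 := by
      linear_combination -(algebraMap k R 2⁻¹) * (edd - c00 + c11) - (x * w.1 0 0 * w.1 1 0) * hi2
    refine ⟨by rw [← c01, e01], h0, ?_⟩
    rw [c11, h0, add_zero, one_mul, c10, w10'] at e10
    have ey : -(x * α) = y' := by linear_combination β * e10 + (x * α + y') * hαβ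
    exact ey ▸ hy'
  have hZα : w.1 0 0 = 0 := by
    obtain ⟨z1, z2, -⟩ := key 1 hu1
    have hd := det_eq w
    linear_combination -(w.1 0 0) * hd + w.1 1 1 * z1 - w.1 0 1 * z2
  -- the set `A` is everything
  have hpow : ∀ n : ℕ, up (α ^ n) ∈ Γ := fun n => by
    induction n with
    | zero => simpa using hu1
    | succ n ih =>
      have h := (key _ ih).2.2
      rw [← up_inv] at h
      simpa [pow_succ] using inv_mem h
  have haev : ∀ p : k[X], up (aeval α p) ∈ Γ := fun p => by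
    induction p using Polynomial.induction_on' with
    | add p q hp hq => rw [map_add, ← up_mul]; exact mul_mem hp hq
    | monomial n c => rw [aeval_monomial]; exact smul_up_mem k (hpow n) c
  obtain ⟨p, hp, hp0⟩ := hP
  exact hp0 (hA _ (by rw [← aeval_algHom_apply]; exact hp) (haev p))

end Elem

section Main

variable {k : Type*} [Field k]

theorem algHomOfDvd_mk {P Q : k[X]} (h : Q ∣ P) (a : k[X]) :
    AdjoinRoot.algHomOfDvd k P Q h (AdjoinRoot.mk P a) = AdjoinRoot.mk Q a := by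
  rw [← AdjoinRoot.aeval_eq, ← aeval_algHom_apply, AdjoinRoot.algHomOfDvd_root, AdjoinRoot.aeval_eq]

theorem isUnit_root {P : k[X]} (h0 : P.coeff 0 ≠ 0) : IsUnit (AdjoinRoot.root P) := by
  refine IsUnit.of_mul_eq_one (AdjoinRoot.mk P (-C (P.coeff 0)⁻¹ * P.divX)) ?_
  rw [← AdjoinRoot.mk_X, ← map_mul, ← map_one (AdjoinRoot.mk P), AdjoinRoot.mk_eq_mk]
  refine ⟨-C (P.coeff 0)⁻¹, ?_⟩
  have e1 : C (P.coeff 0)⁻¹ * C (P.coeff 0) = 1 := by rw [← C_mul, inv_mul_cancel₀ h0, C_1]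
  linear_combination e1 - C (P.coeff 0)⁻¹ * X_mul_divX_add P

/-- The two families generate `SL₂(k[X]/(P))`. -/
theorem elem_root_eq_top (hk2 : ringChar k ≠ 2) (hk3 : Nat.card k ≠ 3) :
    ∀ (n : ℕ) (P : k[X]), P.natDegree = n → P.Monic → P.coeff 0 ≠ 0 → elem k (AdjoinRoot.root P) = ⊤ := by
  intro n
  induction n using Nat.strong_induction_on with | _ n ih => ?_
  intro P hn hP h0
  rcases Nat.eq_zero_or_pos n with rfl | hpos
  · rw [(hP.natDegree_eq_zero).mp hn]
    haveI : Subsingleton (AdjoinRoot (1 : k[X])) := ⟨fun a b => by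
      obtain ⟨a, rfl⟩ := AdjoinRoot.mk_surjective a
      obtain ⟨b, rfl⟩ := AdjoinRoot.mk_surjective b
      exact AdjoinRoot.mk_eq_mk.mpr (one_dvd _)⟩
    rw [eq_top_iff]
    intro g _
    have : g = 1 := Subtype.ext (Subsingleton.elim _ _)
    exact this ▸ one_mem _
  obtain ⟨f, hf, hfi, Q, rfl⟩ := exists_monic_irreducible_factor P (not_isUnit_of_natDegree_pos P (hn ▸ hpos))
  have hQ : Q.Monic := hf.of_mul_monic_left hP
  haveI := Fact.mk hfi
  have h0' : f.coeff 0 ≠ 0 ∧ Q.coeff 0 ≠ 0 := by rwa [mul_coeff_zero, mul_ne_zero_iff] at h0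
  have hfd : 0 < f.natDegree := hfi.natDegree_pos
  rw [hf.natDegree_mul hQ] at hn
  have hK : elem k (AdjoinRoot.root f) = ⊤ := by
    have hα0 : AdjoinRoot.root f ≠ 0 := (isUnit_root h0'.1).ne_zero
    have h := Cfsg.Agent.S5060.result hk2 hk3 (AdjoinRoot.root f) (AdjoinRoot.isAlgebraic_root hf.ne_zero) hα0
    rw [eq_top_iff]
    intro g _
    have hg : g ∈ {g : Matrix.SpecialLinearGroup (Fin 2) (AdjoinRoot f) | ∀ i j : Fin 2,
        (g : Matrix (Fin 2) (Fin 2) (AdjoinRoot f)) i j ∈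
          IntermediateField.adjoin k ({AdjoinRoot.root f} : Set (AdjoinRoot f))} := fun i j =>
      IntermediateField.algebra_adjoin_le_adjoin _ _ (AdjoinRoot.adjoinRoot_eq_top (f := f) ▸ Algebra.mem_top)
    rw [← h] at hg
    refine Subgroup.closure_mono ?_ hg
    rintro x (⟨c, hc⟩ | ⟨c, hc⟩)
    · exact Or.inl ⟨c, Subtype.ext hc⟩
    · exact Or.inr ⟨c, Subtype.ext hc⟩
  rcases Nat.eq_zero_or_pos Q.natDegree with hQ0 | hQ0
  · rw [hQ.natDegree_eq_zero.mp hQ0, mul_one]; exact hK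
  obtain ⟨t, ht, ht2⟩ := exists_scalar hk2 hk3
  refine step k (two_ne hk2) ht ht2
    (AdjoinRoot.algHomOfDvd k (f * Q) Q (dvd_mul_left _ _)) (AdjoinRoot.algHomOfDvd k (f * Q) f (dvd_mul_right _ _))
    (AdjoinRoot.root (f * Q)) ?_ ?_ (isUnit_root h0) ?_ ?_ ?_ ?_ ?_
  · exact fun y => let ⟨a, ha⟩ := AdjoinRoot.mk_surjective y; ⟨_, (algHomOfDvd_mk _ a).trans ha⟩
  · exact fun y => let ⟨a, ha⟩ := AdjoinRoot.mk_surjective y; ⟨_, (algHomOfDvd_mk _ a).trans ha⟩
  · rw [AdjoinRoot.algHomOfDvd_root]; exact ih _ (by omega) Q rfl hQ h0'.2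
  · rw [AdjoinRoot.algHomOfDvd_root]; exact hK
  · intro j r hj hr
    obtain ⟨a, rfl⟩ := AdjoinRoot.mk_surjective j
    obtain ⟨b, rfl⟩ := AdjoinRoot.mk_surjective r
    rw [algHomOfDvd_mk, AdjoinRoot.mk_eq_zero] at hj hr
    rw [← map_mul, AdjoinRoot.mk_eq_zero, mul_comm f]
    exact mul_dvd_mul hj hr
  · intro j j' hj hj0 hj'
    obtain ⟨a, rfl⟩ := AdjoinRoot.mk_surjective j
    obtain ⟨b, rfl⟩ := AdjoinRoot.mk_surjective j'
    rw [algHomOfDvd_mk, AdjoinRoot.mk_eq_zero] at hj hj'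
    obtain ⟨a, rfl⟩ := hj
    obtain ⟨b, rfl⟩ := hj'
    have hna : ¬ f ∣ a := fun hd => hj0 (by
      rw [AdjoinRoot.mk_eq_zero, mul_comm f]; exact mul_dvd_mul_left Q hd)
    obtain ⟨u, v, huv⟩ := (hfi.coprime_iff_not_dvd).mpr hna
    refine ⟨AdjoinRoot.mk _ (v * b), ?_⟩
    rw [← map_mul, AdjoinRoot.mk_eq_mk]
    exact ⟨b * u, by linear_combination -(Q * b) * huv⟩
  · refine ⟨Q, ?_, ?_⟩
    · rw [AdjoinRoot.algHomOfDvd_root, AdjoinRoot.aeval_eq, AdjoinRoot.mk_self]
    · rw [AdjoinRoot.aeval_eq, Ne, AdjoinRoot.mk_eq_zero]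
      intro hd
      have := natDegree_le_of_dvd hd hQ.ne_zero
      rw [hf.natDegree_mul hQ] at this
      omega

end Main

end CfsgLib.QP.Gen
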