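/-
Two minimal square-zero members generating a nilpotent algebra: `sts = 0 = tst`.
-/
import Mathlib
import Cfsg.Agent.Lib.RootSub.QP.Basic

set_option autoImplicit false

namespace CfsgLib.QP

variable {k : Type*} [Field k] {M : Type*} [AddCommGroup M] [Module k M]
variable {G : Subgroup (LinearMap.GeneralLinearGroup k M)}

/-- The span of two endomorphisms. -/
def J0 (s t : Module.End k M) : Submodule k (Module.End k M) := Submodule.span k {s, t}

/-- The span of all words of length at least `j`. -/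
def FF (s t : Module.End k M) (j : ℕ) : Submodule k (Module.End k M) := ⨆ i : ℕ, J0 s t ^ (j + i)

section Filtration

variable {s t : Module.End k M}

theorem pow_le_FF {i j : ℕ} (h : j ≤ i) : J0 s t ^ i ≤ FF s t j := by
  obtain ⟨d, rfl⟩ := Nat.exists_eq_add_of_le h
  exact le_iSup (fun i => J0 s t ^ (j + i)) d

theorem FF_anti {i j : ℕ} (h : j ≤ i) : FF s t i ≤ FF s t j :=
  iSup_le fun d => pow_le_FF (by omega)

theorem FF_mul_le (i j : ℕ) : FF s t i * FF s t j ≤ FF s t (i + j) := by
  rw [FF, Submodule.iSup_mul]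
  refine iSup_le fun a => ?_
  rw [FF, Submodule.mul_iSup]
  refine iSup_le fun b => ?_
  rw [← pow_add]
  exact pow_le_FF (by omega)

theorem mul_mem_FF {i j n : ℕ} {x y : Module.End k M} (hx : x ∈ FF s t i) (hy : y ∈ FF s t j)
    (h : n ≤ i + j) : x * y ∈ FF s t n :=
  FF_anti h (FF_mul_le i j (Submodule.mul_mem_mul hx hy))

theorem FF_le_sup (j : ℕ) : FF s t j ≤ J0 s t ^ j ⊔ FF s t (j + 1) := by
  refine iSup_le fun i => ?_
  rcases Nat.eq_zero_or_pos i with rfl | hi
  · exact le_sup_left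
  · exact le_sup_of_le_right (pow_le_FF (by omega))

theorem left_mem_FF : s ∈ FF s t 1 :=
  pow_le_FF le_rfl (by rw [pow_one]; exact Submodule.subset_span (by simp))

theorem right_mem_FF : t ∈ FF s t 1 :=
  pow_le_FF le_rfl (by rw [pow_one]; exact Submodule.subset_span (by simp))

end Filtration

/-- The element `z = st + ts` commutes with `s` and `t`. -/
theorem z_mul_left {s t : Module.End k M} (hs : s * s = 0) : (s * t + t * s) * s = s * t * s := by
  rw [add_mul, mul_assoc t s s, hs, mul_zero, add_zero]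

theorem left_mul_z {s t : Module.End k M} (hs : s * s = 0) : s * (s * t + t * s) = s * t * s := by
  rw [mul_add, ← mul_assoc, hs, zero_mul, zero_add, mul_assoc]

theorem z_mul_right {s t : Module.End k M} (ht : t * t = 0) : (s * t + t * s) * t = t * s * t := by
  rw [add_mul, mul_assoc s t t, ht, mul_zero, zero_add]

theorem right_mul_z {s t : Module.End k M} (ht : t * t = 0) : t * (s * t + t * s) = t * s * t := by
  rw [mul_add, ← mul_assoc t t s, ht, zero_mul, add_zero, ← mul_assoc]

theorem commute_z_left {s t : Module.End k M} (hs : s * s = 0) : Commute (s * t + t * s) s :=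
  (z_mul_left hs).trans (left_mul_z hs).symm

theorem commute_z_right {s t : Module.End k M} (ht : t * t = 0) : Commute (s * t + t * s) t :=
  (z_mul_right ht).trans (right_mul_z ht).symm

theorem finrank_map_add [FiniteDimensional k M] (f : Module.End k M) (B : Submodule k M) :
    Module.finrank k (B.map f) + Module.finrank k ↥(B ⊓ LinearMap.ker f) = Module.finrank k B := by
  have h := LinearMap.finrank_range_add_finrank_ker (f.domRestrict B)
  rw [LinearMap.range_domRestrict, LinearMap.ker_domRestrict] at h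
  have e : Module.finrank k ↥((LinearMap.ker f).submoduleOf B) = Module.finrank k ↥(B ⊓ LinearMap.ker f) :=
    (Submodule.equivMapOfInjective B.subtype B.injective_subtype _).finrank_eq.trans
      (by rw [Submodule.submoduleOf, Submodule.map_comap_subtype])
  rw [← e]
  exact h

theorem rk_lt_of_range_lt [FiniteDimensional k M] {s : Module.End k M} {N : Submodule k M}
    (h : N < LinearMap.range s) : Module.finrank k N < rk s :=
  Submodule.finrank_lt_finrank_of_lt h

section Chain

variable {s t : Module.End k M} {hs : s * s = 0} {ht : t * t = 0}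

theorem pow_J0_le (hs : s * s = 0) (ht : t * t = 0) : ∀ j : ℕ,
    J0 s t ^ (2 * j + 1) ≤ Submodule.span k {s * (s * t + t * s) ^ j, t * (s * t + t * s) ^ j} ∧
      J0 s t ^ (2 * j + 2) ≤
        Submodule.span k {s * t * (s * t + t * s) ^ j, t * s * (s * t + t * s) ^ j} := by
  set z := s * t + t * s with hz
  have cs : ∀ n, z ^ n * s = s * z ^ n := fun n => ((commute_z_left hs).pow_left n).eq
  have ct : ∀ n, z ^ n * t = t * z ^ n := fun n => ((commute_z_right ht).pow_left n).eq
  have e1 : ∀ j, Submodule.span k {s * z ^ j, t * z ^ j} * J0 s t ≤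
      Submodule.span k {s * t * z ^ j, t * s * z ^ j} := fun j => by
    rw [J0, Submodule.span_mul_span, Submodule.span_le]
    rintro _ ⟨a, ha, b, hb, rfl⟩
    simp only [Set.mem_insert_iff, Set.mem_singleton_iff] at ha hb
    rcases ha with ha | ha <;> rcases hb with hb | hb <;> rw [ha, hb] <;> simp only [SetLike.mem_coe]
    · rw [mul_assoc s (z ^ j) s, cs, ← mul_assoc, hs, zero_mul]; exact Submodule.zero_mem _
    · rw [mul_assoc s (z ^ j) t, ct, ← mul_assoc]; exact Submodule.subset_span (by simp)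
    · rw [mul_assoc t (z ^ j) s, cs, ← mul_assoc]; exact Submodule.subset_span (by simp)
    · rw [mul_assoc t (z ^ j) t, ct, ← mul_assoc, ht, zero_mul]; exact Submodule.zero_mem _
  have e2 : ∀ j, Submodule.span k {s * t * z ^ j, t * s * z ^ j} * J0 s t ≤
      Submodule.span k {s * z ^ (j + 1), t * z ^ (j + 1)} := fun j => by
    rw [J0, Submodule.span_mul_span, Submodule.span_le]
    rintro _ ⟨a, ha, b, hb, rfl⟩
    simp only [Set.mem_insert_iff, Set.mem_singleton_iff] at ha hb
    rcases ha with ha | ha <;> rcases hb with hb | hb <;> rw [ha, hb] <;> simp only [SetLike.mem_coe]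
    · refine Submodule.subset_span (Or.inl ?_)
      rw [mul_assoc (s * t) (z ^ j) s, cs, ← mul_assoc, pow_succ', ← mul_assoc s, hz, left_mul_z hs]
    · rw [mul_assoc (s * t) (z ^ j) t, ct, ← mul_assoc, mul_assoc s t t, ht, mul_zero, zero_mul]; exact Submodule.zero_mem _
    · rw [mul_assoc (t * s) (z ^ j) s, cs, ← mul_assoc, mul_assoc t s s, hs, mul_zero, zero_mul]; exact Submodule.zero_mem _
    · refine Submodule.subset_span (Or.inr ?_)
      rw [mul_assoc (t * s) (z ^ j) t, ct, ← mul_assoc, pow_succ', ← mul_assoc t z, hz, right_mul_z ht]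
      rfl
  intro j
  induction j with
  | zero =>
    have h1 : J0 s t ^ 1 ≤ Submodule.span k {s * z ^ 0, t * z ^ 0} := by rw [pow_one, J0]; simp
    refine ⟨h1, ?_⟩
    rw [Nat.mul_zero, Nat.zero_add, pow_succ]
    exact (mul_le_mul' h1 le_rfl).trans (e1 0)
  | succ j ih =>
    have h1 : J0 s t ^ (2 * (j + 1) + 1) ≤ Submodule.span k {s * z ^ (j + 1), t * z ^ (j + 1)} := by
      rw [show 2 * (j + 1) + 1 = (2 * j + 2) + 1 from rfl, pow_succ]
      exact (mul_le_mul' ih.2 le_rfl).trans (e2 j)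
    refine ⟨h1, ?_⟩
    rw [show 2 * (j + 1) + 2 = (2 * (j + 1) + 1) + 1 from rfl, pow_succ]
    exact (mul_le_mul' h1 le_rfl).trans (e1 (j + 1))

theorem FF_eq_bot (hs : s * s = 0) (ht : t * t = 0) {m : ℕ} (h1 : s * (s * t + t * s) ^ (m + 1) = 0)
    (h2 : t * (s * t + t * s) ^ (m + 1) = 0) {n : ℕ} (hn : 2 * m + 3 ≤ n) : FF s t n = ⊥ := by
  have h0 : J0 s t ^ (2 * m + 3) = ⊥ := by
    refine le_bot_iff.mp (((pow_J0_le hs ht (m + 1)).1).trans ?_)
    rw [h1, h2]; simp
  refine le_bot_iff.mp (iSup_le fun i => ?_)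
  obtain ⟨d, hd⟩ := Nat.exists_eq_add_of_le (show 2 * m + 3 ≤ n + i by omega)
  rw [hd, pow_add, h0, Submodule.bot_mul]

/-- Existence of an element of `G` congruent to `1 + y` modulo words of length above `j`. -/
def Lev (G : Subgroup (LinearMap.GeneralLinearGroup k M)) (s t : Module.End k M) (j : ℕ) (y : Module.End k M) : Prop :=
  ∃ g ∈ G, (g : Module.End k M) - 1 - y ∈ FF s t (j + 1) ∧
    ((g⁻¹ : LinearMap.GeneralLinearGroup k M) : Module.End k M) - 1 + y ∈ FF s t (j + 1)

theorem comm_sub_one {x : Module.End k M} (hx : x * x = 0) (g : LinearMap.GeneralLinearGroup k M) :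
    let Y := (g : Module.End k M) - 1
    let H := ((g⁻¹ : LinearMap.GeneralLinearGroup k M) : Module.End k M) - 1
    (((mk x hx * g * (mk x hx)⁻¹ * g⁻¹ : LinearMap.GeneralLinearGroup k M)) : Module.End k M) - 1 =
        (x * Y - Y * x) + (x * Y - Y * x) * (H - x - x * H) ∧
      ((((mk x hx * g * (mk x hx)⁻¹ * g⁻¹)⁻¹ : LinearMap.GeneralLinearGroup k M)) : Module.End k M) - 1 =
        -(x * Y - Y * x) - (x * Y - Y * x) * (H - x - H * x) := by
  intro Y H
  have e : ((mk x hx)⁻¹ : LinearMap.GeneralLinearGroup k M).1 = 1 - x := rfl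
  have hgi : (g : Module.End k M) * ((g⁻¹ : LinearMap.GeneralLinearGroup k M) : Module.End k M) = 1 := g.mul_inv
  have hxx := one_add_mul_one_sub hx
  constructor
  · have e1 : (1 : Module.End k M) = (g : Module.End k M) * (1 + x) * (1 - x) * (g⁻¹ : LinearMap.GeneralLinearGroup k M).1 := by
      rw [mul_assoc (g : Module.End k M) (1 + x), hxx, mul_one, hgi]
    simp only [Units.val_mul, mk_val, e]
    conv_lhs => arg 2; rw [e1]
    simp only [Y, H]
    noncomm_ring
  · have e2 : (1 : Module.End k M) = (1 + x) * (g : Module.End k M) * (g⁻¹ : LinearMap.GeneralLinearGroup k M).1 * (1 - x) := by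
      rw [mul_assoc (1 + x), hgi, mul_one, hxx]
    simp only [mul_inv_rev, inv_inv, Units.val_mul, mk_val, e, ← mul_assoc]
    conv_lhs => arg 2; rw [e2]
    simp only [Y, H]
    noncomm_ring

theorem Lev.step {x y : Module.End k M} {j : ℕ} (hj : 1 ≤ j) (hx : Mem G x) (hx1 : x ∈ FF s t 1)
    (hy : y ∈ FF s t j) (h : Lev G s t j y) : Lev G s t (j + 1) (x * y - y * x) := by
  obtain ⟨g, hg, hY, hH⟩ := h
  obtain ⟨e1, e2⟩ := comm_sub_one hx.sq g
  have hxG : mk x hx.sq ∈ G := InG.mem (by simpa using hx.inG)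
  refine ⟨_, mul_mem (mul_mem (mul_mem hxG hg) (inv_mem hxG)) (inv_mem hg), ?_, ?_⟩
  all_goals simp only [e1, e2]
  all_goals set Y := (g : Module.End k M) - 1
  all_goals set H := ((g⁻¹ : LinearMap.GeneralLinearGroup k M) : Module.End k M) - 1
  all_goals
    have hYj : Y ∈ FF s t j := by
      simpa using Submodule.add_mem _ hy (FF_anti (Nat.le_succ j) hY)
    have hH1 : H ∈ FF s t 1 := by
      have := Submodule.sub_mem _ (FF_anti hj (FF_anti (Nat.le_succ j) hH)) (FF_anti hj hy)
      simpa using this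
    have hd : x * (Y - y) - (Y - y) * x ∈ FF s t (j + 1 + 1) :=
      Submodule.sub_mem _ (mul_mem_FF hx1 hY (by omega)) (mul_mem_FF hY hx1 (by omega))
    have hc : x * Y - Y * x ∈ FF s t (j + 1) :=
      Submodule.sub_mem _ (mul_mem_FF hx1 hYj (by omega)) (mul_mem_FF hYj hx1 (by omega))
  · have hr := mul_mem_FF hc (Submodule.sub_mem _ (Submodule.sub_mem _ hH1 hx1) (mul_mem_FF hx1 hH1 (n := 1) (by omega)))
      (n := j + 1 + 1) (by omega)
    convert Submodule.add_mem _ hd hr using 1
    noncomm_ring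
  · have hr := mul_mem_FF hc (Submodule.sub_mem _ (Submodule.sub_mem _ hH1 hx1) (mul_mem_FF hH1 hx1 (n := 1) (by omega)))
      (n := j + 1 + 1) (by omega)
    convert Submodule.neg_mem _ (Submodule.add_mem _ hd hr) using 1
    noncomm_ring

theorem z_pow_mem (j : ℕ) {i : ℕ} {y : Module.End k M} (hy : y ∈ FF s t i) :
    y * (s * t + t * s) ^ j ∈ FF s t (i + 2 * j) := by
  induction j with
  | zero => simpa using hy
  | succ j ih =>
    rw [pow_succ, ← mul_assoc]
    exact mul_mem_FF (j := 2) ih (Submodule.add_mem _ (mul_mem_FF left_mem_FF right_mem_FF le_rfl)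
      (mul_mem_FF right_mem_FF left_mem_FF le_rfl)) (by omega)

/-- The homogeneous elements reached by repeated commutators. -/
theorem lev_chain (hS : Mem G s) (hT : Mem G t) : ∀ j : ℕ,
    Lev G s t (2 * j + 1) ((2 : k) ^ j • (t * (s * t + t * s) ^ j)) ∧
      Lev G s t (2 * j + 2) ((2 : k) ^ j • ((s * t - t * s) * (s * t + t * s) ^ j)) := by
  set z := s * t + t * s with hz
  have cs : ∀ n, z ^ n * s = s * z ^ n := fun n => ((commute_z_left hS.sq).pow_left n).eq
  have ct : ∀ n, z ^ n * t = t * z ^ n := fun n => ((commute_z_right hT.sq).pow_left n).eq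
  have hodd : ∀ j, (2 : k) ^ j • (t * z ^ j) ∈ FF s t (2 * j + 1) := fun j =>
    Submodule.smul_mem _ _ (FF_anti (by omega) (z_pow_mem j right_mem_FF))
  have st2 : s * t - t * s ∈ FF s t 2 :=
    Submodule.sub_mem _ (mul_mem_FF left_mem_FF right_mem_FF le_rfl) (mul_mem_FF right_mem_FF left_mem_FF le_rfl)
  have heven : ∀ j, (2 : k) ^ j • ((s * t - t * s) * z ^ j) ∈ FF s t (2 * j + 2) := fun j =>
    Submodule.smul_mem _ _ (FF_anti (by omega) (z_pow_mem j st2))
  have up1 : ∀ j, Lev G s t (2 * j + 1) ((2 : k) ^ j • (t * z ^ j)) →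
      Lev G s t (2 * j + 2) ((2 : k) ^ j • ((s * t - t * s) * z ^ j)) := fun j h => by
    convert h.step (by omega) hS left_mem_FF (hodd j) using 1
    rw [mul_smul_comm, smul_mul_assoc, ← smul_sub, ← mul_assoc, mul_assoc t (z ^ j) s, cs, ← mul_assoc, sub_mul]
  have up2 : ∀ j, Lev G s t (2 * j + 2) ((2 : k) ^ j • ((s * t - t * s) * z ^ j)) →
      Lev G s t (2 * (j + 1) + 1) ((2 : k) ^ (j + 1) • (t * z ^ (j + 1))) := fun j h => by
    have h' := h.step (by omega) hT right_mem_FF (heven j)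
    show Lev G s t (2 * j + 2 + 1) _
    convert h' using 1
    rw [mul_smul_comm, smul_mul_assoc, ← smul_sub, ← mul_assoc, mul_assoc (s * t - t * s) (z ^ j) t, ct, ← mul_assoc,
      ← sub_mul, pow_succ (2 : k), mul_smul, pow_succ', ← mul_assoc, hz, right_mul_z hT.sq]
    congr 1
    rw [← smul_mul_assoc]
    congr 1
    rw [mul_sub, sub_mul, ← mul_assoc t t s, mul_assoc s t t, hT.sq, zero_mul, mul_zero, two_smul, ← mul_assoc t s t]
    abel
  have base : Lev G s t (2 * 0 + 1) ((2 : k) ^ 0 • (t * z ^ 0)) := by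
    refine ⟨mk t hT.sq, InG.mem (by simpa using hT.inG), by simp, ?_⟩
    have e : ((mk t hT.sq)⁻¹ : LinearMap.GeneralLinearGroup k M).1 = 1 - t := rfl
    rw [e]; simp
  intro j
  induction j with
  | zero => exact ⟨base, up1 0 base⟩
  | succ j ih => exact ⟨up2 j ih.2, up1 (j + 1) (up2 j ih.2)⟩

/-- The top word gives a member of `G` when the even top word vanishes. -/
theorem mem_deep (h2 : (2 : k) ≠ 0) (hS : Mem G s) (hT : Mem G t) {m : ℕ} (hm : 1 ≤ m)
    (h1 : s * (s * t + t * s) ^ (m + 1) = 0) (h1' : t * (s * t + t * s) ^ (m + 1) = 0)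
    (hne : s * (s * t + t * s) ^ m ≠ 0) (hx : (s * t - t * s) * (s * t + t * s) ^ m = 0) :
    Mem G (s * (s * t + t * s) ^ m) := by
  set z := s * t + t * s with hz
  have hs := hS.sq
  have ht := hT.sq
  have cs : ∀ n, z ^ n * s = s * z ^ n := fun n => ((commute_z_left hs).pow_left n).eq
  have ct : ∀ n, z ^ n * t = t * z ^ n := fun n => ((commute_z_right ht).pow_left n).eq
  have hbot : ∀ {n : ℕ} {y}, 2 * m + 3 ≤ n → y ∈ FF s t n → y = 0 := fun hn hy => by
    rwa [FF_eq_bot hs ht h1 h1' hn, Submodule.mem_bot] at hy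
  obtain ⟨j, rfl⟩ := Nat.exists_eq_add_of_le' hm
  obtain ⟨g, hg, hY, hH⟩ := (lev_chain hS hT j).2
  set lam := (2 : k) ^ j with hlam
  set y := lam • ((s * t - t * s) * z ^ j) with hy
  have hyF : y ∈ FF s t (2 * j + 2) := Submodule.smul_mem _ _ (FF_anti (by omega) (z_pow_mem j
    (Submodule.sub_mem _ (mul_mem_FF left_mem_FF right_mem_FF le_rfl) (mul_mem_FF right_mem_FF left_mem_FF le_rfl))))
  set Y := (g : Module.End k M) - 1
  set H := ((g⁻¹ : LinearMap.GeneralLinearGroup k M) : Module.End k M) - 1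
  have hHF : H ∈ FF s t (2 * j + 2) := by
    simpa using Submodule.sub_mem _ (FF_anti (Nat.le_succ _) hH) hyF
  have hYF : Y ∈ FF s t (2 * j + 2) := by
    simpa using Submodule.add_mem _ hyF (FF_anti (Nat.le_succ _) hY)
  have sys : s * y * s = 0 := by
    rw [hy, mul_smul_comm, smul_mul_assoc, mul_assoc s, mul_assoc (s * t - t * s), cs, ← mul_assoc (s * t - t * s),
      ← mul_assoc s, sub_mul, mul_sub, mul_assoc t s s, hs, ← mul_assoc s (s * t), ← mul_assoc s s, hs]
    simp
  have sYs : s * Y * s = 0 := by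
    have h0 := hbot (n := 2 * j + 5) (by omega) (mul_mem_FF (mul_mem_FF left_mem_FF hY le_rfl) left_mem_FF (by omega))
    rw [mul_sub, sub_mul, sys, sub_zero] at h0
    exact h0
  have had : s * (Y - y) - (Y - y) * s = 0 := by
    have hle : FF s t (2 * (j + 1) + 1) ≤ LinearMap.ker (LinearMap.mulLeft k s - LinearMap.mulRight k s) := by
      refine (FF_le_sup _).trans (sup_le (((pow_J0_le hs ht (j + 1)).1).trans ?_) fun w hw => ?_)
      · rw [Submodule.span_le]
        rintro _ (rfl | rfl) <;> simp only [SetLike.mem_coe, LinearMap.mem_ker, LinearMap.sub_apply,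
          LinearMap.mulLeft_apply, LinearMap.mulRight_apply]
        · rw [mul_assoc, cs, ← mul_assoc, hs]; simp
        · rw [mul_assoc t, cs, ← mul_assoc, ← mul_assoc, ← sub_mul]; exact hx
      · rw [LinearMap.mem_ker, LinearMap.sub_apply, LinearMap.mulLeft_apply, LinearMap.mulRight_apply,
          hbot (n := 2 * j + 5) (by omega) (mul_mem_FF left_mem_FF hw (by omega)),
          hbot (n := 2 * j + 5) (by omega) (mul_mem_FF hw left_mem_FF (by omega)), sub_self]
    simpa using hle hY
  have key : s * Y - Y * s = (-2 * lam) • (s * z ^ (j + 1)) := by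
    rw [mul_sub, sub_mul] at had
    have e : s * Y - Y * s = s * y - y * s := by rw [← sub_eq_zero]; rw [← had]; abel
    rw [e, hy, mul_smul_comm, smul_mul_assoc, ← smul_sub, mul_assoc (s * t - t * s), cs, ← mul_assoc, ← mul_assoc,
      ← sub_mul, pow_succ', ← mul_assoc s z, hz, left_mul_z hs, mul_comm (-2) lam, mul_smul]
    congr 1
    rw [← smul_mul_assoc]
    congr 1
    rw [mul_sub, sub_mul, mul_assoc t s s, hs, mul_zero, sub_zero, ← mul_assoc s s t, hs, zero_mul, zero_sub,
      neg_smul, two_smul, ← mul_assoc s t s]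
    abel
  have hlam0 : -2 * lam ≠ 0 := mul_ne_zero (neg_ne_zero.mpr h2) (pow_ne_zero _ h2)
  have hmem : Mem G (s * z ^ (j + 1)) := by
    refine ⟨by rw [mul_assoc, ← mul_assoc (z ^ _) s, cs, ← mul_assoc, ← mul_assoc, hs]; simp, hne, fun d => ?_⟩
    by_cases hd : d = 0
    · rw [hd, zero_smul, add_zero]; exact inG_one
    set c := d / (-2 * lam)
    have hc : c ≠ 0 := div_ne_zero hd hlam0
    obtain ⟨e1, -⟩ := comm_sub_one (hS.smul hc).sq g
    have hcG : mk (c • s) (hS.smul hc).sq ∈ G := InG.mem (by simpa using hS.fam c)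
    refine ⟨_, mul_mem (mul_mem (mul_mem hcG hg) (inv_mem hcG)) (inv_mem hg), ?_⟩
    have hcomm : c • s * Y - Y * (c • s) = d • (s * z ^ (j + 1)) := by
      rw [smul_mul_assoc, mul_smul_comm, ← smul_sub, key, smul_smul, div_mul_cancel₀ d hlam0]
    have hA1 : (s * Y - Y * s) * s = 0 := by rw [sub_mul, sYs, mul_assoc Y, hs]; simp
    have hA2 : (s * Y - Y * s) * H = 0 := hbot (n := 4 * j + 5) (by omega) (mul_mem_FF (i := 2 * j + 3)
      (Submodule.sub_mem _ (mul_mem_FF left_mem_FF hYF (by omega)) (mul_mem_FF hYF left_mem_FF (by omega)))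
      hHF (by omega))
    refine sub_eq_iff_eq_add'.mp (e1.trans ?_)
    show _ + (c • s * Y - Y * (c • s)) * (H - c • s - c • s * H) = _
    rw [hcomm]
    have : (c • s * Y - Y * (c • s)) = c • (s * Y - Y * s) := by rw [smul_mul_assoc, mul_smul_comm, ← smul_sub]
    rw [← hcomm, this]
    simp only [mul_sub, smul_mul_assoc, mul_smul_comm, ← mul_assoc, hA1, hA2, zero_mul, smul_zero, sub_zero, add_zero]
  exact hmem

/-- The even top word vanishes next to a minimal member. -/
theorem no_deep_top [FiniteDimensional k M] (h2 : (2 : k) ≠ 0) (hS : Mem G s) (hT : Min G t) {m : ℕ} (hm : 1 ≤ m)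
    (h1 : s * (s * t + t * s) ^ (m + 1) = 0) (h1' : t * (s * t + t * s) ^ (m + 1) = 0) :
    (s * t - t * s) * (s * t + t * s) ^ m = 0 := by
  set z := s * t + t * s with hz
  by_contra hx
  have hs := hS.sq
  have ht := hT.1.sq
  have cs : ∀ n, z ^ n * s = s * z ^ n := fun n => ((commute_z_left hs).pow_left n).eq
  have ct : ∀ n, z ^ n * t = t * z ^ n := fun n => ((commute_z_right ht).pow_left n).eq
  have hbot : ∀ {n : ℕ} {y}, 2 * m + 3 ≤ n → y ∈ FF s t n → y = 0 := fun hn hy => by
    rwa [FF_eq_bot hs ht h1 h1' hn, Submodule.mem_bot] at hy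
  obtain ⟨g, hg, hY, hH⟩ := (lev_chain hS hT.1 m).1
  set lam := (2 : k) ^ m with hlam
  set y := lam • (t * z ^ m) with hy
  set Y := (g : Module.End k M) - 1
  set H := ((g⁻¹ : LinearMap.GeneralLinearGroup k M) : Module.End k M) - 1
  have hyF : y ∈ FF s t (2 * m + 1) := Submodule.smul_mem _ _ (FF_anti (by omega) (z_pow_mem m right_mem_FF))
  have hHF : H ∈ FF s t (2 * m + 1) := by
    simpa using Submodule.sub_mem _ (FF_anti (Nat.le_succ _) hH) hyF
  have hYF : Y ∈ FF s t (2 * m + 1) := by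
    simpa using Submodule.add_mem _ hyF (FF_anti (Nat.le_succ _) hY)
  set x := (s * t - t * s) * z ^ m with hxdef
  have key : s * Y - Y * s = lam • x := by
    have h0 := hbot (n := 2 * m + 3) le_rfl (Submodule.sub_mem _
      (mul_mem_FF left_mem_FF hY (n := 2 * m + 3) (by omega)) (mul_mem_FF hY left_mem_FF (n := 2 * m + 3) (by omega)))
    have e : s * Y - Y * s = s * y - y * s := by
      rw [mul_sub, sub_mul] at h0; rw [← sub_eq_zero, ← h0]; abel
    rw [e, hy, mul_smul_comm, smul_mul_assoc, ← smul_sub, mul_assoc t, cs, ← mul_assoc, ← mul_assoc, ← sub_mul]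
  have hcF : s * Y - Y * s ∈ FF s t (2 * m + 2) :=
    Submodule.sub_mem _ (mul_mem_FF left_mem_FF hYF (by omega)) (mul_mem_FF hYF left_mem_FF (by omega))
  have hlam0 : lam ≠ 0 := pow_ne_zero _ h2
  have hmem : Mem G x := by
    have hxF : x ∈ FF s t (2 * m + 2) := FF_anti (by omega) (z_pow_mem m
      (Submodule.sub_mem _ (mul_mem_FF left_mem_FF right_mem_FF le_rfl) (mul_mem_FF right_mem_FF left_mem_FF le_rfl)))
    refine ⟨hbot (n := 4 * m + 4) (by omega) (mul_mem_FF hxF hxF (by omega)), hx, fun d => ?_⟩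
    by_cases hd : d = 0
    · rw [hd, zero_smul, add_zero]; exact inG_one
    set c := d / lam
    have hc : c ≠ 0 := div_ne_zero hd hlam0
    obtain ⟨e1, -⟩ := comm_sub_one (hS.smul hc).sq g
    have hcG : mk (c • s) (hS.smul hc).sq ∈ G := InG.mem (by simpa using hS.fam c)
    refine ⟨_, mul_mem (mul_mem (mul_mem hcG hg) (inv_mem hcG)) (inv_mem hg), sub_eq_iff_eq_add'.mp (e1.trans ?_)⟩
    show _ + (c • s * Y - Y * (c • s)) * (H - c • s - c • s * H) = _
    have e : (c • s * Y - Y * (c • s)) = c • (s * Y - Y * s) := by rw [smul_mul_assoc, mul_smul_comm, ← smul_sub]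
    have h0 : (s * Y - Y * s) * (H - c • s - c • s * H) = 0 := by
      refine hbot (n := 2 * m + 3) le_rfl (mul_mem_FF (j := 1) hcF ?_ le_rfl)
      have hH1 : H ∈ FF s t 1 := FF_anti (by omega) hHF
      exact Submodule.sub_mem _ (Submodule.sub_mem _ hH1 (Submodule.smul_mem _ _ left_mem_FF))
        (mul_mem_FF (Submodule.smul_mem _ c left_mem_FF) hH1 (by omega))
    rw [e, smul_mul_assoc, h0, smul_zero, add_zero, key, smul_smul, div_mul_cancel₀ d hlam0]
  set A := LinearMap.range (z ^ m * s)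
  set B := LinearMap.range (z ^ m * t)
  have hr : LinearMap.range x ≤ B.map s ⊔ A.map t := by
    rintro _ ⟨v, rfl⟩
    have e : x = s * (z ^ m * t) - t * (z ^ m * s) := by
      rw [hxdef, cs, ct, ← mul_assoc, ← mul_assoc, sub_mul]
    rw [e, LinearMap.sub_apply]
    exact Submodule.sub_mem _ (Submodule.mem_sup_left ⟨_, ⟨v, rfl⟩, rfl⟩) (Submodule.mem_sup_right ⟨_, ⟨v, rfl⟩, rfl⟩)
  have hA : A.map t ≤ B ⊓ LinearMap.ker s := by
    rintro _ ⟨_, ⟨v, rfl⟩, rfl⟩
    constructor
    · refine ⟨s v, ?_⟩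
      show (z ^ m * t * s) v = (t * (z ^ m * s)) v
      rw [ct, mul_assoc]
    · show (s * (t * (z ^ m * s))) v = 0
      rw [cs, ← mul_assoc, ← mul_assoc, ← left_mul_z hs, ← hz, mul_assoc, ← pow_succ', h1]; rfl
  have hB : B < LinearMap.range t := by
    refine lt_of_le_of_ne (by rw [show B = LinearMap.range (t * z ^ m) by simp only [B, ct]]; exact
      LinearMap.range_comp_le_range _ _) fun e => ?_
    have hzt : z * t = 0 := by
      refine LinearMap.ext fun v => ?_
      obtain ⟨w, hw⟩ : t v ∈ B := e ▸ LinearMap.mem_range_self t v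
      show z (t v) = 0
      rw [← hw]
      show (z * (z ^ m * t)) w = 0
      rw [← mul_assoc, ← pow_succ', ct, h1']; rfl
    refine hT.1.ne (LinearMap.range_eq_bot.mp ?_)
    rw [← e, LinearMap.range_eq_bot]
    obtain ⟨j, rfl⟩ := Nat.exists_eq_add_of_le' hm
    rw [pow_succ, mul_assoc, hzt, mul_zero]
  have := hT.2 _ hmem
  have h3 := finrank_map_add s B
  have h4 := Submodule.finrank_mono hA
  have h5 := Submodule.finrank_mono hr
  have h6 := Submodule.finrank_add_le_finrank_add_finrank (B.map s) (A.map t)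
  have h7 : Module.finrank k B < rk t := rk_lt_of_range_lt hB
  simp only [rk] at this h7
  omega

theorem range_deep_lt (hs : s * s = 0) {m : ℕ} (hm : 1 ≤ m) (h1 : s * (s * t + t * s) ^ (m + 1) = 0)
    (hne : s * (s * t + t * s) ^ m ≠ 0) : LinearMap.range (s * (s * t + t * s) ^ m) < LinearMap.range s := by
  set z := s * t + t * s with hz
  have cs : ∀ n, z ^ n * s = s * z ^ n := fun n => ((commute_z_left hs).pow_left n).eq
  obtain ⟨j, rfl⟩ := Nat.exists_eq_add_of_le' hm
  refine lt_of_le_of_ne (LinearMap.range_comp_le_range _ _) fun e => hne ?_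
  have hzs : z * s = 0 := by
    refine LinearMap.ext fun v => ?_
    obtain ⟨w, hw⟩ : s v ∈ LinearMap.range (s * z ^ (j + 1)) := e ▸ LinearMap.mem_range_self s v
    show z (s v) = 0
    rw [← hw, ← cs]
    show (z * (z ^ (j + 1) * s)) w = 0
    rw [← mul_assoc, ← pow_succ', cs, h1]; rfl
  rw [← cs, pow_succ, mul_assoc, hzs, mul_zero]

theorem no_deep [FiniteDimensional k M] (h2 : (2 : k) ≠ 0) (hS : Min G s) (hT : Min G t) {m : ℕ} (hm : 1 ≤ m)
    (h1 : s * (s * t + t * s) ^ (m + 1) = 0) (h1' : t * (s * t + t * s) ^ (m + 1) = 0)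
    (hne : s * (s * t + t * s) ^ m ≠ 0) : False := by
  have hx := no_deep_top h2 hS.1 hT hm h1 h1'
  have hmem := mem_deep h2 hS.1 hT.1 hm h1 h1' hne hx
  exact absurd (hS.2 _ hmem) (not_le.mpr (rk_lt_of_range_lt (range_deep_lt hS.1.sq hm h1 hne)))

theorem deep_zero [FiniteDimensional k M] (h2 : (2 : k) ≠ 0) (hS : Min G s) (hT : Min G t)
    (hnil : IsNilpotent (s * t + t * s)) : s * t * s = 0 ∧ t * s * t = 0 := by
  rw [← left_mul_z hS.1.sq, ← right_mul_z hT.1.sq]
  by_contra h
  set z := s * t + t * s with hz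
  classical
  obtain ⟨N, hN⟩ := hnil
  have hex : ∃ n, s * z ^ n = 0 ∧ t * z ^ n = 0 := ⟨N, by rw [hN]; simp⟩
  have hn := Nat.find_spec hex
  have h2n : 2 ≤ Nat.find hex := by
    by_contra hlt
    refine h ?_
    rcases Nat.lt_succ_iff.mp (not_le.mp hlt) |> Nat.le_one_iff_eq_zero_or_eq_one.mp with e | e <;> rw [e] at hn
    · obtain ⟨a, b⟩ := hn
      rw [pow_zero, mul_one] at a b
      exact absurd a hS.1.ne
    · simpa using hn
  obtain ⟨m, hm⟩ : ∃ m, Nat.find hex = m + 1 := ⟨Nat.find hex - 1, by omega⟩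
  rw [hm] at hn
  rcases not_and_or.mp (Nat.find_min hex (m := m) (by omega)) with hne | hne
  · exact no_deep h2 hS hT (by omega) hn.1 hn.2 hne
  · have e : t * s + s * t = z := add_comm _ _
    exact no_deep h2 hT hS (by omega : 1 ≤ m) (by rw [e]; exact hn.2) (by rw [e]; exact hn.1) (by rwa [e])

end Chain

section Pair

variable [FiniteDimensional k M] {s t : Module.End k M}

theorem inG_comm (hS : Mem G s) (hT : Mem G t) (h1 : s * t * s = 0) (h2 : t * s * t = 0) (c : k) :
    InG G (1 + c • (s * t - t * s)) := by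
  have := (((hS.fam c).mul hT.inG).mul (hS.sub c)).mul (show InG G (1 - t) by simpa using hT.sub 1)
  convert this using 1
  have e1 := hS.sq
  have e2 := hT.sq
  simp only [mul_add, add_mul, mul_sub, sub_mul, mul_one, one_mul, smul_mul_assoc, mul_smul_comm, smul_smul,
    ← mul_assoc, e1, e2, h1, h2, zero_mul, smul_zero, mul_assoc s t t, mul_zero, smul_sub, sub_zero, zero_sub]
  module

theorem comm_sq (hs : s * s = 0) (ht : t * t = 0) (h1 : s * t * s = 0) (h2 : t * s * t = 0) :
    (s * t - t * s) * (s * t - t * s) = 0 := by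
  simp only [mul_sub, sub_mul, ← mul_assoc, h1, h2, zero_mul, mul_assoc s t t, ht, mul_zero, mul_assoc t s s, hs,
    sub_zero]

/-- A member with non-zero commutator: the spaces involved. -/
theorem pair_spaces (hS : Min G s) (hT : Min G t) (h1 : s * t * s = 0) (h2 : t * s * t = 0)
    (hx : s * t - t * s ≠ 0) :
    Min G (s * t - t * s) ∧
      LinearMap.range (s * t - t * s) =
        (LinearMap.range s ⊓ LinearMap.ker t) ⊔ (LinearMap.range t ⊓ LinearMap.ker s) ∧
      Disjoint (LinearMap.range s ⊓ LinearMap.ker t) (LinearMap.range t ⊓ LinearMap.ker s) ∧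
      LinearMap.ker (s * t - t * s) =
        (LinearMap.range s ⊔ LinearMap.ker t) ⊓ (LinearMap.range t ⊔ LinearMap.ker s) ∧
      (LinearMap.range t).map s = LinearMap.range s ⊓ LinearMap.ker t ∧
      (LinearMap.range s).map t = LinearMap.range t ⊓ LinearMap.ker s := by
  set x := s * t - t * s
  have hmem : Mem G x := ⟨comm_sq hS.1.sq hT.1.sq h1 h2, hx, inG_comm hS.1 hT.1 h1 h2⟩
  have a1 : (LinearMap.range t).map s ≤ LinearMap.range s ⊓ LinearMap.ker t := by
    rintro _ ⟨_, ⟨v, rfl⟩, rfl⟩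
    exact ⟨⟨t v, rfl⟩, LinearMap.congr_fun h2 v⟩
  have a2 : (LinearMap.range s).map t ≤ LinearMap.range t ⊓ LinearMap.ker s := by
    rintro _ ⟨_, ⟨v, rfl⟩, rfl⟩
    exact ⟨⟨s v, rfl⟩, LinearMap.congr_fun h1 v⟩
  have hr : LinearMap.range x ≤ (LinearMap.range t).map s ⊔ (LinearMap.range s).map t := by
    rintro _ ⟨v, rfl⟩
    exact Submodule.sub_mem _ (Submodule.mem_sup_left ⟨_, ⟨v, rfl⟩, rfl⟩) (Submodule.mem_sup_right ⟨_, ⟨v, rfl⟩, rfl⟩)
  have f1 := finrank_map_add s (LinearMap.range t)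
  have f2 := finrank_map_add t (LinearMap.range s)
  have f3 := Submodule.finrank_mono a1
  have f4 := Submodule.finrank_mono a2
  have f5 := Submodule.finrank_mono hr
  have f6 := Submodule.finrank_sup_add_finrank_inf_eq ((LinearMap.range t).map s) ((LinearMap.range s).map t)
  have f7 := hS.2 _ hmem
  have f8 := hT.2 _ hmem
  have f9 := hS.2 _ hT.1
  simp only [rk] at f7 f8 f9
  have b1 : (LinearMap.range t).map s = LinearMap.range s ⊓ LinearMap.ker t :=
    Submodule.eq_of_le_of_finrank_le a1 (by omega)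
  have b2 : (LinearMap.range s).map t = LinearMap.range t ⊓ LinearMap.ker s :=
    Submodule.eq_of_le_of_finrank_le a2 (by omega)
  have b3 : LinearMap.range x = (LinearMap.range t).map s ⊔ (LinearMap.range s).map t :=
    Submodule.eq_of_le_of_finrank_le hr (by omega)
  have b4 : Disjoint ((LinearMap.range t).map s) ((LinearMap.range s).map t) := by
    rw [disjoint_iff, ← Submodule.finrank_eq_zero]; omega
  refine ⟨hS.of_rk hmem (by simp only [rk]; omega), by rw [b3, b1, b2], b1 ▸ b2 ▸ b4, ?_, b1, b2⟩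
  apply le_antisymm
  · intro v hv
    have e : s (t v) = t (s v) := sub_eq_zero.mp hv
    have z0 : s (t v) = 0 := Submodule.disjoint_def.mp b4 _ ⟨_, ⟨v, rfl⟩, rfl⟩ (e ▸ ⟨_, ⟨v, rfl⟩, rfl⟩)
    refine ⟨?_, ?_⟩
    · show v ∈ LinearMap.range s ⊔ LinearMap.ker t
      rw [← Submodule.comap_map_eq, b2]
      exact ⟨⟨v, rfl⟩, z0⟩
    · show v ∈ LinearMap.range t ⊔ LinearMap.ker s
      rw [← Submodule.comap_map_eq, b1]
      exact ⟨⟨v, rfl⟩, (e.symm.trans z0 : t (s v) = 0)⟩
  · rintro v ⟨hv1, hv2⟩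
    have q1 : s (t v) = 0 := by
      have : t v ∈ LinearMap.range t ⊓ LinearMap.ker s := by
        rw [← b2, ← Submodule.mem_comap, Submodule.comap_map_eq]; exact hv1
      exact this.2
    have q2 : t (s v) = 0 := by
      have : s v ∈ LinearMap.range s ⊓ LinearMap.ker t := by
        rw [← b1, ← Submodule.mem_comap, Submodule.comap_map_eq]; exact hv2
      exact this.2
    show s (t v) - t (s v) = 0
    rw [q1, q2, sub_zero]

/-- Commuting is a property of the two pairs of spaces. -/
theorem commute_of_same {s' t' : Module.End k M} (hS : Min G s) (hT : Min G t) (hS' : Min G s') (hT' : Min G t')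
    (hs : Same s s') (ht : Same t t') (h1 : s * t * s = 0) (h2 : t * s * t = 0) (h1' : s' * t' * s' = 0)
    (h2' : t' * s' * t' = 0) (hc : s * t = t * s) : s' * t' = t' * s' := by
  by_contra hne
  obtain ⟨-, -, hd, -, m1, m2⟩ := pair_spaces hS' hT' h1' h2' (sub_ne_zero.mpr hne)
  rw [hs.1, hs.2, ht.1, ht.2] at hd
  have z1 : ∀ v, s (t v) = 0 := fun v =>
    Submodule.disjoint_def.mp hd _ ⟨⟨t v, rfl⟩, LinearMap.congr_fun h2 v⟩
      (by
        have e : s (t v) = t (s v) := LinearMap.congr_fun hc v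
        rw [e]; exact ⟨⟨s v, rfl⟩, LinearMap.congr_fun h1 v⟩)
  have k1 : LinearMap.range t' ≤ LinearMap.ker s' := by
    rw [hs.1, ht.2]; rintro _ ⟨v, rfl⟩; exact z1 v
  have k2 : LinearMap.range s' ≤ LinearMap.ker t' := by
    rw [ht.1, hs.2]; rintro _ ⟨v, rfl⟩
    exact (LinearMap.congr_fun hc v).symm.trans (z1 v)
  refine hne (LinearMap.ext fun v => ?_)
  show s' (t' v) = t' (s' v)
  rw [LinearMap.mem_ker.mp (k1 ⟨v, rfl⟩), LinearMap.mem_ker.mp (k2 ⟨v, rfl⟩)]

/-- In the nilpotent case the spaces are not in general position. -/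
theorem not_both_disjoint (hT : Mem G t) (h2 : t * s * t = 0)
    (ha : LinearMap.range s ⊓ LinearMap.ker t = ⊥) (hb : LinearMap.range t ⊓ LinearMap.ker s = ⊥) : False := by
  refine hT.ne (LinearMap.range_eq_bot.mp (le_bot_iff.mp (hb ▸ le_inf le_rfl ?_)))
  rintro _ ⟨v, rfl⟩
  exact (Submodule.mem_bot k).mp (ha ▸ (⟨⟨t v, rfl⟩, LinearMap.congr_fun h2 v⟩ : s (t v) ∈ LinearMap.range s ⊓ LinearMap.ker t))

theorem mul_mul_eq_zero {s' t' : Module.End k M} (hs' : Same s s') (h1 : s * t * s = 0) (ht : Same t t')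
    (h1' : s * t' * s = 0) : s' * t' * s' = 0 := by
  refine LinearMap.ext fun v => ?_
  obtain ⟨w, hw⟩ : s' v ∈ LinearMap.range s := hs'.2 ▸ LinearMap.mem_range_self s' v
  show t' (s' v) ∈ LinearMap.ker s'
  rw [hs'.1, ← hw]
  exact LinearMap.congr_fun h1' w

end Pair

end CfsgLib.QP
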