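/-
Two minimal square-zero members `s`, `t` with `st + ts` not nilpotent: `SL₂` over `k[X]/(P)`.
-/
import Mathlib
import Cfsg.Agent.Lib.RootSub.QP.Gen
import Cfsg.Agent.Lib.RootSub.QP.Unip

set_option autoImplicit false

namespace CfsgLib.QP

open Polynomial

universe u

variable {k : Type u} [Field k] {M : Type*} [AddCommGroup M] [Module k M]
variable {G : Subgroup (LinearMap.GeneralLinearGroup k M)}

/-- `e` cuts out the part of `z` belonging to the divisor `P` prime to `X`. -/
structure Split (z : Module.End k M) (P e : k[X]) : Prop where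
  monic : P.Monic
  coeff : P.coeff 0 ≠ 0
  deg : 0 < P.natDegree
  kill : aeval z (P * e) = 0
  dvd : ∀ f, aeval z (e * f) = 0 → P ∣ f
  one : P ∣ e - 1
  nil : ∃ a : ℕ, z ^ a * (1 - aeval z e) = 0

theorem exists_split [FiniteDimensional k M] {z : Module.End k M} (h : ¬ IsNilpotent z) :
    ∃ P e : k[X], Split z P e := by
  have hμ : minpoly k z ≠ 0 := minpoly.ne_zero (Algebra.IsIntegral.isIntegral z)
  have hm : (minpoly k z).Monic := minpoly.monic (Algebra.IsIntegral.isIntegral z)
  obtain ⟨P, hP, hnd⟩ := exists_eq_pow_rootMultiplicity_mul_and_not_dvd (minpoly k z) hμ 0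
  rw [map_zero, sub_zero] at hP hnd
  set a := (minpoly k z).rootMultiplicity 0
  have h0 : P.coeff 0 ≠ 0 := fun e => hnd (X_dvd_iff.mpr e)
  have hPm : P.Monic := Monic.of_mul_monic_left (monic_X_pow a) (hP ▸ hm)
  obtain ⟨u, v, huv⟩ : IsCoprime ((X : k[X]) ^ a) P :=
    ((irreducible_X.coprime_iff_not_dvd).mpr hnd).pow_left
  have hz : aeval z ((X : k[X]) ^ a * P) = 0 := by rw [← hP]; exact minpoly.aeval k z
  refine ⟨P, u * X ^ a, hPm, h0, ?_, ?_, ?_, ⟨-v, by linear_combination huv⟩, a, ?_⟩
  · by_contra hd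
    rw [hPm.natDegree_eq_zero.mp (Nat.eq_zero_of_not_pos hd), mul_one, map_pow, aeval_X] at hz
    exact h ⟨a, hz⟩
  · rw [show P * (u * X ^ a) = u * (X ^ a * P) by ring, map_mul, hz, mul_zero]
  · intro f hf
    have h1 : P ∣ u * X ^ a * f := (Dvd.intro_left _ hP.symm).trans (minpoly.dvd k z hf)
    have h2 : IsCoprime P (u * X ^ a) := ⟨v, 1, by linear_combination huv⟩
    exact h2.dvd_of_dvd_mul_left h1
  · have e : z ^ a * (1 - aeval z (u * X ^ a)) = aeval z (X ^ a * (1 - u * X ^ a)) := by simp
    rw [e, show X ^ a * (1 - u * X ^ a) = v * (X ^ a * P) by linear_combination -(X ^ a) * huv, map_mul, hz, mul_zero]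

section Iota

variable {z : Module.End k M} {P e : k[X]}

/-- The embedding of `k[X]/(P)` with unit element `e(z)`. -/
noncomputable def iota (z : Module.End k M) (P e : k[X]) (r : AdjoinRoot P) : Module.End k M :=
  aeval z (e * (AdjoinRoot.mk_surjective r).choose)

theorem iota_mk (h : Split z P e) (p : k[X]) : iota z P e (AdjoinRoot.mk P p) = aeval z (e * p) := by
  rw [iota]
  obtain ⟨d, hd⟩ := AdjoinRoot.mk_eq_mk.mp (AdjoinRoot.mk_surjective (AdjoinRoot.mk P p)).choose_spec
  rw [← sub_eq_zero, ← map_sub, ← mul_sub, hd, ← mul_assoc, mul_comm e P, map_mul, h.kill, zero_mul]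

theorem aeval_e_mul (h : Split z P e) : aeval z (e * e) = aeval z e := by
  obtain ⟨d, hd⟩ := h.one
  rw [← sub_eq_zero, ← map_sub, show e * e - e = P * e * d by linear_combination e * hd, map_mul, h.kill, zero_mul]

theorem iota_mul (h : Split z P e) (r r' : AdjoinRoot P) :
    iota z P e r * iota z P e r' = iota z P e (r * r') := by
  obtain ⟨p, rfl⟩ := AdjoinRoot.mk_surjective r
  obtain ⟨q, rfl⟩ := AdjoinRoot.mk_surjective r'
  rw [← map_mul, iota_mk h, iota_mk h, iota_mk h, ← map_mul, show e * p * (e * q) = e * e * (p * q) by ring,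
    map_mul, aeval_e_mul h, ← map_mul]

theorem iota_add (h : Split z P e) (r r' : AdjoinRoot P) :
    iota z P e (r + r') = iota z P e r + iota z P e r' := by
  obtain ⟨p, rfl⟩ := AdjoinRoot.mk_surjective r
  obtain ⟨q, rfl⟩ := AdjoinRoot.mk_surjective r'
  rw [← map_add, iota_mk h, iota_mk h, iota_mk h, mul_add, map_add]

theorem iota_zero (h : Split z P e) : iota z P e 0 = 0 := by
  rw [← map_zero (AdjoinRoot.mk P), iota_mk h, mul_zero, map_zero]

theorem iota_one (h : Split z P e) : iota z P e 1 = aeval z e := by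
  rw [← map_one (AdjoinRoot.mk P), iota_mk h, mul_one]

theorem iota_algebraMap (h : Split z P e) (c : k) :
    iota z P e (algebraMap k (AdjoinRoot P) c) = c • aeval z e := by
  rw [show algebraMap k (AdjoinRoot P) c = AdjoinRoot.mk P (C c) from rfl, iota_mk h, mul_comm, ← smul_eq_C_mul,
    map_smul]

theorem iota_mul_z (h : Split z P e) (r : AdjoinRoot P) :
    iota z P e r * z = iota z P e (r * AdjoinRoot.root P) := by
  obtain ⟨p, rfl⟩ := AdjoinRoot.mk_surjective r
  rw [← AdjoinRoot.mk_X, ← map_mul, iota_mk h, iota_mk h, ← mul_assoc, map_mul _ (e * p) X, aeval_X]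

theorem iota_eq_zero (h : Split z P e) {r : AdjoinRoot P} (hr : iota z P e r = 0) : r = 0 := by
  obtain ⟨p, rfl⟩ := AdjoinRoot.mk_surjective r
  rw [iota_mk h] at hr
  exact AdjoinRoot.mk_eq_zero.mpr (h.dvd p hr)

theorem commute_iota {w : Module.End k M} (hw : Commute z w) (r : AdjoinRoot P) : Commute (iota z P e r) w :=
  Algebra.commute_of_mem_adjoin_singleton_of_commute
    (aeval_mem_adjoin_singleton k z) hw.symm |>.symm

end Iota

section Psi

variable {s t : Module.End k M} {P e : k[X]}

/-- The linear combinations of `st`, `s`, `t`, `ts` with coefficients in `k[X]/(P)`. -/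
noncomputable def comb (s t : Module.End k M) (P e : k[X]) (a b c d : AdjoinRoot P) : Module.End k M :=
  iota (s * t + t * s) P e a * (s * t) + iota (s * t + t * s) P e b * s + iota (s * t + t * s) P e c * t +
    iota (s * t + t * s) P e d * (t * s)

theorem comb_mul (hs : s * s = 0) (ht : t * t = 0) (h : Split (s * t + t * s) P e)
    (a b c d a' b' c' d' : AdjoinRoot P) :
    comb s t P e a b c d * comb s t P e a' b' c' d' =
      comb s t P e (a * a' * AdjoinRoot.root P + b * c') ((a * b' + b * d') * AdjoinRoot.root P)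
        ((c * a' + d * c') * AdjoinRoot.root P) (c * b' + d * d' * AdjoinRoot.root P) := by
  set z := s * t + t * s with hz
  have cs : Commute z s := commute_z_left hs
  have ct : Commute z t := commute_z_right ht
  have rr : ∀ (x y : AdjoinRoot P) {X Y : Module.End k M}, Commute z X →
      iota z P e x * X * (iota z P e y * Y) = iota z P e (x * y) * (X * Y) := fun x y {X Y} hX => by
    rw [mul_assoc, ← mul_assoc X, ← (commute_iota hX y).eq, mul_assoc, ← mul_assoc, iota_mul h]
  have rz : ∀ (x : AdjoinRoot P) (Y : Module.End k M),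
      iota z P e x * (z * Y) = iota z P e (x * AdjoinRoot.root P) * Y := fun x Y => by
    rw [← mul_assoc, iota_mul_z h]
  have t1 : s * t * (s * t) = z * (s * t) := by rw [← mul_assoc, ← left_mul_z hs, ← hz, ← cs.eq, mul_assoc]
  have t2 : s * t * s = z * s := (z_mul_left hs).symm
  have t3 : s * (t * s) = z * s := by rw [← mul_assoc]; exact t2
  have t4 : t * (s * t) = z * t := by rw [← mul_assoc]; exact (z_mul_right ht).symm
  have t5 : t * s * t = z * t := (z_mul_right ht).symm
  have t6 : t * s * (t * s) = z * (t * s) := by rw [← mul_assoc, t5, mul_assoc]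
  have n1 : s * t * t = 0 := by rw [mul_assoc, ht, mul_zero]
  have n2 : s * t * (t * s) = 0 := by rw [← mul_assoc, n1, zero_mul]
  have n3 : s * (s * t) = 0 := by rw [← mul_assoc, hs, zero_mul]
  have n4 : t * (t * s) = 0 := by rw [← mul_assoc, ht, zero_mul]
  have n5 : t * s * s = 0 := by rw [mul_assoc, hs, mul_zero]
  have n6 : t * s * (s * t) = 0 := by rw [← mul_assoc, n5, zero_mul]
  simp only [comb, ← hz]
  simp only [mul_add, add_mul, rr _ _ (cs.mul_right ct), rr _ _ cs, rr _ _ ct, rr _ _ (ct.mul_right cs),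
    t1, t2, t3, t4, t5, t6, n1, n2, n3, n4, n5, n6, hs, ht, mul_zero, add_zero, zero_add, rz, iota_add h]
  abel

/-- The representation of `SL₂(k[X]/(P))`. -/
noncomputable def psiFun (s t : Module.End k M) (P e : k[X]) (β : AdjoinRoot P)
    (g : Matrix.SpecialLinearGroup (Fin 2) (AdjoinRoot P)) : Module.End k M :=
  1 - aeval (s * t + t * s) e + comb s t P e (g.1 0 0 * β) (g.1 0 1) (g.1 1 0 * β) (g.1 1 1 * β)

theorem comb_absorb (hs : s * s = 0) (ht : t * t = 0) (h : Split (s * t + t * s) P e) (a b c d : AdjoinRoot P) :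
    aeval (s * t + t * s) e * comb s t P e a b c d = comb s t P e a b c d ∧
      comb s t P e a b c d * aeval (s * t + t * s) e = comb s t P e a b c d := by
  have h1 : aeval (s * t + t * s) e * comb s t P e a b c d = comb s t P e a b c d := by
    simp only [comb, mul_add, ← mul_assoc, ← iota_one h, iota_mul h, one_mul]
  refine ⟨h1, ?_⟩
  have hc : ∀ {X}, Commute (s * t + t * s) X → Commute (aeval (s * t + t * s) e) X := fun hX => by
    rw [← iota_one h]; exact commute_iota hX 1
  have cs := hc (commute_z_left hs)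
  have ct := hc (commute_z_right ht)
  have ci : ∀ x, Commute (aeval (s * t + t * s) e) (iota (s * t + t * s) P e x) := fun x => by
    rw [← iota_one h]
    show _ * _ = _ * _
    rw [iota_mul h, iota_mul h, mul_comm]
  refine Eq.trans ?_ h1
  exact (((((ci a).mul_right (cs.mul_right ct)).add_right ((ci b).mul_right cs)).add_right
    ((ci c).mul_right ct)).add_right ((ci d).mul_right (ct.mul_right cs))).eq.symm

theorem comb_one (h : Split (s * t + t * s) P e) {β : AdjoinRoot P} (hβ : AdjoinRoot.root P * β = 1) :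
    comb s t P e β 0 0 β = aeval (s * t + t * s) e := by
  rw [comb, iota_zero h, zero_mul, zero_mul, add_zero, add_zero, ← mul_add, iota_mul_z h, mul_comm, hβ, iota_one h]

/-- The representation as a homomorphism to the general linear group. -/
noncomputable def psi (hs : s * s = 0) (ht : t * t = 0) (h : Split (s * t + t * s) P e) (β : AdjoinRoot P)
    (hβ : AdjoinRoot.root P * β = 1) :
    Matrix.SpecialLinearGroup (Fin 2) (AdjoinRoot P) →* LinearMap.GeneralLinearGroup k M :=
  MonoidHom.toHomUnits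
    { toFun := psiFun s t P e β
      map_one' := by
        simp only [psiFun, Matrix.SpecialLinearGroup.coe_one, Matrix.one_apply_eq, one_mul,
          Matrix.one_apply_ne (show (0 : Fin 2) ≠ 1 by decide), Matrix.one_apply_ne (show (1 : Fin 2) ≠ 0 by decide),
          zero_mul, comb_one h hβ]
        abel
      map_mul' := fun g g' => by
        simp only [psiFun, Gen.mul_entry]
        rw [show (g.1 0 0 * g'.1 0 0 + g.1 0 1 * g'.1 1 0) * β =
              g.1 0 0 * β * (g'.1 0 0 * β) * AdjoinRoot.root P + g.1 0 1 * (g'.1 1 0 * β) by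
            linear_combination (-(g.1 0 0 * g'.1 0 0) * β) * hβ,
          show g.1 0 0 * g'.1 0 1 + g.1 0 1 * g'.1 1 1 =
              (g.1 0 0 * β * g'.1 0 1 + g.1 0 1 * (g'.1 1 1 * β)) * AdjoinRoot.root P by
            linear_combination (-(g.1 0 0 * g'.1 0 1) - g.1 0 1 * g'.1 1 1) * hβ,
          show (g.1 1 0 * g'.1 0 0 + g.1 1 1 * g'.1 1 0) * β =
              (g.1 1 0 * β * (g'.1 0 0 * β) + g.1 1 1 * β * (g'.1 1 0 * β)) * AdjoinRoot.root P by
            linear_combination (-(g.1 1 0 * g'.1 0 0) * β - g.1 1 1 * g'.1 1 0 * β) * hβ,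
          show (g.1 1 0 * g'.1 0 1 + g.1 1 1 * g'.1 1 1) * β =
              g.1 1 0 * β * g'.1 0 1 + g.1 1 1 * β * (g'.1 1 1 * β) * AdjoinRoot.root P by
            linear_combination (-(g.1 1 1 * g'.1 1 1) * β) * hβ]
        have hee : aeval (s * t + t * s) e * aeval (s * t + t * s) e = aeval (s * t + t * s) e := by
          rw [← map_mul, aeval_e_mul h]
        simp only [add_mul, mul_add, sub_mul, mul_sub, one_mul, mul_one, (comb_absorb hs ht h _ _ _ _).1,
          (comb_absorb hs ht h _ _ _ _).2, hee, comb_mul hs ht h]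
        abel }

theorem psi_val (hs : s * s = 0) (ht : t * t = 0) (h : Split (s * t + t * s) P e) (β : AdjoinRoot P)
    (hβ : AdjoinRoot.root P * β = 1) (g : Matrix.SpecialLinearGroup (Fin 2) (AdjoinRoot P)) :
    (psi hs ht h β hβ g : Module.End k M) = psiFun s t P e β g := rfl

theorem psi_up (hs : s * s = 0) (ht : t * t = 0) (h : Split (s * t + t * s) P e) (β : AdjoinRoot P)
    (hβ : AdjoinRoot.root P * β = 1) (r : AdjoinRoot P) :
    (psi hs ht h β hβ (Gen.up r) : Module.End k M) = 1 + iota (s * t + t * s) P e r * s := by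
  have e2 : (psi hs ht h β hβ (Gen.up r) : Module.End k M) =
      1 - aeval (s * t + t * s) e + comb s t P e β r 0 β := by
    rw [psi_val, psiFun]; simp
  rw [e2, comb, iota_zero h, zero_mul, add_zero, ← iota_one h]
  have := comb_one h hβ
  rw [comb, iota_zero h, zero_mul, zero_mul, add_zero, add_zero, ← iota_one h] at this
  rw [← this]; abel

theorem psi_lo (hs : s * s = 0) (ht : t * t = 0) (h : Split (s * t + t * s) P e) (β : AdjoinRoot P)
    (hβ : AdjoinRoot.root P * β = 1) (r : AdjoinRoot P) :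
    (psi hs ht h β hβ (Gen.lo r) : Module.End k M) = 1 + iota (s * t + t * s) P e (r * β) * t := by
  have e2 : (psi hs ht h β hβ (Gen.lo r) : Module.End k M) =
      1 - aeval (s * t + t * s) e + comb s t P e β 0 (r * β) β := by
    rw [psi_val, psiFun]; simp
  rw [e2, comb, iota_zero h, zero_mul, add_zero, ← iota_one h]
  have := comb_one h hβ
  rw [comb, iota_zero h, zero_mul, zero_mul, add_zero, add_zero, ← iota_one h] at this
  rw [← this]; abel

/-- The group generated by two scalar families. -/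
def famGroup (s t : Module.End k M) (hs : s * s = 0) (ht : t * t = 0) :
    Subgroup (LinearMap.GeneralLinearGroup k M) :=
  Subgroup.closure (Set.range (fun c : k => mk (c • s) (smul_sq hs c c)) ∪
    Set.range (fun c : k => mk (c • t) (smul_sq ht c c)))

theorem famGroup_le (hS : Mem G s) (hT : Mem G t) : famGroup s t hS.sq hT.sq ≤ G := by
  rw [famGroup, Subgroup.closure_le]
  rintro _ (⟨c, rfl⟩ | ⟨c, rfl⟩)
  · exact InG.mem (by simpa using hS.fam c)
  · exact InG.mem (by simpa using hT.fam c)

theorem famGroup_sub_one_mem (hs : s * s = 0) (ht : t * t = 0) {g : LinearMap.GeneralLinearGroup k M}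
    (hg : g ∈ famGroup s t hs ht) :
    (g : Module.End k M) - 1 ∈ FF s t 1 ∧
      ((g⁻¹ : LinearMap.GeneralLinearGroup k M) : Module.End k M) - 1 ∈ FF s t 1 := by
  induction hg using Subgroup.closure_induction with
  | mem x hx =>
    rcases hx with ⟨c, rfl⟩ | ⟨c, rfl⟩
    · have e : ((mk (c • s) (smul_sq hs c c))⁻¹ : LinearMap.GeneralLinearGroup k M).1 = 1 - c • s := rfl
      constructor
      · rw [mk_sub_one]; exact Submodule.smul_mem _ _ left_mem_FF
      · rw [e, show (1 : Module.End k M) - c • s - 1 = (-c) • s by rw [neg_smul]; abel]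
        exact Submodule.smul_mem _ _ left_mem_FF
    · have e : ((mk (c • t) (smul_sq ht c c))⁻¹ : LinearMap.GeneralLinearGroup k M).1 = 1 - c • t := rfl
      constructor
      · rw [mk_sub_one]; exact Submodule.smul_mem _ _ right_mem_FF
      · rw [e, show (1 : Module.End k M) - c • t - 1 = (-c) • t by rw [neg_smul]; abel]
        exact Submodule.smul_mem _ _ right_mem_FF
  | one => simp
  | mul x y _ _ hx hy =>
    have key : ∀ {a b : Module.End k M}, a - 1 ∈ FF s t 1 → b - 1 ∈ FF s t 1 → a * b - 1 ∈ FF s t 1 := fun {a b} ha hb => by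
      have e : a * b - 1 = (a - 1) + (b - 1) + (a - 1) * (b - 1) := by noncomm_ring
      rw [e]
      exact Submodule.add_mem _ (Submodule.add_mem _ ha hb) (mul_mem_FF ha hb (by omega))
    rw [mul_inv_rev, Units.val_mul, Units.val_mul]
    exact ⟨key hx.1 hy.1, key hy.2 hx.2⟩
  | inv x _ hx => rw [inv_inv]; exact ⟨hx.2, hx.1⟩

theorem commute_famGroup (hs : s * s = 0) (ht : t * t = 0) {g : LinearMap.GeneralLinearGroup k M}
    (hg : g ∈ famGroup s t hs ht) : Commute (s * t + t * s) (g : Module.End k M) := by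
  induction hg using Subgroup.closure_induction with
  | mem x hx =>
    rcases hx with ⟨c, rfl⟩ | ⟨c, rfl⟩
    · rw [mk_val]; exact (Commute.one_right _).add_right ((commute_z_left hs).smul_right c)
    · rw [mk_val]; exact (Commute.one_right _).add_right ((commute_z_right ht).smul_right c)
  | one => rw [Units.val_one]; exact Commute.one_right _
  | mul x y _ _ hx hy => rw [Units.val_mul]; exact hx.mul_right hy
  | inv x _ hx => exact hx.units_inv_right

theorem inG_iota [FiniteDimensional k M] (hk2 : ringChar k ≠ 2) (hk3 : Nat.card k ≠ 3) (hS : Mem G s) (hT : Mem G t)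
    (h : Split (s * t + t * s) P e) (r : AdjoinRoot P) : InG G (1 + iota (s * t + t * s) P e r * s) := by
  obtain ⟨β, hβ⟩ := (Gen.isUnit_root h.coeff).exists_right_inv
  have hs := hS.sq
  have ht := hT.sq
  set ψ := psi hs ht h β hβ with hψ
  set p := aeval (s * t + t * s) e with hp
  set H := famGroup s t hs ht
  have hpψ : ∀ g, Commute p (ψ g : Module.End k M) := fun g => by
    rw [hψ, psi_val, psiFun]
    exact ((Commute.one_right _).sub_right (Commute.refl _)).add_right
      ((comb_absorb hs ht h _ _ _ _).1.trans (comb_absorb hs ht h _ _ _ _).2.symm)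
  have hpH : ∀ u ∈ H, Commute p (u : Module.End k M) := fun u hu => by
    rw [hp, ← iota_one h]; exact commute_iota (commute_famGroup hs ht hu) 1
  have hmul : ∀ {g g'} {u u' : LinearMap.GeneralLinearGroup k M}, u ∈ H → p * (u : Module.End k M) = p * (ψ g : Module.End k M) →
      p * (u' : Module.End k M) = p * (ψ g' : Module.End k M) →
      p * ((u * u' : LinearMap.GeneralLinearGroup k M) : Module.End k M) = p * (ψ (g * g') : Module.End k M) := by
    intro g g' u u' hu e1 e2
    rw [map_mul, Units.val_mul, Units.val_mul, ← mul_assoc, e1, (hpψ g).eq, mul_assoc, e2, ← mul_assoc, ← (hpψ g).eq,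
      mul_assoc]
  have hinv : ∀ {g} {u : LinearMap.GeneralLinearGroup k M}, u ∈ H → p * (u : Module.End k M) = p * (ψ g : Module.End k M) →
      p * ((u⁻¹ : LinearMap.GeneralLinearGroup k M) : Module.End k M) = p * (ψ g⁻¹ : Module.End k M) := by
    intro g u hu e1
    calc p * ((u⁻¹ : LinearMap.GeneralLinearGroup k M) : Module.End k M)
        = (ψ g⁻¹ : Module.End k M) * (p * (ψ g : Module.End k M)) * (u⁻¹ : LinearMap.GeneralLinearGroup k M).1 := by
          rw [(hpψ g).eq, ← mul_assoc, map_inv, Units.inv_mul, one_mul]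
      _ = p * (ψ g⁻¹ : Module.End k M) := by
          rw [← e1, ← mul_assoc, mul_assoc _ (u : Module.End k M), Units.mul_inv, mul_one, (hpψ g⁻¹).eq]
  have hone : ∀ g, ∃ u ∈ H, p * (u : Module.End k M) = p * (ψ g : Module.End k M) := by
    intro g
    have hg : g ∈ Gen.elem k (AdjoinRoot.root P) := by
      rw [Gen.elem_root_eq_top hk2 hk3 _ P rfl h.monic h.coeff]; exact Subgroup.mem_top _
    rw [Gen.elem] at hg
    induction hg using Subgroup.closure_induction with
    | mem x hx =>
      have hpp : p * p = p := by rw [hp, ← map_mul, aeval_e_mul h]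
      rcases hx with ⟨c, rfl⟩ | ⟨c, rfl⟩
      · refine ⟨_, Subgroup.subset_closure (Or.inl ⟨c, rfl⟩), ?_⟩
        rw [mk_val, hψ, psi_up, iota_algebraMap h, ← hp, smul_mul_assoc, mul_add, mul_add, mul_smul_comm,
          mul_smul_comm, ← mul_assoc, hpp]
      · refine ⟨_, Subgroup.subset_closure (Or.inr ⟨c, rfl⟩), ?_⟩
        rw [mk_val, hψ, psi_lo, mul_assoc, hβ, mul_one, iota_algebraMap h, ← hp, smul_mul_assoc, mul_add, mul_add,
          mul_smul_comm, mul_smul_comm, ← mul_assoc, hpp]
    | one => exact ⟨1, one_mem _, by rw [map_one]⟩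
    | mul x y _ _ hx hy =>
      obtain ⟨u, hu, e1⟩ := hx
      obtain ⟨u', hu', e2⟩ := hy
      exact ⟨u * u', mul_mem hu hu', hmul hu e1 e2⟩
    | inv x _ hx =>
      obtain ⟨u, hu, e1⟩ := hx
      exact ⟨u⁻¹, inv_mem hu, hinv hu e1⟩
  obtain ⟨a, ha, ha2⟩ := exists_scalar hk2 hk3
  have hpc : ∀ {w : Module.End k M}, Commute (s * t + t * s) w → Commute p w := fun hw => by
    rw [hp, ← iota_one h]; exact commute_iota hw 1
  have hlev : ∀ (j : ℕ) (r : AdjoinRoot P), ∃ u ∈ H, p * (u : Module.End k M) = p * (ψ (Gen.up r) : Module.End k M) ∧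
      ∃ w ∈ FF s t (j + 1), (1 - p) * ((u : Module.End k M) - 1) = (1 - p) * w := by
    intro j
    induction j with
    | zero =>
      intro r
      obtain ⟨u, hu, e1⟩ := hone (Gen.up r)
      exact ⟨u, hu, e1, _, (famGroup_sub_one_mem hs ht hu).1, rfl⟩
    | succ j ih =>
      intro r
      have ha' : algebraMap k (AdjoinRoot P) a * algebraMap k (AdjoinRoot P) a⁻¹ = 1 := by
        rw [← map_mul, mul_inv_cancel₀ ha, map_one]
      obtain ⟨v, hv, e1⟩ := hone (Gen.diag _ _ ha')
      obtain ⟨u, hu, e2, w, hw, ew⟩ := ih (algebraMap k (AdjoinRoot P) (a ^ 2 - 1)⁻¹ * r)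
      refine ⟨v * u * v⁻¹ * u⁻¹, mul_mem (mul_mem (mul_mem hv hu) (inv_mem hv)) (inv_mem hu), ?_, ?_⟩
      · have := hmul (mul_mem (mul_mem hv hu) (inv_mem hv)) (hmul (mul_mem hv hu) (hmul hv e1 e2) (hinv hv e1))
          (hinv hu e2)
        rw [this]
        congr 2
        obtain ⟨c01, c10, c00, c11⟩ := Gen.conj_up (Gen.diag _ _ ha') (algebraMap k (AdjoinRoot P) (a ^ 2 - 1)⁻¹ * r)
        have hc : algebraMap k (AdjoinRoot P) (a ^ 2 - 1)⁻¹ * (algebraMap k (AdjoinRoot P) a ^ 2 - 1) = 1 := by
          rw [← map_one (algebraMap k (AdjoinRoot P)), ← map_pow, ← map_sub, ← map_mul,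
            inv_mul_cancel₀ (sub_ne_zero.mpr ha2)]
        rw [Gen.up_inv]
        congr 1
        apply Gen.ext_entries <;> rw [Gen.mul_entry] <;> simp [c01, c10, c00, c11]
        all_goals simp only [AdjoinRoot.algebraMap_eq] at hc ha'
        · linear_combination ha'
        · linear_combination r * hc - ((AdjoinRoot.of P) (a ^ 2 - 1)⁻¹ * r) * ha'
        · linear_combination ha'
      · set V := (v : Module.End k M) - 1 with hVdef
        obtain ⟨hV, hV'⟩ := famGroup_sub_one_mem hs ht hv
        obtain ⟨-, hU'⟩ := famGroup_sub_one_mem hs ht hu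
        set V' := ((v⁻¹ : LinearMap.GeneralLinearGroup k M) : Module.End k M) - 1 with hV'def
        set U' := ((u⁻¹ : LinearMap.GeneralLinearGroup k M) : Module.End k M) - 1 with hU'def
        refine ⟨(V * w - w * V) + (V * w - w * V) * (V' + U' + V' * U'), Submodule.add_mem _
          (Submodule.sub_mem _ (mul_mem_FF hV hw (by omega)) (mul_mem_FF hw hV (by omega)))
          (mul_mem_FF (Submodule.sub_mem _ (mul_mem_FF hV hw (n := j + 1 + 1) (by omega))
            (mul_mem_FF hw hV (n := j + 1 + 1) (by omega))) (Submodule.add_mem _ (Submodule.add_mem _ hV' hU')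
            (mul_mem_FF hV' hU' (n := 1) (by omega))) (by omega)), ?_⟩
        have hcV : Commute (1 - p) V := ((Commute.one_left _).sub_left
          (hpc ((commute_famGroup hs ht hv).sub_right (Commute.one_right _))))
        have hkey : (1 - p) * (V * ((u : Module.End k M) - 1) - ((u : Module.End k M) - 1) * V) =
            (1 - p) * (V * w - w * V) := by
          have e : ∀ y, (1 - p) * (V * y - y * V) = V * ((1 - p) * y) - (1 - p) * y * V := fun y => by
            rw [mul_sub, ← mul_assoc, hcV.eq, mul_assoc, ← mul_assoc (1 - p) y]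
          rw [e, e, ew]
        have e3 : ((v * u * v⁻¹ * u⁻¹ : LinearMap.GeneralLinearGroup k M) : Module.End k M) - 1 =
            (V * ((u : Module.End k M) - 1) - ((u : Module.End k M) - 1) * V) * (1 + (V' + U' + V' * U')) := by
          have e4 : (1 : Module.End k M) = (u : Module.End k M) * (v : Module.End k M) *
              (v⁻¹ : LinearMap.GeneralLinearGroup k M).1 * (u⁻¹ : LinearMap.GeneralLinearGroup k M).1 := by
            rw [mul_assoc (u : Module.End k M) v, Units.mul_inv, mul_one, Units.mul_inv]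
          conv_lhs => arg 2; rw [e4]
          simp only [Units.val_mul, hVdef, hV'def, hU'def]
          noncomm_ring
        rw [e3, ← mul_assoc, hkey, mul_add (1 - p), mul_assoc (1 - p), mul_add, mul_one, mul_add (1 - p)]
  obtain ⟨n, hn⟩ := h.nil
  obtain ⟨u, hu, e1, w, hw, ew⟩ := hlev (2 * n) r
  have hp0 : (1 - p) * w = 0 := by
    have hz0 : (1 - p) * (s * t + t * s) ^ n = 0 :=
      ((((Commute.one_left _).sub_left (hpc (Commute.refl _))).pow_right n).eq).trans hn
    have hle : ∀ i, J0 s t ^ (2 * n + 1 + i) ≤ LinearMap.ker (LinearMap.mulLeft k (1 - p)) := fun i => by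
      rw [pow_add, Submodule.mul_le]
      intro x hx y _
      have hx' := (pow_J0_le hs ht n).1 hx
      clear hx
      have : (1 - p) * x = 0 := by
        induction hx' using Submodule.span_induction with
        | mem x hx =>
          rcases hx with rfl | rfl
          · rw [← ((commute_z_left hs).pow_left n).eq, ← mul_assoc, hz0, zero_mul]
          · rw [← ((commute_z_right ht).pow_left n).eq, ← mul_assoc, hz0, zero_mul]
        | zero => exact mul_zero _
        | add x y _ _ hx hy => rw [mul_add, hx, hy, add_zero]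
        | smul c x _ hx => rw [mul_smul_comm, hx, smul_zero]
      show (1 - p) * (x * y) = 0
      rw [← mul_assoc, this, zero_mul]
    have : FF s t (2 * n + 1) ≤ LinearMap.ker (LinearMap.mulLeft k (1 - p)) := iSup_le hle
    exact this hw
  rw [hp0, mul_sub, mul_one, sub_eq_zero] at ew
  have hfin : (ψ (Gen.up r) : Module.End k M) = (u : Module.End k M) := by
    have hz : (1 - p) * (ψ (Gen.up r) : Module.End k M) = 1 - p := by
      have : p * iota (s * t + t * s) P e r = iota (s * t + t * s) P e r := by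
        rw [hp, ← iota_one h, iota_mul h, one_mul]
      rw [hψ, psi_up, mul_add, mul_one, sub_mul, one_mul, ← mul_assoc, this, sub_self, add_zero]
    rw [show (u : Module.End k M) = p * (u : Module.End k M) + (1 - p) * (u : Module.End k M) by
      rw [sub_mul, one_mul]; abel, e1, ew, ← hz, sub_mul, one_mul]
    abel
  rw [← psi_up hs ht h β hβ r, ← hψ, hfin]
  exact ⟨u, famGroup_le hS hT hu, rfl⟩

theorem iota_mul_left_eq_zero (hs : s * s = 0) (ht : t * t = 0) (h : Split (s * t + t * s) P e) {r : AdjoinRoot P}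
    (hr : iota (s * t + t * s) P e r * s = 0) : r = 0 := by
  have h1 : iota (s * t + t * s) P e (r * AdjoinRoot.root P) = 0 := by
    rw [← iota_mul_z h, mul_add, ← mul_assoc, ← mul_assoc, hr,
      (commute_iota (P := P) (e := e) (commute_z_right ht) r).eq, mul_assoc, hr, zero_mul, mul_zero, add_zero]
  exact (Gen.isUnit_root h.coeff).mul_left_eq_zero.mp (iota_eq_zero h h1)

theorem same_iota [FiniteDimensional k M] (hk2 : ringChar k ≠ 2) (hk3 : Nat.card k ≠ 3) (hS : Min G s) (hT : Mem G t)
    (h : Split (s * t + t * s) P e) {r : AdjoinRoot P} (hr : r ≠ 0) :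
    Same s (iota (s * t + t * s) P e r * s) ∧ Min G (iota (s * t + t * s) P e r * s) := by
  have hc := commute_iota (P := P) (e := e) (commute_z_left (t := t) hS.1.sq) r
  have hmem : Mem G (iota (s * t + t * s) P e r * s) := by
    refine ⟨?_, fun e0 => hr (iota_mul_left_eq_zero hS.1.sq hT.sq h e0), fun c => ?_⟩
    · conv_lhs => arg 2; rw [hc.eq]
      rw [← mul_assoc, mul_assoc _ s s, hS.1.sq, mul_zero, zero_mul]
    · have e1 := iota_mul h (algebraMap k (AdjoinRoot P) c) r
      rw [iota_algebraMap h, smul_mul_assoc, ← iota_one h, iota_mul h, one_mul] at e1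
      rw [← smul_mul_assoc, e1]
      exact inG_iota hk2 hk3 hS.1 hT h _
  refine hS.same_of_le hmem (fun v hv => ?_) ?_
  · show (iota (s * t + t * s) P e r) (s v) = 0
    rw [LinearMap.mem_ker.mp hv, map_zero]
  · rw [hc.eq]; exact LinearMap.range_comp_le_range _ _

theorem left_fix [FiniteDimensional k M] (hk2 : ringChar k ≠ 2) (hk3 : Nat.card k ≠ 3) (hS : Min G s) (hT : Mem G t)
    (h : Split (s * t + t * s) P e) : aeval (s * t + t * s) e * s = s := by
  have h1 : (1 : AdjoinRoot P) ≠ 0 := by
    rw [Ne, ← map_one (AdjoinRoot.mk P), AdjoinRoot.mk_eq_zero]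
    exact fun hd => absurd (natDegree_le_of_dvd hd one_ne_zero) (by rw [natDegree_one]; exact not_le.mpr h.deg)
  obtain ⟨⟨-, hr⟩, -⟩ := same_iota hk2 hk3 hS hT h h1
  rw [iota_one h] at hr
  refine LinearMap.ext fun v => ?_
  obtain ⟨w, hw⟩ : s v ∈ LinearMap.range (aeval (s * t + t * s) e * s) := hr ▸ LinearMap.mem_range_self s v
  show aeval (s * t + t * s) e (s v) = s v
  rw [← hw]
  show (aeval (s * t + t * s) e * (aeval (s * t + t * s) e * s)) w = _
  rw [← mul_assoc, ← map_mul, aeval_e_mul h]

theorem irreducible_of_split [FiniteDimensional k M] (hk2 : ringChar k ≠ 2) (hk3 : Nat.card k ≠ 3) (hS : Min G s)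
    (hT : Mem G t) (h : Split (s * t + t * s) P e) : Irreducible P := by
  refine ⟨fun hu => absurd (natDegree_eq_zero_of_isUnit hu) h.deg.ne', fun f g hfg => ?_⟩
  by_contra hc
  rw [not_or] at hc
  have hne : ∀ {f g : k[X]}, P = f * g → ¬ IsUnit g → AdjoinRoot.mk P f ≠ 0 := fun {f g} hfg hg e0 => by
    obtain ⟨d, hd⟩ := AdjoinRoot.mk_eq_zero.mp e0
    refine hg (IsUnit.of_mul_eq_one d ?_)
    have hf : f ≠ 0 := fun e => h.monic.ne_zero (by rw [hfg, e, zero_mul])
    exact mul_left_cancel₀ hf (by rw [mul_one, ← mul_assoc, ← hfg, ← hd])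
  obtain ⟨⟨-, hr⟩, -⟩ := same_iota hk2 hk3 hS hT h (hne hfg hc.2)
  refine hne (hfg.trans (mul_comm f g)) hc.1 (iota_mul_left_eq_zero hS.1.sq hT.sq h ?_)
  refine LinearMap.ext fun v => ?_
  obtain ⟨w, hw⟩ : s v ∈ LinearMap.range (iota (s * t + t * s) P e (AdjoinRoot.mk P f) * s) :=
    hr ▸ LinearMap.mem_range_self s v
  show iota (s * t + t * s) P e (AdjoinRoot.mk P g) (s v) = 0
  rw [← hw]
  show (iota (s * t + t * s) P e (AdjoinRoot.mk P g) * (iota (s * t + t * s) P e (AdjoinRoot.mk P f) * s)) w = 0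
  rw [← mul_assoc, iota_mul h, ← map_mul, mul_comm g, ← hfg, AdjoinRoot.mk_self, iota_zero h, zero_mul]
  rfl

end Psi

/-- Properties of an opposite pair. -/
structure OppData (G : Subgroup (LinearMap.GeneralLinearGroup k M)) (s t : Module.End k M) (hs : s * s = 0)
    (ht : t * t = 0) where
  P : k[X]
  irr : Irreducible P
  monic : P.Monic
  coeff0 : P.coeff 0 ≠ 0
  φ : Matrix.SpecialLinearGroup (Fin 2) (AdjoinRoot P) →* LinearMap.GeneralLinearGroup k M
  inj : Function.Injective φ
  range_eq : φ.range = famGroup s t hs ht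
  map_up_one : φ (Gen.up 1) = mk s hs
  neg : ∀ v ∈ LinearMap.range s ⊔ LinearMap.range t, (φ (-1) : Module.End k M) v = -v
  map_up : ∀ r, r ≠ 0 → Same s ((φ (Gen.up r) : Module.End k M) - 1) ∧ Min G ((φ (Gen.up r) : Module.End k M) - 1)
  map_lo : ∀ r, r ≠ 0 → Same t ((φ (Gen.lo r) : Module.End k M) - 1) ∧ Min G ((φ (Gen.lo r) : Module.End k M) - 1)

variable [FiniteDimensional k M] {s t : Module.End k M}

theorem opp_spaces (hk2 : ringChar k ≠ 2) (hk3 : Nat.card k ≠ 3) (hS : Min G s) (hT : Min G t)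
    (hnil : ¬ IsNilpotent (s * t + t * s)) :
    ∃ p w : Module.End k M, p * p = p ∧ p * s = s ∧ p * t = t ∧ p = w * (s * t + t * s) ∧ Commute w s ∧ Commute w t := by
  obtain ⟨P, e, h⟩ := exists_split hnil
  obtain ⟨β, hβ⟩ := (Gen.isUnit_root h.coeff).exists_right_inv
  have h' : Split (t * s + s * t) P e := by rwa [add_comm]
  refine ⟨aeval (s * t + t * s) e, iota (s * t + t * s) P e β, ?_, left_fix hk2 hk3 hS hT.1 h, ?_, ?_,
    commute_iota (commute_z_left hS.1.sq) β, commute_iota (commute_z_right hT.1.sq) β⟩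
  · rw [← map_mul, aeval_e_mul h]
  · have := left_fix hk2 hk3 hT hS.1 h'
    rwa [add_comm] at this
  · rw [iota_mul_z h, mul_comm, hβ, iota_one h]

/-- The position of the spaces of an opposite pair. -/
theorem opp_position (hk2 : ringChar k ≠ 2) (hk3 : Nat.card k ≠ 3) (hS : Min G s) (hT : Min G t)
    (hnil : ¬ IsNilpotent (s * t + t * s)) :
    IsCompl (LinearMap.ker s ⊓ LinearMap.ker t) (LinearMap.range s ⊔ LinearMap.range t) ∧
      Disjoint (LinearMap.range s) (LinearMap.range t) ∧
      LinearMap.range s ⊓ LinearMap.ker t = ⊥ ∧ LinearMap.range t ⊓ LinearMap.ker s = ⊥ := by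
  obtain ⟨p, w, hpp, hps, hpt, hp, hws, hwt⟩ := opp_spaces hk2 hk3 hS hT hnil
  set z := s * t + t * s with hz
  have hws' : ∀ v, w (s v) = s (w v) := fun v => LinearMap.congr_fun hws.eq v
  have hwt' : ∀ v, w (t v) = t (w v) := fun v => LinearMap.congr_fun hwt.eq v
  have hpv : ∀ v, p v = w (s (t v)) + w (t (s v)) := fun v => by
    rw [hp]; show w (s (t v) + t (s v)) = _; rw [map_add]
  have hfix : ∀ v ∈ LinearMap.range s ⊔ LinearMap.range t, p v = v := by
    intro v hv
    obtain ⟨_, ⟨a, rfl⟩, _, ⟨b, rfl⟩, rfl⟩ := Submodule.mem_sup.mp hv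
    rw [map_add]
    exact congrArg₂ (· + ·) (LinearMap.congr_fun hps a) (LinearMap.congr_fun hpt b)
  have hzero : ∀ v, s v = 0 → t v = 0 → p v = 0 := fun v h1 h2 => by rw [hpv, h1, h2]; simp
  have hss : ∀ v, s (s v) = 0 := fun v => LinearMap.congr_fun hS.1.sq v
  have htt : ∀ v, t (t v) = 0 := fun v => LinearMap.congr_fun hT.1.sq v
  have hzp : ∀ v, s (p v) = s v ∧ t (p v) = t v := fun v => by
    constructor
    · have : s * p = s := by
        rw [hp, ← mul_assoc, ← hws.eq, mul_assoc, ← (commute_z_left hS.1.sq).eq, ← hz, ← mul_assoc, ← hp, hps]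
      exact LinearMap.congr_fun this v
    · have : t * p = t := by
        rw [hp, ← mul_assoc, ← hwt.eq, mul_assoc, ← (commute_z_right hT.1.sq).eq, ← hz, ← mul_assoc, ← hp, hpt]
      exact LinearMap.congr_fun this v
  refine ⟨⟨?_, ?_⟩, ?_, ?_, ?_⟩
  · rw [Submodule.disjoint_def]
    rintro v ⟨h1, h2⟩ hv
    rw [← hfix v hv, hzero v h1 h2]
  · rw [codisjoint_iff, eq_top_iff]
    intro v _
    rw [show v = (v - p v) + p v by abel]
    refine Submodule.add_mem_sup ⟨?_, ?_⟩ ?_
    · show s (v - p v) = 0; rw [map_sub, (hzp v).1, sub_self]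
    · show t (v - p v) = 0; rw [map_sub, (hzp v).2, sub_self]
    · rw [hpv]
      exact Submodule.add_mem_sup ⟨_, (hws' _).symm⟩ ⟨_, (hwt' _).symm⟩
  · rw [Submodule.disjoint_def]
    rintro _ ⟨a, rfl⟩ ⟨b, hb⟩
    rw [← hfix (s a) (Submodule.mem_sup_left ⟨a, rfl⟩)]
    exact hzero _ (hss a) (by rw [← hb]; exact htt b)
  · rw [eq_bot_iff]
    rintro _ ⟨⟨a, rfl⟩, h2⟩
    rw [Submodule.mem_bot, ← hfix (s a) (Submodule.mem_sup_left ⟨a, rfl⟩)]
    exact hzero _ (hss a) h2
  · rw [eq_bot_iff]
    rintro _ ⟨⟨a, rfl⟩, h2⟩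
    rw [Submodule.mem_bot, ← hfix (t a) (Submodule.mem_sup_right ⟨a, rfl⟩)]
    exact hzero _ h2 (htt a)

theorem nilpotent_z (h1 : s * t * s = 0) (h2 : t * s * t = 0) (hs : s * s = 0) (ht : t * t = 0) :
    IsNilpotent (s * t + t * s) := by
  refine ⟨2, ?_⟩
  simp only [pow_two, mul_add, add_mul, ← mul_assoc, h1, h2, zero_mul, mul_assoc s t t, ht, mul_zero,
    mul_assoc t s s, hs, add_zero]

/-- The two kinds of pairs are told apart by the spaces. -/
theorem nilpotent_iff_of_same (hk2 : ringChar k ≠ 2) (hk3 : Nat.card k ≠ 3) {s' t' : Module.End k M}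
    (hS : Min G s) (hT : Min G t) (hS' : Min G s') (hT' : Min G t') (hs : Same s s') (ht : Same t t') :
    IsNilpotent (s * t + t * s) ↔ IsNilpotent (s' * t' + t' * s') := by
  suffices H : ∀ {a b a' b' : Module.End k M}, Min G a → Min G b → Min G a' → Min G b' → Same a a' → Same b b' →
      IsNilpotent (a * b + b * a) → IsNilpotent (a' * b' + b' * a') from
    ⟨H hS hT hS' hT' hs ht, H hS' hT' hS hT hs.symm ht.symm⟩
  intro a b a' b' ha hb ha' hb' haa hbb hn
  by_contra hc
  obtain ⟨-, -, x1, x2⟩ := opp_position hk2 hk3 ha' hb' hc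
  rw [haa.2, hbb.1] at x1
  rw [hbb.2, haa.1] at x2
  exact not_both_disjoint hb.1 (deep_zero (two_ne hk2) ha hb hn).2 x1 x2

theorem oppData (hk2 : ringChar k ≠ 2) (hk3 : Nat.card k ≠ 3) (hS : Min G s) (hT : Min G t)
    (hnil : ¬ IsNilpotent (s * t + t * s)) : Nonempty (OppData G s t hS.1.sq hT.1.sq) := by
  obtain ⟨P, e, h⟩ := exists_split hnil
  obtain ⟨β, hβ⟩ := (Gen.isUnit_root h.coeff).exists_right_inv
  have h' : Split (t * s + s * t) P e := by rwa [add_comm]
  have hs := hS.1.sq
  have ht := hT.1.sq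
  have hfs := left_fix hk2 hk3 hS hT.1 h
  have hft : aeval (s * t + t * s) e * t = t := by
    have := left_fix hk2 hk3 hT hS.1 h'
    rwa [add_comm] at this
  refine ⟨⟨P, irreducible_of_split hk2 hk3 hS hT.1 h, h.monic, h.coeff, psi hs ht h β hβ, ?_, ?_, Units.ext ?_, ?_, ?_, ?_⟩⟩
  · rw [injective_iff_map_eq_one]
    intro g hg
    have h0 := congrArg (fun u : LinearMap.GeneralLinearGroup k M => (u : Module.End k M)) hg
    simp only [psi_val, psiFun, Units.val_one] at h0
    set z := s * t + t * s with hz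
    set a := g.1 0 0 * β
    set b := g.1 0 1
    set c := g.1 1 0 * β
    set d := g.1 1 1 * β
    have hC : comb s t P e a b c d = comb s t P e β 0 0 β := by
      rw [comb_one h hβ, ← sub_eq_zero, ← hz]
      rw [← sub_eq_zero] at h0
      rw [← h0]; abel
    have cs := commute_z_left (t := t) hs
    have ct := commute_z_right (s := s) ht
    have mid : ∀ (x : AdjoinRoot P) {X : Module.End k M}, Commute z X → ∀ Y,
        X * (iota z P e x * Y) = iota z P e x * (X * Y) := fun x {X} hX Y => by
      rw [← mul_assoc, ← (commute_iota hX x).eq, mul_assoc]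
    have n3 : s * t * s = z * s := (z_mul_left hs).symm
    have hα := Gen.isUnit_root h.coeff
    have cancel : ∀ {x y : AdjoinRoot P},
        iota z P e (x * AdjoinRoot.root P) * s = iota z P e (y * AdjoinRoot.root P) * s → x = y := fun {x y} e0 => by
      have := iota_add h ((x - y) * AdjoinRoot.root P) (y * AdjoinRoot.root P)
      rw [← add_mul, sub_add_cancel] at this
      rw [this, add_mul] at e0
      exact sub_eq_zero.mp (hα.mul_left_eq_zero.mp (iota_mul_left_eq_zero hs ht h (add_eq_right.mp e0)))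
    have n5 : s * (t * s) = z * s := by rw [← mul_assoc, n3]
    have n1 : s * (s * t) = 0 := by rw [← mul_assoc, hs, zero_mul]
    have n2 : t * s * s = 0 := by rw [mul_assoc, hs, mul_zero]
    have sand : ∀ (a b c d : AdjoinRoot P),
        s * comb s t P e a b c d * s = iota z P e (c * AdjoinRoot.root P) * s := fun a b c d => by
      rw [comb, ← hz, mul_add, mul_add, mul_add, mid _ cs, mid _ cs, mid _ cs, mid _ cs, n1, hs, n5, add_mul, add_mul,
        add_mul, mul_assoc _ (z * s) s, mul_assoc z s s, hs, mul_assoc _ (s * t) s, n3, mul_zero, mul_zero, zero_mul,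
        mul_zero, mul_zero, zero_add, zero_add, add_zero, ← mul_assoc, iota_mul_z h]
    have hright : ∀ (a b d : AdjoinRoot P),
        comb s t P e a b 0 d * s = iota z P e (a * AdjoinRoot.root P) * s := fun a b d => by
      rw [comb, ← hz, iota_zero h, zero_mul, add_zero, add_mul, add_mul, mul_assoc _ (s * t) s, n3, mul_assoc _ s s,
        mul_assoc _ (t * s) s, n2, hs, mul_zero, mul_zero, add_zero, add_zero, ← mul_assoc, iota_mul_z h]
    have hleft : ∀ (a b d : AdjoinRoot P),
        s * comb s t P e a b 0 d = iota z P e (d * AdjoinRoot.root P) * s := fun a b d => by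
      rw [comb, ← hz, iota_zero h, zero_mul, add_zero, mul_add, mul_add, mid _ cs, mid _ cs, mid _ cs, n1, hs, n5,
        mul_zero, mul_zero, zero_add, zero_add, ← mul_assoc, iota_mul_z h]
    have hc0 : c = 0 := cancel (by rw [← sand a b c d, hC, sand])
    rw [hc0] at hC
    have ha : a = β := cancel (by rw [← hright a b d, hC, hright])
    rw [ha] at hC
    have hd : d = β := cancel (by rw [← hleft β b d, hC, hleft])
    rw [hd] at hC
    have hb : b = 0 := by
      simp only [comb, ← hz, iota_zero h, zero_mul, add_zero] at hC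
      exact iota_mul_left_eq_zero hs ht h (add_eq_left.mp (add_right_cancel hC))
    have hβu : IsUnit β := IsUnit.of_mul_eq_one_right _ hβ
    refine Gen.ext_entries ?_ ?_ ?_ ?_ <;> simp only [Matrix.SpecialLinearGroup.coe_one]
    · exact (hβu.mul_eq_right).mp ha
    · exact hb
    · exact hβu.mul_left_eq_zero.mp hc0
    · exact (hβu.mul_eq_right).mp hd
  · have hR : Gen.elem k (AdjoinRoot.root P) = ⊤ := Gen.elem_root_eq_top hk2 hk3 _ P rfl h.monic h.coeff
    rw [MonoidHom.range_eq_map, ← hR, Gen.elem, MonoidHom.map_closure, famGroup]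
    have up_c : ∀ c : k, psi hs ht h β hβ (Gen.up (algebraMap k _ c)) = mk (c • s) (smul_sq hs c c) := fun c =>
      Units.ext (by rw [psi_up, iota_algebraMap h, smul_mul_assoc, hfs, mk_val])
    have lo_c : ∀ c : k, psi hs ht h β hβ (Gen.lo (algebraMap k _ c * AdjoinRoot.root P)) =
        mk (c • t) (smul_sq ht c c) := fun c =>
      Units.ext (by rw [psi_lo, mul_assoc, hβ, mul_one, iota_algebraMap h, smul_mul_assoc, hft, mk_val])
    congr 1
    ext u
    simp only [Set.image_union, Set.mem_union, Set.mem_image, Set.mem_setOf_eq, Set.mem_range]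
    constructor
    · rintro (⟨_, ⟨c, rfl⟩, rfl⟩ | ⟨_, ⟨c, rfl⟩, rfl⟩)
      · exact Or.inl ⟨c, (up_c c).symm⟩
      · exact Or.inr ⟨c, (lo_c c).symm⟩
    · rintro (⟨c, rfl⟩ | ⟨c, rfl⟩)
      · exact Or.inl ⟨_, ⟨c, rfl⟩, up_c c⟩
      · exact Or.inr ⟨_, ⟨c, rfl⟩, lo_c c⟩
  · rw [psi_up, iota_one h, hfs, mk_val]
  · intro v hv
    have e1 : (psi hs ht h β hβ (-1) : Module.End k M) =
        1 - aeval (s * t + t * s) e - aeval (s * t + t * s) e := by
      have e2 : (psi hs ht h β hβ (-1) : Module.End k M) =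
          1 - aeval (s * t + t * s) e + comb s t P e (-β) 0 0 (-β) := by
        rw [psi_val, psiFun]; simp
      have e3 : comb s t P e (-β) 0 0 (-β) + comb s t P e β 0 0 β = 0 := by
        simp only [comb, iota_zero h, zero_mul, add_zero]
        rw [add_add_add_comm, ← add_mul, ← add_mul, ← iota_add h, neg_add_cancel, iota_zero h, zero_mul, zero_mul,
          add_zero]
      rw [comb_one h hβ] at e3
      rw [e2, eq_neg_of_add_eq_zero_left e3]
      abel
    obtain ⟨_, ⟨a, rfl⟩, _, ⟨b, rfl⟩, rfl⟩ := Submodule.mem_sup.mp hv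
    have fs : aeval (s * t + t * s) e (s a) = s a := LinearMap.congr_fun hfs a
    have ft : aeval (s * t + t * s) e (t b) = t b := LinearMap.congr_fun hft b
    rw [e1]
    show s a + t b - aeval (s * t + t * s) e (s a + t b) - aeval (s * t + t * s) e (s a + t b) = _
    rw [map_add, fs, ft]
    abel
  · intro r hr
    rw [psi_up, add_sub_cancel_left]
    exact same_iota hk2 hk3 hS hT.1 h hr
  · intro r hr
    rw [psi_lo, add_sub_cancel_left]
    have := same_iota hk2 hk3 hT hS.1 h' (r := r * β)
      (fun e0 => hr (by linear_combination (AdjoinRoot.root P) * e0 - r * hβ))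
    rwa [add_comm (t * s)] at this

end CfsgLib.QP
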