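/-
Conjugation of classes; unipotency of a pair of classes.
-/
import Mathlib
import Cfsg.Agent.Lib.RootSub.QP.Opp

set_option autoImplicit false

open scoped Pointwise

namespace CfsgLib.QP

universe u

variable {k : Type u} [Field k] {M : Type*} [AddCommGroup M] [Module k M]
variable {G : Subgroup (LinearMap.GeneralLinearGroup k M)}

theorem scalarFamily_eq (σ : LinearMap.GeneralLinearGroup k M)
    (hs : ((σ : Module.End k M) - 1) * ((σ : Module.End k M) - 1) = 0) :
    Cfsg.scalarFamily σ = Set.range fun c : k => mk (c • ((σ : Module.End k M) - 1)) (smul_sq hs c c) := by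
  ext τ
  exact ⟨fun ⟨c, hc⟩ => ⟨c, Units.ext hc.symm⟩, fun ⟨c, hc⟩ => ⟨c, by rw [← hc]; rfl⟩⟩

theorem eq_mk_of_sub_one (g : LinearMap.GeneralLinearGroup k M)
    (hs : ((g : Module.End k M) - 1) * ((g : Module.End k M) - 1) = 0) : g = mk _ hs :=
  Units.ext (by rw [mk_val, add_sub_cancel])

/-- Conjugate of an endomorphism. -/
def conjE (g : LinearMap.GeneralLinearGroup k M) (x : Module.End k M) : Module.End k M :=
  (g : Module.End k M) * x * (g⁻¹ : LinearMap.GeneralLinearGroup k M).1

theorem conj_sub_one (g h : LinearMap.GeneralLinearGroup k M) :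
    ((g * h * g⁻¹ : LinearMap.GeneralLinearGroup k M) : Module.End k M) - 1 = conjE g ((h : Module.End k M) - 1) := by
  rw [conjE, mul_sub, sub_mul, mul_one, Units.mul_inv, Units.val_mul, Units.val_mul]

theorem conjE_mul (g : LinearMap.GeneralLinearGroup k M) (x y : Module.End k M) :
    conjE g x * conjE g y = conjE g (x * y) := by
  simp only [conjE, mul_assoc]; rw [← mul_assoc (g⁻¹ : LinearMap.GeneralLinearGroup k M).1, Units.inv_mul, one_mul]

theorem conjE_conjE (g : LinearMap.GeneralLinearGroup k M) (x : Module.End k M) :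
    conjE g⁻¹ (conjE g x) = x := by
  simp [conjE, ← mul_assoc]

theorem conjE_smul (g : LinearMap.GeneralLinearGroup k M) (c : k) (x : Module.End k M) :
    conjE g (c • x) = c • conjE g x := by simp [conjE]

theorem range_conjE (g : LinearMap.GeneralLinearGroup k M) (x : Module.End k M) :
    LinearMap.range (conjE g x) = (LinearMap.range x).map (g : Module.End k M) := by
  ext v
  constructor
  · rintro ⟨w, rfl⟩; exact ⟨_, ⟨_, rfl⟩, rfl⟩
  · rintro ⟨_, ⟨w, rfl⟩, rfl⟩
    refine ⟨(g : Module.End k M) w, ?_⟩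
    have e : (g⁻¹ : LinearMap.GeneralLinearGroup k M).1 ((g : Module.End k M) w) = w := LinearMap.congr_fun g.inv_mul w
    show (g : Module.End k M) (x ((g⁻¹ : LinearMap.GeneralLinearGroup k M).1 ((g : Module.End k M) w))) = _
    rw [e]

theorem ker_conjE (g : LinearMap.GeneralLinearGroup k M) (x : Module.End k M) :
    LinearMap.ker (conjE g x) = (LinearMap.ker x).map (g : Module.End k M) := by
  ext v
  constructor
  · intro hv
    refine ⟨(g⁻¹ : LinearMap.GeneralLinearGroup k M).1 v, ?_, LinearMap.congr_fun g.mul_inv v⟩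
    have := congrArg (g⁻¹ : LinearMap.GeneralLinearGroup k M).1 (LinearMap.mem_ker.mp hv)
    show x ((g⁻¹ : LinearMap.GeneralLinearGroup k M).1 v) = 0
    refine (LinearMap.congr_fun g.inv_mul _).symm.trans (this.trans (map_zero _))
  · rintro ⟨w, hw, rfl⟩
    have e : (g⁻¹ : LinearMap.GeneralLinearGroup k M).1 ((g : Module.End k M) w) = w := LinearMap.congr_fun g.inv_mul w
    show (g : Module.End k M) (x ((g⁻¹ : LinearMap.GeneralLinearGroup k M).1 ((g : Module.End k M) w))) = 0
    rw [e, LinearMap.mem_ker.mp hw, map_zero]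

theorem Same.conjE {s u : Module.End k M} (h : Same s u) (g : LinearMap.GeneralLinearGroup k M) :
    Same (QP.conjE g s) (QP.conjE g u) :=
  ⟨by rw [ker_conjE, ker_conjE, h.1], by rw [range_conjE, range_conjE, h.2]⟩

theorem Mem.conjE {s : Module.End k M} (h : Mem G s) {g : LinearMap.GeneralLinearGroup k M} (hg : g ∈ G) :
    Mem G (QP.conjE g s) where
  sq := by rw [conjE_mul, h.sq]; simp [QP.conjE]
  ne := fun e => h.ne (by rw [← conjE_conjE g s, e]; simp [QP.conjE])
  fam c := by
    obtain ⟨u, hu, e⟩ := h.fam c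
    refine ⟨g * u * g⁻¹, mul_mem (mul_mem hg hu) (inv_mem hg), ?_⟩
    rw [← conjE_smul, ← sub_eq_iff_eq_add', conj_sub_one, e, add_sub_cancel_left]

theorem rk_conjE (s : Module.End k M) (g : LinearMap.GeneralLinearGroup k M) : rk (conjE g s) = rk s := by
  rw [rk, range_conjE, rk]
  exact ((Submodule.equivMapOfInjective _ (Function.LeftInverse.injective
    (g := (g⁻¹ : LinearMap.GeneralLinearGroup k M).1) (fun v => LinearMap.congr_fun g.inv_mul v)) _).finrank_eq).symm

theorem Min.conjE {s : Module.End k M} (h : Min G s) {g : LinearMap.GeneralLinearGroup k M} (hg : g ∈ G) :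
    Min G (QP.conjE g s) := ⟨h.1.conjE hg, fun u hu => (rk_conjE s g).trans_le (h.2 u hu)⟩

theorem conj_mem_minimal {σ g : LinearMap.GeneralLinearGroup k M} (hσ : σ ∈ Cfsg.minimalQuadraticElements G)
    (hg : g ∈ G) : g * σ * g⁻¹ ∈ Cfsg.minimalQuadraticElements G := by
  rw [mem_minimal_iff, conj_sub_one]; exact (mem_minimal_iff.mp hσ).conjE hg

theorem conjBy_sameActionSubgroup {σ g : LinearMap.GeneralLinearGroup k M} (hg : g ∈ G) :
    Cfsg.conjBy (Cfsg.sameActionSubgroup G σ) g = Cfsg.sameActionSubgroup G (g * σ * g⁻¹) := by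
  rw [Cfsg.conjBy, Cfsg.sameActionSubgroup, Cfsg.sameActionSubgroup, MonoidHom.map_closure]
  congr 1
  ext x
  simp only [Set.mem_image, MulEquiv.coe_toMonoidHom, MulAut.conj_apply, mem_sameActionClass_iff]
  constructor
  · rintro ⟨τ, ⟨h1, h2⟩, rfl⟩
    rw [conj_sub_one, conj_sub_one]
    exact ⟨h1.conjE hg, h2.conjE g⟩
  · rintro ⟨h1, h2⟩
    refine ⟨g⁻¹ * x * g, ?_, by group⟩
    have e : ((g⁻¹ * x * g : LinearMap.GeneralLinearGroup k M) : Module.End k M) - 1 =
        conjE g⁻¹ ((x : Module.End k M) - 1) := by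
      rw [← conj_sub_one, inv_inv]
    rw [e]
    refine ⟨h1.conjE (inv_mem hg), ?_⟩
    have := h2.conjE g⁻¹
    rwa [conj_sub_one, conjE_conjE] at this

theorem sameActionSubgroup_eq {σ τ : LinearMap.GeneralLinearGroup k M}
    (h : Same ((σ : Module.End k M) - 1) ((τ : Module.End k M) - 1)) :
    Cfsg.sameActionSubgroup G σ = Cfsg.sameActionSubgroup G τ := by
  rw [Cfsg.sameActionSubgroup, Cfsg.sameActionSubgroup]
  congr 1
  ext x
  rw [mem_sameActionClass_iff, mem_sameActionClass_iff]
  exact ⟨fun ⟨a, b⟩ => ⟨a, h.symm.trans b⟩, fun ⟨a, b⟩ => ⟨a, h.trans b⟩⟩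

theorem sameActionSubgroup_le {σ : LinearMap.GeneralLinearGroup k M} : Cfsg.sameActionSubgroup G σ ≤ G :=
  (Subgroup.closure_le _).mpr fun _ h => h.1.1.1

theorem self_mem_sameActionSubgroup {σ : LinearMap.GeneralLinearGroup k M}
    (hσ : σ ∈ Cfsg.minimalQuadraticElements G) : σ ∈ Cfsg.sameActionSubgroup G σ :=
  Subgroup.subset_closure ⟨hσ, rfl, rfl⟩

theorem scalarFamily_subset [FiniteDimensional k M] {σ : LinearMap.GeneralLinearGroup k M}
    (hσ : σ ∈ Cfsg.minimalQuadraticElements G) :
    Cfsg.scalarFamily σ ⊆ (Cfsg.sameActionSubgroup G σ : Set (LinearMap.GeneralLinearGroup k M)) := by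
  rintro τ ⟨c, hc⟩
  have hs := mem_minimal_iff.mp hσ
  by_cases hc0 : c = 0
  · have : τ = 1 := Units.ext (by rw [hc, hc0, zero_smul, add_zero]; rfl)
    exact this ▸ one_mem _
  · rw [SetLike.mem_coe, show τ = mk _ (hs.smul hc0).1.sq from Units.ext hc]
    exact mk_mem_sameActionSubgroup hσ (hs.1.smul hc0) ⟨ker_smul_eq _ hc0, range_smul_eq _ hc0⟩

theorem commute_in_class [FiniteDimensional k M] {σ : LinearMap.GeneralLinearGroup k M}
    (hσ : σ ∈ Cfsg.minimalQuadraticElements G) : IsMulCommutative (Cfsg.sameActionSubgroup G σ) := by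
  refine ⟨⟨fun a b => Subtype.ext ?_⟩⟩
  rcases (mem_sameActionSubgroup_iff hσ).mp a.2 with ha | ⟨-, ha⟩
  · rw [Subgroup.coe_mul, Subgroup.coe_mul, ha, one_mul, mul_one]
  rcases (mem_sameActionSubgroup_iff hσ).mp b.2 with hb | ⟨-, hb⟩
  · rw [Subgroup.coe_mul, Subgroup.coe_mul, hb, one_mul, mul_one]
  have hs := (mem_minimal_iff.mp hσ).1.sq
  have h1 := mul_eq_zero_of_same hs ha hb
  have h2 := mul_eq_zero_of_same hs hb ha
  refine Units.ext ?_
  show (a.1 : Module.End k M) * b.1 = (b.1 : Module.End k M) * a.1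
  rw [sub_mul, mul_sub, one_mul, mul_one, sub_eq_zero] at h1 h2
  rw [eq_add_of_sub_eq h1, eq_add_of_sub_eq h2]
  abel

theorem IsUnipotentOn_mono {H K : Subgroup (LinearMap.GeneralLinearGroup k M)} (h : H ≤ K)
    (hK : Cfsg.IsUnipotentOn K) : Cfsg.IsUnipotentOn H :=
  let ⟨n, hn⟩ := hK; ⟨n, fun l hl => hn l fun g hg => h (hl g hg)⟩

theorem prod_mem_pow (N : Submodule k (Module.End k M)) :
    ∀ l : List (Module.End k M), (∀ x ∈ l, x ∈ N) → l.prod ∈ N ^ l.length
  | [], _ => by rw [List.prod_nil, List.length_nil, pow_zero]; exact Submodule.one_le.mp le_rfl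
  | a :: l, h => by
    rw [List.prod_cons, List.length_cons, pow_succ']
    exact Submodule.mul_mem_mul (h a (List.mem_cons_self)) (prod_mem_pow N l fun x hx => h x (List.mem_cons_of_mem a hx))

theorem nilpotent_of_unipotent [FiniteDimensional k M] {σ τ : LinearMap.GeneralLinearGroup k M}
    {H : Subgroup (LinearMap.GeneralLinearGroup k M)} (hσH : σ ∈ H) (hτH : τ ∈ H) (hH : Cfsg.IsUnipotentOn H)
    (hs : ((σ : Module.End k M) - 1) * ((σ : Module.End k M) - 1) = 0)
    (ht : ((τ : Module.End k M) - 1) * ((τ : Module.End k M) - 1) = 0) :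
    IsNilpotent (((σ : Module.End k M) - 1) * ((τ : Module.End k M) - 1) +
      ((τ : Module.End k M) - 1) * ((σ : Module.End k M) - 1)) := by
  obtain ⟨n, hn⟩ := hH
  set s := (σ : Module.End k M) - 1
  set t := (τ : Module.End k M) - 1
  have key : ∀ m, (List.flatten (List.replicate m [s, t])).prod = (s * t) ^ m := fun m => by
    induction m with
    | zero => simp
    | succ m ih => rw [List.replicate_succ, List.flatten_cons, List.prod_append, ih, pow_succ']; simp
  have hst : (s * t) ^ n = 0 := by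
    set l := List.flatten (List.replicate n [σ, τ]) with hl
    have hlen : l.length = n + n := by rw [hl]; simp [List.length_flatten, List.map_replicate, List.sum_replicate]; ring
    have hlH : ∀ g ∈ l, g ∈ H := fun g hg => by
      rw [hl, List.mem_flatten] at hg
      obtain ⟨l', hl', hg⟩ := hg
      rw [List.mem_replicate] at hl'
      rw [hl'.2] at hg
      simp at hg
      rcases hg with rfl | rfl <;> assumption
    simp only [bind_pure_comp, List.map_eq_map, List.map_map, Function.comp_def] at hn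
    have e : (l.map fun g : LinearMap.GeneralLinearGroup k M => (g : Module.End k M) - 1).prod = (s * t) ^ n := by
      rw [hl, List.map_flatten, List.map_replicate]; exact key n
    rw [← e, ← List.take_append_drop n l, List.map_append, List.prod_append,
      hn (l.take n) (fun g hg => hlH g (List.mem_of_mem_take hg)) (by rw [List.length_take, hlen]; omega), zero_mul]
  have hts : (t * s) ^ (n + 1) = 0 := by
    have e : ∀ m, (t * s) ^ (m + 1) = t * (s * t) ^ m * s := fun m => by
      induction m with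
      | zero => simp
      | succ m ih => rw [pow_succ, ih, pow_succ (s * t)]; simp only [mul_assoc]
    rw [e, hst, mul_zero, zero_mul]
  refine Commute.isNilpotent_add ?_ ⟨n, hst⟩ ⟨n + 1, hts⟩
  show s * t * (t * s) = t * s * (s * t)
  rw [← mul_assoc, mul_assoc s t t, ht, mul_zero, zero_mul, ← mul_assoc, mul_assoc t s s, hs, mul_zero, zero_mul]

/-- Classes of a nilpotent pair generate a unipotent group. -/
theorem unipotent_classes [FiniteDimensional k M] (hk2 : ringChar k ≠ 2) (hk3 : Nat.card k ≠ 3)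
    {σ τ : LinearMap.GeneralLinearGroup k M} (hσ : σ ∈ Cfsg.minimalQuadraticElements G)
    (hτ : τ ∈ Cfsg.minimalQuadraticElements G)
    (hn : IsNilpotent (((σ : Module.End k M) - 1) * ((τ : Module.End k M) - 1) +
      ((τ : Module.End k M) - 1) * ((σ : Module.End k M) - 1))) :
    Cfsg.IsUnipotentOn (Cfsg.sameActionSubgroup G σ ⊔ Cfsg.sameActionSubgroup G τ) := by
  set s := (σ : Module.End k M) - 1
  set t := (τ : Module.End k M) - 1
  have hS : Min G s := mem_minimal_iff.mp hσ
  have hT : Min G t := mem_minimal_iff.mp hτ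
  set C : Set (Module.End k M) := {u | Min G u ∧ (Same s u ∨ Same t u)} with hC
  set N : Submodule k (Module.End k M) := Submodule.span k (C ∪ C * C) with hN
  have alt : ∀ {a b c : Module.End k M}, Min G a → Min G b → Same s a → Same t b → Same s c → a * b * c = 0 := by
    intro a b c ha hb hsa htb hsc
    have h0 : IsNilpotent (a * b + b * a) := (nilpotent_iff_of_same hk2 hk3 hS hT ha hb hsa htb).mp hn
    have h1 := (deep_zero (two_ne hk2) ha hb h0).1
    refine LinearMap.ext fun v => ?_
    obtain ⟨w, hw⟩ : c v ∈ LinearMap.range a := by rw [hsa.2, ← hsc.2]; exact LinearMap.mem_range_self c v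
    show a (b (c v)) = 0
    rw [← hw]; exact LinearMap.congr_fun h1 w
  have alt' : ∀ {a b c : Module.End k M}, Min G a → Min G b → Same t a → Same s b → Same t c → a * b * c = 0 := by
    intro a b c ha hb hta hsb htc
    have h0 : IsNilpotent (b * a + a * b) := (nilpotent_iff_of_same hk2 hk3 hS hT hb ha hsb hta).mp hn
    have h1 := (deep_zero (two_ne hk2) hb ha h0).2
    refine LinearMap.ext fun v => ?_
    obtain ⟨w, hw⟩ : c v ∈ LinearMap.range a := by rw [hta.2, ← htc.2]; exact LinearMap.mem_range_self c v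
    show a (b (c v)) = 0
    rw [← hw]; exact LinearMap.congr_fun h1 w
  have h3 : ∀ {a b c}, a ∈ C → b ∈ C → c ∈ C → a * b * c = 0 := by
    rintro a b c ⟨ha, ha'⟩ ⟨hb, hb'⟩ ⟨-, hc'⟩
    rcases ha' with ha' | ha' <;> rcases hb' with hb' | hb'
    · rw [mul_eq_zero_of_same hS.1.sq ha' hb', zero_mul]
    · rcases hc' with hc' | hc'
      · exact alt ha hb ha' hb' hc'
      · rw [mul_assoc, mul_eq_zero_of_same hT.1.sq hb' hc', mul_zero]
    · rcases hc' with hc' | hc'
      · rw [mul_assoc, mul_eq_zero_of_same hS.1.sq hb' hc', mul_zero]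
      · exact alt' ha hb ha' hb' hc'
    · rw [mul_eq_zero_of_same hT.1.sq ha' hb', zero_mul]
  have h4 : ∀ {a b c d}, a ∈ C → b ∈ C → c ∈ C → d ∈ C → a * b * (c * d) = 0 := fun ha hb hc _ => by
    rw [← mul_assoc, h3 ha hb hc, zero_mul]
  have hNN : N * N ≤ N := by
    rw [hN, Submodule.span_mul_span, Submodule.span_le]
    rintro _ ⟨x, hx | ⟨a, ha, b, hb, rfl⟩, y, hy | ⟨c, hc, d, hd, rfl⟩, rfl⟩ <;> simp only [SetLike.mem_coe]
    · exact Submodule.subset_span (Or.inr (Set.mul_mem_mul hx hy))
    · rw [← mul_assoc, h3 hx hc hd]; exact Submodule.zero_mem _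
    · rw [h3 ha hb hy]; exact Submodule.zero_mem _
    · rw [h4 ha hb hc hd]; exact Submodule.zero_mem _
  have hN3 : N ^ 3 = ⊥ := by
    have e : N * N ≤ Submodule.span k (C * C) := by
      rw [hN, Submodule.span_mul_span, Submodule.span_le]
      rintro _ ⟨x, hx | ⟨a, ha, b, hb, rfl⟩, y, hy | ⟨c, hc, d, hd, rfl⟩, rfl⟩ <;> simp only [SetLike.mem_coe]
      · exact Submodule.subset_span (Set.mul_mem_mul hx hy)
      · rw [← mul_assoc, h3 hx hc hd]; exact Submodule.zero_mem _
      · rw [h3 ha hb hy]; exact Submodule.zero_mem _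
      · rw [h4 ha hb hc hd]; exact Submodule.zero_mem _
    rw [pow_succ, pow_two, ← le_bot_iff]
    refine (mul_le_mul' e le_rfl).trans ?_
    rw [hN, Submodule.span_mul_span, Submodule.span_le]
    rintro _ ⟨_, ⟨a, ha, b, hb, rfl⟩, y, hy | ⟨c, hc, d, hd, rfl⟩, rfl⟩ <;> simp only [SetLike.mem_coe, Submodule.mem_bot]
    · exact h3 ha hb hy
    · exact h4 ha hb hc hd
  refine ⟨3, fun l hl hlen => ?_⟩
  have hmem : ∀ g ∈ Cfsg.sameActionSubgroup G σ ⊔ Cfsg.sameActionSubgroup G τ,
      (g : Module.End k M) - 1 ∈ N ∧ ((g⁻¹ : LinearMap.GeneralLinearGroup k M) : Module.End k M) - 1 ∈ N := by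
    intro g hg
    rw [Cfsg.sameActionSubgroup, Cfsg.sameActionSubgroup, ← Subgroup.closure_union] at hg
    induction hg using Subgroup.closure_induction with
    | mem x hx =>
      have hxC : (x : Module.End k M) - 1 ∈ C := by
        rcases hx with hx | hx <;> rw [mem_sameActionClass_iff] at hx
        · exact ⟨hx.1, Or.inl hx.2⟩
        · exact ⟨hx.1, Or.inr hx.2⟩
      have e : ((x⁻¹ : LinearMap.GeneralLinearGroup k M) : Module.End k M) - 1 = -((x : Module.End k M) - 1) := by
        have h1 := one_add_mul_one_sub hxC.1.1.sq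
        rw [add_sub_cancel] at h1
        rw [Units.inv_eq_of_mul_eq_one_right h1]
        abel
      rw [e]
      exact ⟨Submodule.subset_span (Or.inl hxC), Submodule.neg_mem _ (Submodule.subset_span (Or.inl hxC))⟩
    | one => simp
    | mul x y _ _ hx hy =>
      have key : ∀ {a b : Module.End k M}, a - 1 ∈ N → b - 1 ∈ N → a * b - 1 ∈ N := fun {a b} ha hb => by
        have e : a * b - 1 = (a - 1) + (b - 1) + (a - 1) * (b - 1) := by noncomm_ring
        rw [e]
        exact Submodule.add_mem _ (Submodule.add_mem _ ha hb) (hNN (Submodule.mul_mem_mul ha hb))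
      rw [mul_inv_rev, Units.val_mul, Units.val_mul]
      exact ⟨key hx.1 hy.1, key hy.2 hx.2⟩
    | inv x _ hx => rw [inv_inv]; exact ⟨hx.2, hx.1⟩
  have := prod_mem_pow N (l.map fun g : LinearMap.GeneralLinearGroup k M => (g : Module.End k M) - 1) fun x hx => by
    obtain ⟨g, hg, rfl⟩ := List.mem_map.mp hx
    exact (hmem g (hl g hg)).1
  rw [List.length_map, hlen, hN3, Submodule.mem_bot] at this
  simp only [bind_pure_comp, List.map_eq_map, List.map_map, Function.comp_def]
  exact this

end CfsgLib.QP
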