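/-
The classes of an opposite pair form a special rank one pair.
-/
import Mathlib
import Cfsg.Agent.Lib.RootSub.RankOne
import Cfsg.Agent.Lib.RootSub.QP.Classes

set_option autoImplicit false

namespace CfsgLib.QP

universe u

variable {k : Type u} [Field k] {M : Type*} [AddCommGroup M] [Module k M] [FiniteDimensional k M]
variable {G : Subgroup (LinearMap.GeneralLinearGroup k M)} {σ τ : LinearMap.GeneralLinearGroup k M}

/-- Being opposite, for elements. -/
def Opp (σ τ : LinearMap.GeneralLinearGroup k M) : Prop :=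
  ¬ IsNilpotent (((σ : Module.End k M) - 1) * ((τ : Module.End k M) - 1) +
    ((τ : Module.End k M) - 1) * ((σ : Module.End k M) - 1))

theorem Opp.symm (h : Opp σ τ) : Opp τ σ := by unfold Opp at h ⊢; rwa [add_comm]

theorem opp_of_mem (hk2 : ringChar k ≠ 2) (hk3 : Nat.card k ≠ 3) (hσ : σ ∈ Cfsg.minimalQuadraticElements G)
    (hτ : τ ∈ Cfsg.minimalQuadraticElements G) (h : Opp σ τ) {a b : LinearMap.GeneralLinearGroup k M}
    (ha : a ∈ Cfsg.sameActionSubgroup G σ) (ha1 : a ≠ 1) (hb : b ∈ Cfsg.sameActionSubgroup G τ) (hb1 : b ≠ 1) :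
    a ∈ Cfsg.minimalQuadraticElements G ∧ b ∈ Cfsg.minimalQuadraticElements G ∧
      Same ((σ : Module.End k M) - 1) ((a : Module.End k M) - 1) ∧
      Same ((τ : Module.End k M) - 1) ((b : Module.End k M) - 1) ∧ Opp a b := by
  obtain ⟨h1, h2⟩ := ((mem_sameActionSubgroup_iff hσ).mp ha).resolve_left ha1
  obtain ⟨h3, h4⟩ := ((mem_sameActionSubgroup_iff hτ).mp hb).resolve_left hb1
  exact ⟨mem_minimal_iff.mpr h1, mem_minimal_iff.mpr h3, h2, h4,
    fun hn => h ((nilpotent_iff_of_same hk2 hk3 (mem_minimal_iff.mp hσ) (mem_minimal_iff.mp hτ) h1 h3 h2 h4).mpr hn)⟩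

theorem normalizes_eq_one (hk2 : ringChar k ≠ 2) (hk3 : Nat.card k ≠ 3) (hσ : σ ∈ Cfsg.minimalQuadraticElements G)
    (hτ : τ ∈ Cfsg.minimalQuadraticElements G) (h : Opp σ τ) {b : LinearMap.GeneralLinearGroup k M}
    (hb : b ∈ Cfsg.sameActionSubgroup G τ)
    (hn : b ∈ Subgroup.normalizer (Cfsg.sameActionSubgroup G σ : Set (LinearMap.GeneralLinearGroup k M))) :
    b = 1 := by
  by_contra hb1
  obtain ⟨-, hbm, -, -, hopp⟩ := opp_of_mem hk2 hk3 hσ hτ h (self_mem_sameActionSubgroup hσ)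
    (fun e => (mem_minimal_iff.mp hσ).1.ne (by rw [e, Units.val_one, sub_self])) hb hb1
  have hS := mem_minimal_iff.mp hσ
  have hB := mem_minimal_iff.mp hbm
  obtain ⟨-, hd, -, hbot⟩ := opp_position hk2 hk3 hS hB hopp
  have hm := (Subgroup.mem_normalizer_iff.mp hn σ).mp (self_mem_sameActionSubgroup hσ)
  obtain ⟨-, hsame⟩ := ((mem_sameActionSubgroup_iff hσ).mp hm).resolve_left (fun e =>
    hS.1.ne (by rw [conj_eq_one_iff.mp e, Units.val_one, sub_self]))
  have hI : (LinearMap.range ((σ : Module.End k M) - 1)).map (b : Module.End k M) =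
      LinearMap.range ((σ : Module.End k M) - 1) := by
    rw [← range_conjE, ← conj_sub_one, hsame.2]
  have hz : ∀ v ∈ LinearMap.range ((σ : Module.End k M) - 1), ((b : Module.End k M) - 1) v = 0 := fun v hv => by
    refine Submodule.disjoint_def.mp hd _ ?_ ⟨v, rfl⟩
    rw [LinearMap.sub_apply]
    exact Submodule.sub_mem _ (hI ▸ Submodule.mem_map_of_mem hv) hv
  obtain ⟨-, -, hbot', -⟩ := opp_position hk2 hk3 hS hB hopp
  refine hS.1.ne (LinearMap.range_eq_bot.mp (le_bot_iff.mp (hbot' ▸ le_inf le_rfl ?_)))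
  exact fun v hv => hz v hv

theorem rankOneCondition_eq (hk2 : ringChar k ≠ 2) (hk3 : Nat.card k ≠ 3)
    (hσ : σ ∈ Cfsg.minimalQuadraticElements G)
    (hτ : τ ∈ Cfsg.minimalQuadraticElements G) (h : Opp σ τ) {a : LinearMap.GeneralLinearGroup k M}
    (ha : a ∈ Cfsg.sameActionSubgroup G σ) (ha1 : a ≠ 1) :
    ∃ b ∈ Cfsg.sameActionSubgroup G τ, b ≠ 1 ∧
      Cfsg.conjBy (Cfsg.sameActionSubgroup G σ) b⁻¹ = Cfsg.conjBy (Cfsg.sameActionSubgroup G τ) a⁻¹ ∧
      b⁻¹ * a * b = a⁻¹ * b⁻¹ * a := by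
  have hτ1 : τ ≠ 1 := fun e => (mem_minimal_iff.mp hτ).1.ne (by rw [e, Units.val_one, sub_self])
  obtain ⟨ham, -, hsa, -, hopp⟩ := opp_of_mem hk2 hk3 hσ hτ h ha ha1 (self_mem_sameActionSubgroup hτ) hτ1
  have hA := mem_minimal_iff.mp ham
  obtain ⟨D⟩ := oppData hk2 hk3 hA (mem_minimal_iff.mp hτ) hopp
  haveI := Fact.mk D.irr
  have hup : D.φ (Gen.up 1) = a := by rw [D.map_up_one]; exact (eq_mk_of_sub_one a hA.1.sq).symm
  obtain ⟨hl1, hl2⟩ := D.map_lo 1 one_ne_zero
  obtain ⟨hm1, hm2⟩ := D.map_lo (-1) (neg_ne_zero.mpr one_ne_zero)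
  set b := D.φ (Gen.lo 1) with hb
  set g := a * b⁻¹ with hg
  have hbF : b ∈ Cfsg.sameActionSubgroup G τ := Subgroup.subset_closure (mem_sameActionClass_iff.mpr ⟨hl2, hl1⟩)
  have hgG : g ∈ G := mul_mem (sameActionSubgroup_le ha) (inv_mem (sameActionSubgroup_le hbF))
  have e : Gen.up (1 : AdjoinRoot D.P) * (Gen.lo 1)⁻¹ * Gen.up 1 * (Gen.up 1 * (Gen.lo 1)⁻¹)⁻¹ = Gen.lo (-1) := by
    rw [Gen.lo_inv]
    obtain ⟨c01, c10, c00, c11⟩ := Gen.conj_up (Gen.up (1 : AdjoinRoot D.P) * Gen.lo (-1)) 1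
    apply Gen.ext_entries
    · rw [c00]; simp [Gen.mul_entry]
    · rw [c01]; simp [Gen.mul_entry]
    · rw [c10]; simp [Gen.mul_entry]
    · rw [c11]; simp [Gen.mul_entry]
  refine ⟨b, hbF, fun e1 => hl2.1.ne (by rw [e1, Units.val_one, sub_self]), ?_, ?_⟩
  · have hconj : Cfsg.conjBy (Cfsg.sameActionSubgroup G σ) g = Cfsg.sameActionSubgroup G τ := by
      rw [sameActionSubgroup_eq hsa, conjBy_sameActionSubgroup hgG]
      refine (sameActionSubgroup_eq ?_).symm
      have e' : g * a * g⁻¹ = D.φ (Gen.lo (-1)) := by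
        rw [← e, map_mul, map_mul, map_mul, map_inv, map_inv, map_mul, map_inv, hup, ← hb, hg]
      rw [e']; exact hm1
    rw [← hconj, CfsgLib.RootSub.conjBy_conjBy, hg, inv_mul_cancel_left]
  · have e2 : (Gen.lo (1 : AdjoinRoot D.P))⁻¹ * Gen.up 1 * Gen.lo 1 = (Gen.up 1)⁻¹ * (Gen.lo 1)⁻¹ * Gen.up 1 := by
      rw [Gen.up_inv, Gen.lo_inv]; apply Gen.ext_entries <;> simp [Gen.mul_entry]
    have := congrArg D.φ e2
    rwa [map_mul, map_mul, map_mul, map_mul, map_inv, map_inv, hup, ← hb] at this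

theorem isSpecialRankOnePair (hk2 : ringChar k ≠ 2) (hk3 : Nat.card k ≠ 3) (hσ : σ ∈ Cfsg.minimalQuadraticElements G)
    (hτ : τ ∈ Cfsg.minimalQuadraticElements G) (h : Opp σ τ) :
    Cfsg.IsSpecialRankOnePair (Cfsg.sameActionSubgroup G σ) (Cfsg.sameActionSubgroup G τ) := by
  have hc1 := commute_in_class hσ
  have hc2 := commute_in_class hτ
  refine ⟨⟨?_, ?_, ?_, fun a ha ha1 => ?_, fun a ha ha1 => ?_⟩, fun a ha ha1 b hb hb1 he => ?_⟩
  · intro e
    have := normalizes_eq_one hk2 hk3 hσ hτ h (self_mem_sameActionSubgroup hτ)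
      (Subgroup.le_normalizer (e.symm ▸ self_mem_sameActionSubgroup hτ))
    exact (mem_minimal_iff.mp hτ).1.ne (by rw [this, Units.val_one, sub_self])
  · letI : CommGroup (Cfsg.sameActionSubgroup G σ) := { mul_comm := fun a b => hc1.is_comm.comm a b }
    infer_instance
  · letI : CommGroup (Cfsg.sameActionSubgroup G τ) := { mul_comm := fun a b => hc2.is_comm.comm a b }
    infer_instance
  · obtain ⟨b, hb, hb1, e, -⟩ := rankOneCondition_eq hk2 hk3 hσ hτ h ha ha1
    exact ⟨b, hb, hb1, e⟩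
  · obtain ⟨b, hb, hb1, e, -⟩ := rankOneCondition_eq hk2 hk3 hτ hσ h.symm ha ha1
    exact ⟨b, hb, hb1, e⟩
  · obtain ⟨b', hb', -, e, e2⟩ := rankOneCondition_eq hk2 hk3 hσ hτ h ha ha1
    have hn := CfsgLib.RootSub.conjBy_eq_conjBy_iff.mp (he.trans e.symm)
    rw [inv_inv] at hn
    have := normalizes_eq_one hk2 hk3 hσ hτ h (mul_mem hb' (inv_mem hb)) hn
    rwa [← mul_inv_eq_one.mp this]

omit [FiniteDimensional k M] in
theorem fixed_le_ker {H : Subgroup (LinearMap.GeneralLinearGroup k M)} {g : LinearMap.GeneralLinearGroup k M}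
    (hg : g ∈ H) : Cfsg.fixedSubmodule H ≤ LinearMap.ker ((g : Module.End k M) - 1) := fun v hv => by
  rw [Cfsg.fixedSubmodule, Submodule.mem_iInf] at hv
  exact Submodule.mem_iInf _ |>.mp (hv g) hg

omit [FiniteDimensional k M] in
theorem range_le_commutator {H : Subgroup (LinearMap.GeneralLinearGroup k M)} {g : LinearMap.GeneralLinearGroup k M}
    (hg : g ∈ H) : LinearMap.range ((g : Module.End k M) - 1) ≤ Cfsg.commutatorSubmodule H := fun v hv =>
  Submodule.mem_iSup_of_mem g (Submodule.mem_iSup_of_mem hg hv)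

omit [FiniteDimensional k M] in
theorem le_fixed {H : Subgroup (LinearMap.GeneralLinearGroup k M)} {U : Submodule k M}
    (h : ∀ g ∈ H, U ≤ LinearMap.ker ((g : Module.End k M) - 1)) : U ≤ Cfsg.fixedSubmodule H := fun v hv => by
  rw [Cfsg.fixedSubmodule, Submodule.mem_iInf]
  exact fun g => Submodule.mem_iInf _ |>.mpr fun hg => h g hg hv

omit [FiniteDimensional k M] in
theorem commutator_le {H : Subgroup (LinearMap.GeneralLinearGroup k M)} {U : Submodule k M}
    (h : ∀ g ∈ H, LinearMap.range ((g : Module.End k M) - 1) ≤ U) : Cfsg.commutatorSubmodule H ≤ U :=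
  iSup_le fun g => iSup_le fun hg => h g hg

theorem spaces_of_sup (hσ : σ ∈ Cfsg.minimalQuadraticElements G) (hτ : τ ∈ Cfsg.minimalQuadraticElements G) :
    Cfsg.fixedSubmodule (Cfsg.sameActionSubgroup G σ ⊔ Cfsg.sameActionSubgroup G τ) =
        LinearMap.ker ((σ : Module.End k M) - 1) ⊓ LinearMap.ker ((τ : Module.End k M) - 1) ∧
      Cfsg.commutatorSubmodule (Cfsg.sameActionSubgroup G σ ⊔ Cfsg.sameActionSubgroup G τ) =
        LinearMap.range ((σ : Module.End k M) - 1) ⊔ LinearMap.range ((τ : Module.End k M) - 1) := by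
  set s := (σ : Module.End k M) - 1 with hs
  set t := (τ : Module.End k M) - 1 with ht
  set H := Cfsg.sameActionSubgroup G σ ⊔ Cfsg.sameActionSubgroup G τ with hH
  have hg : ∀ g ∈ H, (LinearMap.ker s ⊓ LinearMap.ker t ≤ LinearMap.ker ((g : Module.End k M) - 1)) ∧
      LinearMap.range ((g : Module.End k M) - 1) ≤ LinearMap.range s ⊔ LinearMap.range t := by
    intro g hg
    rw [hH, Cfsg.sameActionSubgroup, Cfsg.sameActionSubgroup, ← Subgroup.closure_union] at hg
    induction hg using Subgroup.closure_induction with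
    | mem x hx =>
      rcases hx with hx | hx <;> obtain ⟨-, h1, h2⟩ := hx <;> constructor
      · exact inf_le_left.trans h1.ge
      · exact h2.le.trans le_sup_left
      · exact inf_le_right.trans h1.ge
      · exact h2.le.trans le_sup_right
    | one => rw [Units.val_one, sub_self]; simp
    | mul x y _ _ hx hy =>
      have e : ((x * y : LinearMap.GeneralLinearGroup k M) : Module.End k M) - 1 =
          ((x : Module.End k M) - 1) * (y : Module.End k M) + ((y : Module.End k M) - 1) := by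
        rw [Units.val_mul]; noncomm_ring
      rw [e]
      constructor
      · intro v hv
        have h2 : (y : Module.End k M) v = v := sub_eq_zero.mp (hy.1 hv)
        rw [LinearMap.mem_ker, LinearMap.add_apply, LinearMap.mem_ker.mp (hy.1 hv), add_zero]
        show ((x : Module.End k M) - 1) ((y : Module.End k M) v) = 0
        rw [h2]; exact hx.1 hv
      · rintro _ ⟨v, rfl⟩
        exact Submodule.add_mem _ (hx.2 ⟨_, rfl⟩) (hy.2 ⟨_, rfl⟩)
    | inv x _ hx =>
      have e : ((x⁻¹ : LinearMap.GeneralLinearGroup k M) : Module.End k M) - 1 =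
          -((x⁻¹ : LinearMap.GeneralLinearGroup k M).1 * ((x : Module.End k M) - 1)) := by
        rw [mul_sub, mul_one, Units.inv_mul, neg_sub]
      have e' : ((x⁻¹ : LinearMap.GeneralLinearGroup k M) : Module.End k M) - 1 =
          -(((x : Module.End k M) - 1) * (x⁻¹ : LinearMap.GeneralLinearGroup k M).1) := by
        rw [sub_mul, one_mul, Units.mul_inv, neg_sub]
      constructor
      · intro v hv
        rw [e, LinearMap.mem_ker, LinearMap.neg_apply, Module.End.mul_apply, LinearMap.mem_ker.mp (hx.1 hv), map_zero,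
          neg_zero]
      · rw [e', LinearMap.range_neg]
        exact (LinearMap.range_comp_le_range _ _).trans hx.2
  have hσH : σ ∈ H := Subgroup.mem_sup_left (self_mem_sameActionSubgroup hσ)
  have hτH : τ ∈ H := Subgroup.mem_sup_right (self_mem_sameActionSubgroup hτ)
  constructor
  · exact le_antisymm (le_inf (fixed_le_ker hσH) (fixed_le_ker hτH)) (le_fixed fun g h => (hg g h).1)
  · exact le_antisymm (commutator_le fun g h => (hg g h).2) (sup_le (range_le_commutator hσH) (range_le_commutator hτH))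

theorem existsUnique_involution (hk2 : ringChar k ≠ 2) (hk3 : Nat.card k ≠ 3)
    (hσ : σ ∈ Cfsg.minimalQuadraticElements G) (hτ : τ ∈ Cfsg.minimalQuadraticElements G) (h : Opp σ τ) :
    (∃! i : LinearMap.GeneralLinearGroup k M,
      i ∈ Cfsg.sameActionSubgroup G σ ⊔ Cfsg.sameActionSubgroup G τ ∧ i ≠ 1 ∧ i * i = 1 ∧
      (∀ x ∈ Cfsg.sameActionSubgroup G σ ⊔ Cfsg.sameActionSubgroup G τ, i * x = x * i) ∧
      (∀ m ∈ Cfsg.commutatorSubmodule (Cfsg.sameActionSubgroup G σ ⊔ Cfsg.sameActionSubgroup G τ),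
        (i : M →ₗ[k] M) m = -m) ∧
      (∀ m ∈ Cfsg.fixedSubmodule (Cfsg.sameActionSubgroup G σ ⊔ Cfsg.sameActionSubgroup G τ),
        (i : M →ₗ[k] M) m = m)) ∧
    IsCompl (Cfsg.fixedSubmodule (Cfsg.sameActionSubgroup G σ ⊔ Cfsg.sameActionSubgroup G τ))
      (Cfsg.commutatorSubmodule (Cfsg.sameActionSubgroup G σ ⊔ Cfsg.sameActionSubgroup G τ)) := by
  obtain ⟨eF, eC⟩ := spaces_of_sup hσ hτ
  have hS := mem_minimal_iff.mp hσ
  have hT := mem_minimal_iff.mp hτ
  obtain ⟨hcompl, -, -, -⟩ := opp_position hk2 hk3 hS hT h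
  obtain ⟨D⟩ := oppData hk2 hk3 hS hT h
  set H := Cfsg.sameActionSubgroup G σ ⊔ Cfsg.sameActionSubgroup G τ with hH
  set W := Cfsg.commutatorSubmodule H
  set Z := Cfsg.fixedSubmodule H
  have hc : IsCompl Z W := by rw [show Z = _ from eF, show W = _ from eC]; exact hcompl
  refine ⟨?_, hc⟩
  set i := D.φ (-1) with hi
  have hiH : i ∈ H := by
    have h1 : i ∈ D.φ.range := ⟨-1, rfl⟩
    rw [D.range_eq] at h1
    refine (Subgroup.closure_le H).mpr ?_ h1
    rw [← scalarFamily_eq σ hS.1.sq, ← scalarFamily_eq τ hT.1.sq]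
    exact Set.union_subset (fun x hx => Subgroup.mem_sup_left (scalarFamily_subset hσ hx))
      (fun x hx => Subgroup.mem_sup_right (scalarFamily_subset hτ hx))
  have hneg : ∀ m ∈ W, (i : Module.End k M) m = -m := fun m hm => D.neg m (eC ▸ hm)
  have hfix : ∀ m ∈ Z, (i : Module.End k M) m = m := fun m hm => by
    have := fixed_le_ker hiH hm
    exact sub_eq_zero.mp this
  have hext : ∀ {x y : Module.End k M}, (∀ m ∈ Z, x m = y m) → (∀ m ∈ W, x m = y m) → x = y := fun {x y} h1 h2 => by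
    refine LinearMap.ext fun v => ?_
    obtain ⟨a, ha, b, hb, rfl⟩ := Submodule.mem_sup.mp (hc.sup_eq_top.ge (Submodule.mem_top (x := v)))
    rw [map_add, map_add, h1 a ha, h2 b hb]
  refine ⟨i, ⟨hiH, ?_, ?_, ?_, hneg, hfix⟩, fun j ⟨hj, _, _, _, hj1, hj2⟩ => ?_⟩
  · intro e
    have : (-1 : Matrix.SpecialLinearGroup (Fin 2) (AdjoinRoot D.P)) = 1 := D.inj (by rw [map_one]; exact e)
    haveI hfact := Fact.mk D.irr
    have h00 := congrArg (fun g : Matrix.SpecialLinearGroup (Fin 2) (AdjoinRoot D.P) => g.1 0 0) this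
    simp at h00
    refine two_ne hk2 ((algebraMap k (AdjoinRoot D.P)).injective ?_)
    rw [map_ofNat, map_zero]; linear_combination -h00
  · rw [hi, ← map_mul, neg_mul_neg, one_mul, map_one]
  · intro x hx
    refine Units.ext (hext (fun m hm => ?_) (fun m hm => ?_))
    · show (i : Module.End k M) ((x : Module.End k M) m) = (x : Module.End k M) ((i : Module.End k M) m)
      have hxm : (x : Module.End k M) m = m :=
        sub_eq_zero.mp (fixed_le_ker hx hm)
      rw [hxm, hfix m hm, hxm]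
    · show (i : Module.End k M) ((x : Module.End k M) m) = (x : Module.End k M) ((i : Module.End k M) m)
      have hxm : (x : Module.End k M) m - m ∈ W :=
        range_le_commutator hx ⟨m, rfl⟩
      have : (x : Module.End k M) m ∈ W := by simpa using W.add_mem hxm hm
      rw [hneg _ this, hneg m hm, map_neg]
  · exact Units.ext (hext (fun m hm => by rw [hj2 m hm, hfix m hm]) (fun m hm => by rw [hj1 m hm, hneg m hm]))

end CfsgLib.QP
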