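/-
Surjectivity of the commutator map between two classes.
-/
import Mathlib
import Cfsg.Agent.Lib.RootSub.QP.OppPair
import Cfsg.Agent.S5061

set_option autoImplicit false

namespace CfsgLib.QP

universe u

variable {k : Type u} [Field k] {M : Type*} [AddCommGroup M] [Module k M] [FiniteDimensional k M]
variable {G : Subgroup (LinearMap.GeneralLinearGroup k M)}

theorem asc2 {A : Type*} [Semigroup A] {a b d : A} (h : a * b = d) (v : A) : a * (b * v) = d * v := by
  rw [← mul_assoc, h]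

theorem asc3 {A : Type*} [Semigroup A] {a b c d : A} (h : a * b * c = d) (v : A) : a * (b * (c * v)) = d * v := by
  rw [← mul_assoc, ← mul_assoc, h]

theorem asc3' {A : Type*} [Semigroup A] {a b c d : A} (h : a * b * c = d) : a * (b * c) = d := by
  rw [← mul_assoc, h]

/-- An opposite pair with `x r x = x` and `r x r = r`. -/
structure Frame (G : Subgroup (LinearMap.GeneralLinearGroup k M)) (x r : Module.End k M) : Prop where
  left : Min G x
  right : Min G r
  xrx : x * r * x = x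
  rxr : r * x * r = r

omit [FiniteDimensional k M] in
theorem not_nilpotent_of_xrx {x r : Module.End k M} (hx : x * x = 0) (hne : x ≠ 0) (h : x * r * x = x) :
    ¬ IsNilpotent (x * r + r * x) := by
  rintro ⟨n, hn⟩
  have e : ∀ n : ℕ, (x * r + r * x) ^ n * x = x := fun n => by
    induction n with
    | zero => rw [pow_zero, one_mul]
    | succ n ih => rw [pow_succ, mul_assoc, z_mul_left hx, h, ih]
  exact hne (by rw [← e n, hn, zero_mul])

theorem exists_normalized (hk2 : ringChar k ≠ 2) (hk3 : Nat.card k ≠ 3) {x r : Module.End k M}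
    (hx : Min G x) (hr : Min G r) (h : ¬ IsNilpotent (x * r + r * x)) :
    ∃ r', Frame G x r' ∧ Same r r' := by
  obtain ⟨P, e, hsp⟩ := exists_split h
  obtain ⟨β, hβ⟩ := (Gen.isUnit_root hsp.coeff).exists_right_inv
  have hsp' : Split (r * x + x * r) P e := by rwa [add_comm]
  have hfx := left_fix hk2 hk3 hx hr.1 hsp
  have hfr : Polynomial.aeval (x * r + r * x) e * r = r := by
    have := left_fix hk2 hk3 hr hx.1 hsp'
    rwa [add_comm] at this
  have hβ0 : β ≠ 0 := fun e0 => by
    rw [e0, mul_zero] at hβ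
    have h1 : AdjoinRoot.mk P 1 = 0 := by rw [map_one, ← hβ]
    exact absurd (Polynomial.natDegree_le_of_dvd (AdjoinRoot.mk_eq_zero.mp h1) one_ne_zero)
      (by rw [Polynomial.natDegree_one]; exact not_le.mpr hsp.deg)
  obtain ⟨h1, h2⟩ := same_iota hk2 hk3 hr hx.1 hsp' hβ0
  rw [add_comm (r * x)] at h1 h2
  set z := x * r + r * x with hz
  set w := iota z P e β
  have cwx : Commute w x := commute_iota (commute_z_left hx.1.sq) β
  have cwr : Commute w r := commute_iota (commute_z_right hr.1.sq) β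
  have hwz : w * z = Polynomial.aeval z e := by rw [iota_mul_z hsp, mul_comm, hβ, iota_one hsp]
  refine ⟨w * r, ⟨hx, h2, ?_, ?_⟩, h1⟩
  · rw [← mul_assoc x w r, ← cwx.eq, mul_assoc (w * x), mul_assoc w x, ← mul_assoc x r x,
      ← z_mul_left hx.1.sq, ← hz, ← mul_assoc, hwz]
    exact hfx
  · rw [mul_assoc (w * r) x, ← mul_assoc x w r, ← cwx.eq, mul_assoc w x r, ← mul_assoc (w * r) w, mul_assoc w r w,
      ← cwr.eq, ← mul_assoc w w r, mul_assoc (w * w) r, ← mul_assoc r x r, ← z_mul_right hr.1.sq, ← hz,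
      ← mul_assoc (w * w), mul_assoc w w z, hwz, mul_assoc w, hfr]

/-- No non-trivial subgroup normalised by `G` fixes a non-zero vector. -/
def NoFix (G : Subgroup (LinearMap.GeneralLinearGroup k M)) : Prop :=
  ∀ N ≤ G, (∀ g ∈ G, Cfsg.conjBy N g = N) → Cfsg.fixedSubmodule N ≠ ⊥ → N = ⊥

omit [FiniteDimensional k M] in
theorem fixed_invariant {N : Subgroup (LinearMap.GeneralLinearGroup k M)} {g : LinearMap.GeneralLinearGroup k M}
    (hg : Cfsg.conjBy N g = N) {w : M} (hw : w ∈ Cfsg.fixedSubmodule N) :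
    (g : Module.End k M) w ∈ Cfsg.fixedSubmodule N := by
  refine le_fixed (U := (Cfsg.fixedSubmodule N).map (g : Module.End k M)) (fun a ha => ?_)
    (Submodule.mem_map_of_mem hw)
  rintro _ ⟨v, hv, rfl⟩
  rw [← hg, CfsgLib.RootSub.conjBy_mem_iff] at ha
  have h1 : ((g⁻¹ * a * g : LinearMap.GeneralLinearGroup k M) : Module.End k M) v = v :=
    sub_eq_zero.mp (fixed_le_ker ha hv)
  have h3 : ((g * (g⁻¹ * a * g) : LinearMap.GeneralLinearGroup k M) : Module.End k M) v = (g : Module.End k M) v := by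
    rw [Units.val_mul, Module.End.mul_apply, h1]
  rw [show g * (g⁻¹ * a * g) = a * g by group, Units.val_mul, Module.End.mul_apply] at h3
  exact sub_eq_zero.mpr h3

omit [FiniteDimensional k M] in
theorem noFix_of_irreducible (hG : Cfsg.IsIrreducibleFor G) : NoFix G := fun N _ hn hU => by
  rcases hG.2 (Cfsg.fixedSubmodule N) (fun g hg w hw => fixed_invariant (hn g hg) hw) with h | h
  · exact absurd h hU
  rw [Subgroup.eq_bot_iff_forall]
  intro a ha
  refine Units.ext (LinearMap.ext fun v => ?_)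
  exact sub_eq_zero.mp (fixed_le_ker ha (h.ge (Submodule.mem_top (x := v))))

/-- There is a member opposite to a given one. -/
theorem exists_frame (hk2 : ringChar k ≠ 2) (hk3 : Nat.card k ≠ 3) (hG : NoFix G)
    {x : Module.End k M} (hx : Min G x) : ∃ r, Frame G x r := by
  by_contra hno
  set σ := mk x hx.1.sq with hσdef
  have hσ : σ ∈ Cfsg.minimalQuadraticElements G := mem_minimal_iff.mpr (by rw [mk_sub_one]; exact hx)
  have hnil : ∀ g ∈ G, IsNilpotent (x * conjE g x + conjE g x * x) := fun g hg => by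
    by_contra hn
    obtain ⟨r, hr, -⟩ := exists_normalized hk2 hk3 hx (hx.conjE hg) hn
    exact hno ⟨r, hr⟩
  set W : Set (Subgroup (LinearMap.GeneralLinearGroup k M)) :=
    {A | ∃ g ∈ G, A = Cfsg.sameActionSubgroup G (g * σ * g⁻¹)} with hW
  have hWW : ∀ A ∈ W, ∀ B ∈ W, Cfsg.IsUnipotentOn (A ⊔ B) := by
    rintro A ⟨g, hg, rfl⟩ B ⟨h, hh, rfl⟩
    refine unipotent_classes hk2 hk3 (conj_mem_minimal hσ hg) (conj_mem_minimal hσ hh) ?_
    rw [conj_sub_one, conj_sub_one, mk_sub_one]
    obtain ⟨n, hn⟩ := hnil _ (mul_mem (inv_mem hg) hh)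
    refine ⟨n, ?_⟩
    have e : conjE h x = conjE g (conjE (g⁻¹ * h) x) := by
      simp only [conjE, mul_inv_rev, inv_inv, Units.val_mul, ← mul_assoc, Units.mul_inv, one_mul]
      simp only [mul_assoc, Units.mul_inv, mul_one]
    have ep : ∀ m : ℕ, conjE g (x * conjE (g⁻¹ * h) x + conjE (g⁻¹ * h) x * x) ^ m =
        conjE g ((x * conjE (g⁻¹ * h) x + conjE (g⁻¹ * h) x * x) ^ m) := fun m => by
      induction m with
      | zero => simp [conjE]
      | succ m ih => rw [pow_succ, ih, pow_succ, conjE_mul]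
    rw [e, conjE_mul, conjE_mul,
      show ∀ a b, conjE g a + conjE g b = conjE g (a + b) from fun a b => by simp [conjE, mul_add, add_mul], ep, hn]
    simp [conjE]
  have hWconj : ∀ A ∈ W, ∀ g ∈ G, Cfsg.conjBy A g ∈ W := by
    rintro A ⟨h, hh, rfl⟩ g hg
    refine ⟨g * h, mul_mem hg hh, ?_⟩
    rw [conjBy_sameActionSubgroup hg, show g * (h * σ * h⁻¹) * g⁻¹ = g * h * σ * (g * h)⁻¹ by group]
  have hWG : ∀ A ∈ W, A ≤ G := by rintro A ⟨g, -, rfl⟩; exact sameActionSubgroup_le
  obtain ⟨⟨n, hn⟩, hnorm⟩ := Cfsg.Agent.S5061.result hWG hWW hWconj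
  set N := ⨆ A ∈ W, A with hN
  have hσN : σ ∈ N := Subgroup.mem_iSup_of_mem _ (Subgroup.mem_iSup_of_mem
    (show Cfsg.sameActionSubgroup G σ ∈ W from ⟨1, one_mem _, by simp⟩) (self_mem_sameActionSubgroup hσ))
  simp only [bind_pure_comp, List.map_eq_map, List.map_map, Function.comp_def] at hn
  obtain ⟨m₀, hm₀⟩ : ∃ m : M, m ≠ 0 := by
    by_contra h
    push Not at h
    exact hx.1.ne (LinearMap.ext fun v => by rw [h v]; simp)
  classical
  have hex : ∃ n, ∀ l : List (LinearMap.GeneralLinearGroup k M), (∀ g ∈ l, g ∈ N) → l.length = n →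
      (l.map fun g : LinearMap.GeneralLinearGroup k M => (g : Module.End k M) - 1).prod = 0 := ⟨n, hn⟩
  obtain ⟨m, hm⟩ : ∃ m, Nat.find hex = m + 1 := by
    refine ⟨Nat.find hex - 1, ?_⟩
    have : Nat.find hex ≠ 0 := fun e => by
      have := Nat.find_spec hex [] (by simp) (by simp [e])
      exact hm₀ (by simpa using LinearMap.congr_fun this m₀)
    omega
  have hnot := Nat.find_min hex (m := m) (by omega)
  push Not at hnot
  obtain ⟨l, hl, hlen, hne⟩ := hnot
  set U := Cfsg.fixedSubmodule N with hU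
  have hU0 : U ≠ ⊥ := fun e => by
    refine hne (LinearMap.ext fun v => ?_)
    refine (Submodule.mem_bot k).mp (e ▸ le_fixed (U := LinearMap.range
      ((l.map fun g : LinearMap.GeneralLinearGroup k M => (g : Module.End k M) - 1).prod)) (fun g hg => ?_) ⟨v, rfl⟩)
    rintro _ ⟨w, rfl⟩
    have := Nat.find_spec hex (g :: l) (by simpa using ⟨hg, hl⟩) (by rw [List.length_cons, hlen, hm])
    rw [List.map_cons, List.prod_cons] at this
    exact LinearMap.congr_fun this w
  have hbot := hG N (iSup₂_le hWG) hnorm hU0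
  rw [hbot, Subgroup.mem_bot] at hσN
  exact hx.1.ne (by rw [← mk_sub_one x hx.1.sq, ← hσdef, hσN, Units.val_one, sub_self])

section Frame

variable {x r : Module.End k M}

/-- The complementary idempotent. -/
def cc (x r : Module.End k M) : Module.End k M := 1 - x * r - r * x

theorem Frame.partner (hk2 : ringChar k ≠ 2) (hk3 : Nat.card k ≠ 3) (F : Frame G x r) {y : Module.End k M}
    (hy : Min G y) (hxy : Same x y) :
    ∃ r', Frame G y r' ∧ Same r r' ∧ y * r' = x * r ∧ r' * y = r * x := by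
  have h0 := not_nilpotent_of_xrx F.left.1.sq F.left.1.ne F.xrx
  obtain ⟨r', hF, hrr⟩ := exists_normalized hk2 hk3 hy F.right
    fun hn => h0 ((nilpotent_iff_of_same hk2 hk3 F.left F.right hy F.right hxy (Same.refl r)).mpr hn)
  refine ⟨r', hF, hrr, ?_, ?_⟩
  · refine LinearMap.ext fun v => ?_
    obtain ⟨w, hw⟩ : x (r v) ∈ LinearMap.range y := hxy.2 ▸ LinearMap.mem_range_self x (r v)
    have h1 : y (r' (x (r v))) = x (r v) := by rw [← hw]; exact LinearMap.congr_fun hF.xrx w
    have h2 : v - x (r v) ∈ LinearMap.ker r' := by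
      rw [hrr.1, LinearMap.mem_ker, map_sub, show r (x (r v)) = r v from LinearMap.congr_fun F.rxr v, sub_self]
    show y (r' v) = x (r v)
    rw [← h1, ← sub_eq_zero, ← map_sub, ← map_sub, LinearMap.mem_ker.mp h2, map_zero]
  · refine LinearMap.ext fun v => ?_
    obtain ⟨w, hw⟩ : r (x v) ∈ LinearMap.range r' := hrr.2 ▸ LinearMap.mem_range_self r (x v)
    have h1 : r' (y (r (x v))) = r (x v) := by rw [← hw]; exact LinearMap.congr_fun hF.rxr w
    have h2 : v - r (x v) ∈ LinearMap.ker y := by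
      rw [hxy.1, LinearMap.mem_ker, map_sub, show x (r (x v)) = x v from LinearMap.congr_fun F.xrx v, sub_self]
    show r' (y v) = r (x v)
    rw [← h1, ← sub_eq_zero, ← map_sub, ← map_sub, LinearMap.mem_ker.mp h2, map_zero]

omit [FiniteDimensional k M] in
theorem Frame.cc_mul (F : Frame G x r) :
    cc x r * x = 0 ∧ x * cc x r = 0 ∧ cc x r * r = 0 ∧ r * cc x r = 0 ∧ cc x r * cc x r = cc x r := by
  have hx := F.left.1.sq
  have hr := F.right.1.sq
  have a1 : cc x r * x = 0 := by
    rw [cc, sub_mul, sub_mul, one_mul, F.xrx, mul_assoc r x x, hx, mul_zero, sub_self, sub_zero]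
  have a2 : x * cc x r = 0 := by
    rw [cc, mul_sub, mul_sub, mul_one, ← mul_assoc x x r, hx, zero_mul, ← mul_assoc, F.xrx, sub_zero, sub_self]
  have a3 : cc x r * r = 0 := by
    rw [cc, sub_mul, sub_mul, one_mul, mul_assoc x r r, hr, mul_zero, F.rxr, sub_zero, sub_self]
  have a4 : r * cc x r = 0 := by
    rw [cc, mul_sub, mul_sub, mul_one, ← mul_assoc r x r, F.rxr, ← mul_assoc r r x, hr, zero_mul, sub_self, sub_zero]
  refine ⟨a1, a2, a3, a4, ?_⟩
  conv_lhs => arg 2; rw [cc]
  rw [mul_sub, mul_sub, mul_one, ← mul_assoc, a1, zero_mul, ← mul_assoc, a3, zero_mul, sub_zero, sub_zero]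

/-- The element scaling `x` to `y`. -/
theorem Frame.exists_scale (hk2 : ringChar k ≠ 2) (hk3 : Nat.card k ≠ 3) (F : Frame G x r) {y : Module.End k M}
    (hy : Min G y) (hxy : Same x y) :
    ∃ r', Same r r' ∧ r' * y = r * x ∧ y * r' = x * r ∧ ∃ g ∈ G,
      (g : Module.End k M) = cc x r + y * r + r' * x ∧
      ((g⁻¹ : LinearMap.GeneralLinearGroup k M) : Module.End k M) = cc x r + x * r' + r * y := by
  obtain ⟨r', F', hrr, e1, e2⟩ := F.partner hk2 hk3 hy hxy
  refine ⟨r', hrr, e2, e1, ?_⟩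
  have hn : ∀ {y r' : Module.End k M}, Frame G y r' → InG G (1 + y - r' - y * r' - r' * y) ∧
      InG G (1 - y + r' - y * r' - r' * y) := fun {y r'} F => by
    have e := fun (a : k) => ((F.left.1.fam a).mul (F.right.1.fam (-a))).mul (F.left.1.fam a)
    constructor
    · convert e 1 using 1
      simp only [one_smul, neg_smul, mul_add, add_mul, mul_one, one_mul, mul_neg, neg_mul, F.xrx, F.left.1.sq]
      abel
    · convert e (-1) using 1
      simp only [one_smul, neg_smul, neg_neg, mul_add, add_mul, mul_one, one_mul, mul_neg, neg_mul, F.xrx,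
        F.left.1.sq]
      abel
  obtain ⟨b1, b2⟩ := hn F
  obtain ⟨b3, b4⟩ := hn F'
  obtain ⟨n₁, hn₁, v1⟩ := b3
  obtain ⟨n₂, hn₂, v2⟩ := b2
  obtain ⟨n₃, hn₃, v3⟩ := b1
  obtain ⟨n₄, hn₄, v4⟩ := b4
  obtain ⟨c1, c2, c3, c4, c5⟩ := F.cc_mul
  obtain ⟨d1, d2, d3, d4, d5⟩ := F'.cc_mul
  have ecc : cc y r' = cc x r := by rw [cc, cc, e1, e2]
  rw [ecc] at d1 d2 d3 d4 d5
  have xy : x * y = 0 := mul_eq_zero_of_same F.left.1.sq (Same.refl x) hxy
  have yx : y * x = 0 := mul_eq_zero_of_same F.left.1.sq hxy (Same.refl x)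
  have rr : r * r' = 0 := mul_eq_zero_of_same F.right.1.sq (Same.refl r) hrr
  have rr' : r' * r = 0 := mul_eq_zero_of_same F.right.1.sq hrr (Same.refl r)
  have f1 : (1 + y - r' - y * r' - r' * y) = cc x r + y - r' := by rw [e1, e2, cc]; abel
  have f4 : (1 - y + r' - y * r' - r' * y) = cc x r - y + r' := by rw [e1, e2, cc]; abel
  have f2 : (1 - x + r - x * r - r * x) = cc x r - x + r := by rw [cc]; abel
  have f3 : (1 + x - r - x * r - r * x) = cc x r + x - r := by rw [cc]; abel
  have hval : ((n₁ * n₂ : LinearMap.GeneralLinearGroup k M) : Module.End k M) = cc x r + y * r + r' * x := by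
    rw [Units.val_mul, v1, v2, f1, f2]
    simp only [mul_add, add_mul, mul_sub, sub_mul, c1, c2, c3, c4, c5, d1, d2, d3, d4, yx, rr']
    abel
  have hval' : ((n₃ * n₄ : LinearMap.GeneralLinearGroup k M) : Module.End k M) = cc x r + x * r' + r * y := by
    rw [Units.val_mul, v3, v4, f3, f4]
    simp only [mul_add, add_mul, mul_sub, sub_mul, c1, c2, c3, c4, c5, d1, d2, d3, d4, xy, rr]
    abel
  refine ⟨n₁ * n₂, mul_mem hn₁ hn₂, hval, ?_⟩
  rw [← hval', Units.inv_eq_of_mul_eq_one_right]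
  rw [hval, hval']
  have z1 : cc x r * (x * r') = 0 := by rw [← mul_assoc, c1, zero_mul]
  have z2 : cc x r * (r * y) = 0 := by rw [← mul_assoc, c3, zero_mul]
  have z3 : y * r * cc x r = 0 := by rw [mul_assoc, c4, mul_zero]
  have z4 : r' * x * cc x r = 0 := by rw [mul_assoc, c2, mul_zero]
  have z5 : y * r * (x * r') = x * r := by
    rw [mul_assoc, ← mul_assoc r x, ← e2, mul_assoc r' y r', e1, ← mul_assoc, ← mul_assoc, e1, F.xrx]
  have z6 : y * r * (r * y) = 0 := by rw [mul_assoc, ← mul_assoc r r, F.right.1.sq, zero_mul, mul_zero]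
  have z7 : r' * x * (x * r') = 0 := by rw [mul_assoc, ← mul_assoc x x, F.left.1.sq, zero_mul, mul_zero]
  have z8 : r' * x * (r * y) = r * x := by
    rw [mul_assoc, ← mul_assoc x r, ← e1, mul_assoc y r' y, e2, ← mul_assoc, ← mul_assoc, e2, F.rxr]
  simp only [mul_add, add_mul, c5, z1, z2, z3, z4, z5, z6, z7, z8]
  rw [cc]; abel

end Frame

section Dec

variable {x r : Module.End k M}

/-- Compatibility of `s` with the frame. -/
structure Dec (x r s : Module.End k M) : Prop where
  sx : s * x = 0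
  xs : x * s = 0
  csc : cc x r * s * cc x r = 0

omit [FiniteDimensional k M] in
theorem Dec.facts {s : Module.End k M} (D : Dec x r s) :
    s * (x * r) = 0 ∧ r * x * s = 0 ∧ s * cc x r = x * r * s * cc x r ∧ cc x r * s = cc x r * s * (r * x) ∧
      s = x * r * s * cc x r + cc x r * s * (r * x) + x * r * s * (r * x) := by
  have a1 : s * (x * r) = 0 := by rw [← mul_assoc, D.sx, zero_mul]
  have a2 : r * x * s = 0 := by rw [mul_assoc, D.xs, mul_zero]
  have e : ∀ v : Module.End k M, v = cc x r * v + x * r * v + r * x * v := fun v => by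
    rw [cc, sub_mul, sub_mul, one_mul]; abel
  have e' : ∀ v : Module.End k M, v = v * cc x r + v * (x * r) + v * (r * x) := fun v => by
    rw [cc, mul_sub, mul_sub, mul_one]; abel
  have a3 : s * cc x r = x * r * s * cc x r := by
    conv_lhs => rw [e (s * cc x r)]
    rw [← mul_assoc, D.csc, ← mul_assoc (r * x), a2, zero_mul, zero_add, add_zero, ← mul_assoc]
  have a4 : cc x r * s = cc x r * s * (r * x) := by
    conv_lhs => rw [e' (cc x r * s)]
    rw [D.csc, mul_assoc (cc x r) s (x * r), a1, mul_zero, zero_add, zero_add]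
  refine ⟨a1, a2, a3, a4, ?_⟩
  conv_lhs => rw [e' s, a1, a3, e (s * (r * x)), ← mul_assoc (r * x), a2, zero_mul, ← mul_assoc, ← mul_assoc (x * r)]
  abel

omit [FiniteDimensional k M] in
theorem Dec.mul_mul_eq_zero {u v w : Module.End k M} (hu : Dec x r u) (hv : Dec x r v) (hw : Dec x r w) :
    u * v * w = 0 ∧ u * v = u * cc x r * v := by
  obtain ⟨u1, -, -, u4, -⟩ := hu.facts
  obtain ⟨v1, v2, v3, -, -⟩ := hv.facts
  obtain ⟨-, w2, -, -, -⟩ := hw.facts
  have e : u * v = u * cc x r * v := by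
    rw [cc, mul_sub, mul_sub, mul_one, u1, sub_zero, sub_mul, mul_assoc u (r * x), v2, mul_zero, sub_zero]
  refine ⟨?_, e⟩
  have e2 : v * w = v * cc x r * w := by
    rw [cc, mul_sub, mul_sub, mul_one, v1, sub_zero, sub_mul, mul_assoc v (r * x), w2, mul_zero, sub_zero]
  rw [mul_assoc, e2, ← mul_assoc, ← mul_assoc, e, mul_assoc u (cc x r) v, mul_assoc u, hv.csc, mul_zero, zero_mul]

theorem dec_of_pair (F : Frame G x r) {s t : Module.End k M} (hS : Min G s) (hT : Min G t)
    (h1 : s * t * s = 0) (h2 : t * s * t = 0) (hx : x = s * t - t * s) : Dec x r s := by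
  have hne : s * t - t * s ≠ 0 := hx ▸ F.left.1.ne
  obtain ⟨-, hr, -, hk, b1, -⟩ := pair_spaces hS hT h1 h2 hne
  refine ⟨by rw [hx, mul_sub, ← mul_assoc, ← mul_assoc, hS.1.sq, h1, zero_mul, sub_zero],
    by rw [hx, sub_mul, h1, mul_assoc t s s, hS.1.sq, mul_zero, sub_zero], LinearMap.ext fun v => ?_⟩
  obtain ⟨c1, c2, -, -, -⟩ := F.cc_mul
  have hv : cc x r v ∈ LinearMap.ker x := LinearMap.congr_fun c2 v
  rw [hx] at hv
  rw [hk] at hv
  obtain ⟨i', ⟨w, rfl⟩, j, hj, e⟩ := Submodule.mem_sup.mp hv.2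
  have hin : s (cc x r v) ∈ LinearMap.range x := by
    rw [hx] at *
    rw [← e, map_add, LinearMap.mem_ker.mp hj, add_zero, hr]
    exact Submodule.mem_sup_left (b1.le ⟨_, ⟨w, rfl⟩, rfl⟩)
  obtain ⟨u, hu⟩ := hin
  show cc x r (s (cc x r v)) = 0
  rw [← hu]
  exact LinearMap.congr_fun c1 u

end Dec

section Main

variable {x r s t : Module.End k M}

/-- The two homogeneous parts. -/
def hom1 (x r s : Module.End k M) : Module.End k M := x * r * s * cc x r + cc x r * s * (r * x)

/-- The extreme part. -/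
def hom2 (x r s : Module.End k M) : Module.End k M := x * r * s * (r * x)

theorem same_of_le_frame (F : Frame G x r) {u : Module.End k M} (hu : Mem G u)
    (h1 : LinearMap.ker x ≤ LinearMap.ker u) (h2 : LinearMap.range u ≤ LinearMap.range x) :
    Same x u ∧ Min G u := F.left.same_of_le hu h1 h2

omit [FiniteDimensional k M] in
theorem hom_dec (F : Frame G x r) (D : Dec x r s) :
    Dec x r (hom1 x r s) ∧ Dec x r (hom2 x r s) ∧ x * r * hom1 x r s * (r * x) = 0 ∧
      s = hom1 x r s + hom2 x r s := by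
  obtain ⟨c1, c2, c3, c4, c5⟩ := F.cc_mul
  have hx := F.left.1.sq
  have hr := F.right.1.sq
  refine ⟨⟨?_, ?_, ?_⟩, ⟨?_, ?_, ?_⟩, ?_, D.facts.2.2.2.2⟩ <;>
    simp only [hom1, hom2, mul_add, add_mul, mul_assoc, c1, asc2 c1, c2, asc2 c2, c3, asc2 c3, c4, asc2 c4,
      asc2 c5, hx, asc2 hx, zero_mul, mul_zero, add_zero, zero_add]

theorem hom_mem (hk2 : ringChar k ≠ 2) (hk3 : Nat.card k ≠ 3) (F : Frame G x r) (hS : Min G s) (D : Dec x r s)
    (hne : hom1 x r s ≠ 0) :
    Min G (hom1 x r s) ∧ (hom2 x r s ≠ 0 → Same x (hom2 x r s) ∧ Min G (hom2 x r s)) := by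
  obtain ⟨D1, D2, -, hsum⟩ := hom_dec F D
  obtain ⟨c1, c2, c3, c4, c5⟩ := F.cc_mul
  have h2 : (2 : k) ≠ 0 := two_ne hk2
  obtain ⟨r', hrr, e2, e1, g, hg, hgv, hgi⟩ := F.exists_scale hk2 hk3 (y := (2 : k) • x) (F.left.smul h2)
    ⟨ker_smul_eq _ h2, range_smul_eq _ h2⟩
  rw [mul_smul_comm] at e2
  rw [smul_mul_assoc] at e1
  have er : r' * x = (2 : k)⁻¹ • (r * x) := by rw [← e2, smul_smul, inv_mul_cancel₀ h2, one_smul]
  have er' : x * r' = (2 : k)⁻¹ • (x * r) := by rw [← e1, smul_smul, inv_mul_cancel₀ h2, one_smul]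
  obtain ⟨a1, a2, a3, a4, -⟩ := D.facts
  have hconj : conjE g s = (2 : k) • hom1 x r s + (4 : k) • hom2 x r s := by
    rw [conjE, hgv, hgi, er, er', smul_mul_assoc, mul_smul_comm, hom1, hom2]
    have q : cc x r * s * cc x r = 0 := D.csc
    simp only [add_mul, mul_add, smul_mul_assoc, mul_smul_comm, a2, q, zero_mul, smul_zero, add_zero, zero_add]
    rw [mul_assoc (cc x r) s (x * r), a1, mul_zero, mul_assoc (x * r) s (x * r), a1, mul_zero]
    simp only [smul_zero, add_zero, zero_add, smul_smul, smul_add]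
    norm_num
    abel
  have hpq : hom2 x r s * hom2 x r s = 0 := by
    simp only [hom2, mul_assoc, asc2 D.sx, F.left.1.sq, asc2 F.left.1.sq, zero_mul, mul_zero]
  have k12 : hom1 x r s * hom2 x r s = 0 := by
    simp only [hom1, hom2, add_mul, mul_assoc, asc2 F.left.1.sq, asc2 c1, zero_mul, mul_zero, add_zero]
  have k21 : hom2 x r s * hom1 x r s = 0 := by
    simp only [hom1, hom2, mul_add, mul_assoc, asc2 F.left.1.sq, asc2 c2, zero_mul, mul_zero, add_zero]
  have k11 : hom1 x r s * hom1 x r s = 0 := by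
    have := hS.1.sq
    rwa [hsum, mul_add, add_mul, add_mul, k12, k21, hpq, add_zero, add_zero, add_zero] at this
  generalize hAe : hom1 x r s = A at hsum k11 k12 k21 hconj hne ⊢
  generalize hBe : hom2 x r s = B at hsum hpq k12 k21 hconj ⊢
  have hG2 : ∀ c : k, InG G (1 + c • B) := fun c => by
    set d := c / 2 with hd
    have hA : InG G (1 + d • conjE g s) := (hS.1.conjE hg).fam d
    have hB := hS.1.sub (2 * d)
    convert hA.mul hB using 1
    rw [hconj]
    conv_rhs => rw [hsum]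
    simp only [smul_add, smul_smul, mul_add, add_mul, mul_sub, mul_one, one_mul, smul_mul_assoc, mul_smul_comm, k11, k12, k21,
      hpq, smul_zero, add_zero]
    have : c = d * 4 - 2 * d := by rw [hd]; field_simp; ring
    rw [this, sub_smul, mul_comm d 2]
    abel
  have hG1 : ∀ c : k, InG G (1 + c • A) := fun c => by
    convert (hS.1.fam c).mul (hG2 (-c)) using 1
    conv_rhs => rw [hsum]
    simp only [smul_add, mul_add, add_mul, mul_one, one_mul, neg_smul, mul_neg, neg_mul, smul_mul_assoc, mul_smul_comm,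
      k12, hpq, smul_zero, add_zero, neg_zero]
    abel
  refine ⟨hS.of_rk ⟨k11, hne, hG1⟩ ?_, fun hne2 => ?_⟩
  · have e := LinearMap.finrank_range_add_finrank_ker ((cc x r).domRestrict (LinearMap.range s))
    rw [LinearMap.range_domRestrict] at e
    have e3 := finrank_map_add (cc x r) (LinearMap.range s)
    have hle : LinearMap.range A ≤
        (LinearMap.range s).map (cc x r) ⊔ (LinearMap.range s ⊓ LinearMap.ker (cc x r)) := by
      rintro _ ⟨v, rfl⟩
      rw [← hAe, hom1, LinearMap.add_apply, ← a3, ← a4]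
      refine Submodule.add_mem _ (Submodule.mem_sup_right ⟨⟨cc x r v, rfl⟩, ?_⟩)
        (Submodule.mem_sup_left ⟨s v, ⟨v, rfl⟩, rfl⟩)
      show (cc x r * (s * cc x r)) v = 0
      rw [← mul_assoc, D.csc]; rfl
    have e4 := Submodule.finrank_mono hle
    have e5 := Submodule.finrank_add_le_finrank_add_finrank ((LinearMap.range s).map (cc x r))
      (LinearMap.range s ⊓ LinearMap.ker (cc x r))
    simp only [rk]
    omega
  · refine same_of_le_frame F ⟨hpq, hne2, hG2⟩ (fun v hv => ?_) ?_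
    · show B v = 0
      rw [← hBe, hom2, Module.End.mul_apply, Module.End.mul_apply _ _ v, LinearMap.mem_ker.mp hv, map_zero, map_zero]
    · rw [← hBe, hom2, mul_assoc x r, mul_assoc x]
      exact LinearMap.range_comp_le_range _ _

theorem hom_comm (F : Frame G x r) (hs : Dec x r s) (ht : Dec x r t) :
    hom1 x r s * hom1 x r t - hom1 x r t * hom1 x r s = s * t - t * s := by
  have key : ∀ {s t}, Dec x r s → Dec x r t → hom1 x r s * hom1 x r t = s * t := fun {s t} hs ht => by
    obtain ⟨hs1, hs2, -, es⟩ := hom_dec F hs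
    obtain ⟨ht1, ht2, -, et⟩ := hom_dec F ht
    obtain ⟨c1, -⟩ := F.cc_mul
    have n1 : hom1 x r s * hom2 x r t = 0 := by
      simp only [hom1, hom2, add_mul, mul_assoc, asc2 F.left.1.sq, asc2 c1, zero_mul, mul_zero, add_zero]
    have n2 : hom2 x r s * t = 0 := by rw [hom2, mul_assoc _ (r * x), ht.facts.2.1, mul_zero]
    conv_rhs => rw [es, add_mul, n2, add_zero, et, mul_add, n1, add_zero]
  rw [key hs ht, key ht hs]

/-- The homogeneous case. -/
theorem surj_hom (hk2 : ringChar k ≠ 2) (hk3 : Nat.card k ≠ 3) (F : Frame G x r) (hS : Min G s) (hT : Min G t)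
    (Ds : Dec x r s) (Dt : Dec x r t) (hx : x = s * t - t * s) (hs0 : x * r * s * (r * x) = 0) {y : Module.End k M}
    (hy : Min G y) (hxy : Same x y) :
    ∃ s', Min G s' ∧ Same s s' ∧ s' * t - t * s' = y := by
  have h1 := (Ds.mul_mul_eq_zero Dt Ds).1
  have h2 := (Dt.mul_mul_eq_zero Ds Dt).1
  have hne : s * t - t * s ≠ 0 := hx ▸ F.left.1.ne
  obtain ⟨-, hrange, hdis, -, b1, b2⟩ := pair_spaces hS hT h1 h2 hne
  -- the two idempotents
  have hfix : ∀ v ∈ LinearMap.range x, x (r v) = v := by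
    rintro _ ⟨w, rfl⟩; exact LinearMap.congr_fun F.xrx w
  have hsplit : ∀ a ∈ LinearMap.range s ⊓ LinearMap.ker t, ∀ b ∈ LinearMap.range t ⊓ LinearMap.ker s,
      s (t (r (a + b))) = a ∧ t (s (r (a + b))) = -b := by
    intro a ha b hb
    have hab : a + b ∈ LinearMap.range x := by
      rw [hx, hrange]; exact Submodule.add_mem_sup ha hb
    have e := hfix _ hab
    conv_lhs at e => rw [hx]
    set w := r (a + b)
    change s (t w) - t (s w) = a + b at e
    have m1 : s (t w) - a ∈ LinearMap.range s ⊓ LinearMap.ker t :=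
      Submodule.sub_mem _ ⟨⟨_, rfl⟩, LinearMap.congr_fun h2 w⟩ ha
    have m2 : s (t w) - a ∈ LinearMap.range t ⊓ LinearMap.ker s := by
      rw [show s (t w) - a = t (s w) + b by rw [sub_eq_iff_eq_add] at e; rw [e]; abel]
      exact Submodule.add_mem _ ⟨⟨_, rfl⟩, LinearMap.congr_fun h1 w⟩ hb
    have z := sub_eq_zero.mp (Submodule.disjoint_def.mp hdis _ m1 m2)
    refine ⟨z, ?_⟩
    rw [z, sub_eq_add_neg, add_right_inj] at e
    rw [← e, neg_neg]
  have i1 : s * t * r * (s * t) = s * t ∧ t * s * r * (s * t) = 0 := by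
    constructor <;> refine LinearMap.ext fun v => ?_
    · have := (hsplit (s (t v)) ⟨⟨_, rfl⟩, LinearMap.congr_fun h2 v⟩ 0 (Submodule.zero_mem _)).1
      rw [add_zero] at this; exact this
    · have := (hsplit (s (t v)) ⟨⟨_, rfl⟩, LinearMap.congr_fun h2 v⟩ 0 (Submodule.zero_mem _)).2
      rw [add_zero, neg_zero] at this; exact this
  have i2 : s * t * r * (t * s) = 0 ∧ t * s * r * (t * s) = -(t * s) := by
    constructor <;> refine LinearMap.ext fun v => ?_
    · have := (hsplit 0 (Submodule.zero_mem _) (t (s v)) ⟨⟨_, rfl⟩, LinearMap.congr_fun h1 v⟩).1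
      rw [zero_add] at this; exact this
    · have := (hsplit 0 (Submodule.zero_mem _) (t (s v)) ⟨⟨_, rfl⟩, LinearMap.congr_fun h1 v⟩).2
      rw [zero_add] at this; exact this
  obtain ⟨a1, a2, a3, a4, -⟩ := Ds.facts
  obtain ⟨b1', b2', b3', b4', -⟩ := Dt.facts
  have hyx : ∀ {u : Module.End k M}, Same x u → u = x * r * u ∧ u = u * (r * x) := fun {u} hu => by
    constructor <;> refine LinearMap.ext fun v => ?_
    · exact (hfix (u v) (hu.2 ▸ LinearMap.mem_range_self u v)).symm
    · have : v - r (x v) ∈ LinearMap.ker u := by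
        rw [hu.1, LinearMap.mem_ker, map_sub, show x (r (x v)) = x v from LinearMap.congr_fun F.xrx v, sub_self]
      rw [LinearMap.mem_ker, map_sub, sub_eq_zero] at this
      exact this
  -- the commutators
  have hconj : ∀ {u : Module.End k M}, Min G u → Same x u → ∃ g ∈ G,
      conjE g s = u * r * s * cc x r + s * (r * u) ∧
      conjE g s * t - t * conjE g s = u * r * (s * t) - t * s * r * u := by
    intro u hu hxu
    obtain ⟨r', hrr, -, -, g, hg, hgv, hgi⟩ := F.exists_scale hk2 hk3 hu hxu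
    refine ⟨g, hg, ?_, ?_⟩
    all_goals
      have e0 : conjE g s = u * r * s * cc x r + s * (r * u) := by
        have z1 : r' * x * s = 0 := by rw [mul_assoc, Ds.xs, mul_zero]
        have z2 : s * (x * r') = 0 := by rw [← mul_assoc, Ds.sx, zero_mul]
        have zz : x * r * s * (r * u) = 0 := by
          conv_lhs => arg 2; arg 1; rw [← F.rxr]
          rw [mul_assoc (r * x) r u, ← mul_assoc, hs0, zero_mul]
        have z3 : u * r * s * (r * u) = 0 := by
          conv_lhs => arg 1; arg 1; arg 1; rw [(hyx hxu).2]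
          simp only [mul_assoc] at zz ⊢
          rw [zz, mul_zero, mul_zero]
        have z4 : cc x r * s * (r * u) = s * (r * u) := by
          simp only [cc, sub_mul, one_mul, a2, zz, zero_mul, sub_zero]
        rw [conjE, hgv, hgi]
        simp only [mul_add, add_mul, Ds.csc, z1, z3, zero_mul, mul_assoc _ s (x * r'), z2, mul_zero, z4, add_zero, zero_add]
    · exact e0
    · have y1 : u * t = 0 := by rw [(hyx hxu).2, mul_assoc, b2', mul_zero]
      have y2 : t * u = 0 := by rw [(hyx hxu).1, ← mul_assoc, b1', zero_mul]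
      have est : s * (cc x r * t) = s * t := asc3' (Ds.mul_mul_eq_zero Dt Ds).2.symm
      rw [e0]
      simp only [add_mul, mul_add, mul_assoc, est, y1, asc2 y2, zero_mul, mul_zero, add_zero, zero_add]
  let InL : Module.End k M → Prop := fun u => u = 0 ∨ (Min G u ∧ Same x u)
  have hL : ∀ {u}, InL u → InL (u * r * (s * t) - t * s * r * u) := by
    rintro u (rfl | ⟨hu, hxu⟩)
    · exact Or.inl (by simp)
    obtain ⟨g, hg, e0, e⟩ := hconj hu hxu
    by_cases h0 : u * r * (s * t) - t * s * r * u = 0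
    · exact Or.inl h0
    have hS' := hS.conjE hg
    have DS : Dec x r (conjE g s) := by
      obtain ⟨c1, c2, c3, c4, c5⟩ := F.cc_mul
      have q1 : r * u * x = 0 := by rw [mul_assoc, mul_eq_zero_of_same F.left.1.sq hxu (Same.refl x), mul_zero]
      have q2 : x * u = 0 := mul_eq_zero_of_same F.left.1.sq (Same.refl x) hxu
      have q3 : cc x r * u = 0 := by rw [(hyx hxu).1, ← mul_assoc, ← mul_assoc, c1, zero_mul, zero_mul]
      have q4 : u * cc x r = 0 := by rw [(hyx hxu).2, mul_assoc, mul_assoc, c2, mul_zero, mul_zero]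
      rw [e0]
      refine ⟨?_, ?_, ?_⟩
      · rw [add_mul, mul_assoc _ (cc x r) x, c1, mul_zero, mul_assoc s (r * u) x, q1, mul_zero, add_zero]
      · rw [mul_add, ← mul_assoc, ← mul_assoc, ← mul_assoc, q2, zero_mul, zero_mul, zero_mul, zero_add, ← mul_assoc,
          Ds.xs, zero_mul]
      · rw [mul_add, add_mul, ← mul_assoc, ← mul_assoc, ← mul_assoc, q3, zero_mul, zero_mul, zero_mul, zero_mul,
          zero_add, ← mul_assoc, mul_assoc _ (r * u) (cc x r), mul_assoc r u, q4, mul_zero, mul_zero]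
    have hmem : Mem G (u * r * (s * t) - t * s * r * u) := by
      rw [← e]
      exact ⟨comm_sq hS'.1.sq hT.1.sq (DS.mul_mul_eq_zero Dt DS).1 (Dt.mul_mul_eq_zero DS Dt).1, e ▸ h0,
        inG_comm hS'.1 hT.1 (DS.mul_mul_eq_zero Dt DS).1 (Dt.mul_mul_eq_zero DS Dt).1⟩
    refine Or.inr (And.symm (same_of_le_frame F hmem (fun v hv => ?_) ?_))
    · have hs' : (s * t) v = (s * t) (r (x v)) + (s * t) (v - r (x v)) := by rw [← map_add]; congr 1; abel
      have hk : v ∈ LinearMap.ker u := hxu.1.ge hv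
      have hst : ∀ w, x w = 0 → s (t w) = 0 := fun w hw => by
        have e' : s (t w) - t (s w) = 0 := by
          have : (s * t - t * s) w = 0 := by rw [← hx]; exact hw
          exact this
        exact Submodule.disjoint_def.mp hdis _ ⟨⟨_, rfl⟩, LinearMap.congr_fun h2 w⟩
          (by rw [sub_eq_zero.mp e']; exact ⟨⟨_, rfl⟩, LinearMap.congr_fun h1 w⟩)
      show u (r (s (t v))) - t (s (r (u v))) = 0
      rw [hst v hv, LinearMap.mem_ker.mp hk]
      simp only [map_zero, sub_zero]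
    · rintro _ ⟨v, rfl⟩
      refine Submodule.sub_mem _ (hxu.2.le ⟨_, rfl⟩) ?_
      rw [hx, hrange]
      exact Submodule.mem_sup_right ⟨⟨_, rfl⟩, LinearMap.congr_fun h1 _⟩
  set D := y * r * (s * t) - s * t * r * y with hD
  have hpy : s * t * r * y - t * s * r * y = y := by
    rw [← sub_mul, ← sub_mul, ← hx]; exact (hyx hxy).1.symm
  have hyp : y * r * (s * t) - y * r * (t * s) = y := by
    rw [← mul_sub, ← hx, mul_assoc]; exact (hyx hxy).2.symm
  have hDL : InL D := by
    have e : D = (y * r * (s * t) - t * s * r * y) + (-y) := by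
      rw [hD]; conv_rhs => arg 2; rw [← hpy]
      abel
    by_cases h0 : D = 0
    · exact Or.inl h0
    rcases hL (Or.inr ⟨hy, hxy⟩) with hΦ | ⟨hΦ, hΦs⟩
    · refine Or.inr ⟨?_, ?_⟩ <;> rw [e, hΦ, zero_add]
      · exact hy.neg
      · exact ⟨by rw [← hxy.1]; ext v; simp, by rw [LinearMap.range_neg, hxy.2]⟩
    · have hny : Same x (-y) := ⟨by rw [← hxy.1]; ext v; simp, by rw [LinearMap.range_neg, hxy.2]⟩
      obtain ⟨q1, q2⟩ := F.left.add hΦ.1 hy.neg.1 hΦs hny (e ▸ h0)
      exact Or.inr ⟨e ▸ q2, e ▸ q1⟩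
  have hfue : t * s * r * y * r * (s * t) = 0 := by
    have e : D * r * (s * t) - t * s * r * D = (-2 : k) • (t * s * r * y * r * (s * t)) := by
      rw [hD, sub_mul, sub_mul, mul_sub, mul_assoc (y * r) (s * t) r, mul_assoc (y * r) (s * t * r), i1.1,
        ← mul_assoc (t * s * r) (s * t * r), ← mul_assoc (t * s * r) (s * t) r, i1.2, zero_mul, zero_mul,
        sub_zero, ← mul_assoc (t * s * r), ← mul_assoc (t * s * r) y r]
      conv_lhs => arg 1; arg 1; rw [← hpy]
      rw [sub_mul, sub_mul, neg_smul, two_smul]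
      abel
    rcases hL hDL with h0 | ⟨-, hs'⟩
    · rw [e] at h0
      exact (smul_eq_zero.mp h0).resolve_left (neg_ne_zero.mpr (two_ne hk2))
    · rw [e] at hs'
      have hst0 : s * t = 0 := LinearMap.ext fun v => by
        have hv : s (t v) ∈ LinearMap.range x := by
          rw [hx, hrange]; exact Submodule.mem_sup_left ⟨⟨_, rfl⟩, LinearMap.congr_fun h2 v⟩
        rw [← hs'.2] at hv
        obtain ⟨w, hw⟩ := hv
        have := LinearMap.congr_fun i1.1 v
        change s (t (r (s (t v)))) = s (t v) at this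
        show s (t v) = 0
        rw [← this, ← hw, LinearMap.smul_apply, map_smul, map_smul, map_smul]
        have z := LinearMap.congr_fun i2.1 (r (y (r (s (t w)))))
        change s (t (r (t (s (r (y (r (s (t w))))))))) = 0 at z
        rw [show (t * s * r * y * r * (s * t)) w = t (s (r (y (r (s (t w)))))) from rfl, z, smul_zero]
      rw [hst0, mul_zero]
  have hDeq : D = s * t * r * y * r * (t * s) := by
    rw [hD]
    conv_lhs => arg 1; arg 1; arg 1; rw [← hpy]
    conv_lhs => arg 2; arg 2; rw [← hyp]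
    rw [sub_mul, sub_mul, hfue, sub_zero, mul_sub]
    simp only [← mul_assoc]
    abel
  have hD0 : D = 0 := by
    rcases hDL with h0 | ⟨-, hs'⟩
    · exact h0
    rw [hDeq] at hs'
    have hts0 : t * s = 0 := LinearMap.ext fun v => by
      have hv : t (s v) ∈ LinearMap.range x := by
        rw [hx, hrange]; exact Submodule.mem_sup_right ⟨⟨_, rfl⟩, LinearMap.congr_fun h1 v⟩
      rw [← hs'.2] at hv
      obtain ⟨w, hw⟩ := hv
      have := LinearMap.congr_fun i2.2 v
      change t (s (r (t (s v)))) = -t (s v) at this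
      show t (s v) = 0
      rw [← neg_eq_zero, ← this, ← hw]
      exact LinearMap.congr_fun i1.2 (r (y (r (t (s w)))))
    rw [hDeq, hts0, mul_zero]
  obtain ⟨g, hg, e0, e⟩ := hconj hy hxy
  rw [hD, sub_eq_zero] at hD0
  refine ⟨conjE g s, hS.conjE hg, (hS.same_of_le (hS.conjE hg).1 (fun v hv => ?_) ?_).1, ?_⟩
  · rw [e0, LinearMap.mem_ker, LinearMap.add_apply]
    have hv' : s v = 0 := hv
    have hxv : x v = s (t v) := by rw [hx, LinearMap.sub_apply]; show s (t v) - t (s v) = _; rw [hv', map_zero, sub_zero]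
    have z1 : s (cc x r v) = 0 := by
      have e2 : s * cc x r = x * r * s := by
        rw [a3]
        conv_lhs => arg 2; rw [cc]
        rw [mul_sub, mul_sub, mul_one, mul_assoc (x * r) s (x * r), a1, mul_zero, hs0, sub_zero, sub_zero]
      have := LinearMap.congr_fun e2 v
      change s (cc x r v) = x (r (s v)) at this
      rw [this, hv', map_zero, map_zero]
    have z2 : s (r (y v)) = 0 := by
      have ey : y v = s (t (r (y v))) := by
        have h3 := LinearMap.congr_fun hD0 v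
        change y (r (s (t v))) = s (t (r (y v))) at h3
        rw [← h3, ← hxv]
        exact LinearMap.congr_fun (hyx hxy).2 v
      rw [ey]
      set w := r (y v)
      set q := s (r (s (t w)))
      have hqt : t q = 0 := LinearMap.congr_fun i1.2 w
      have hq : x (r q) = q := hfix q (by rw [hx, hrange]; exact Submodule.mem_sup_left ⟨⟨_, rfl⟩, hqt⟩)
      rw [← hq]
      have e3 : x * r * s * r = 0 := by
        conv_lhs => arg 2; rw [← F.rxr]
        rw [← mul_assoc (x * r * s) (r * x) r, hs0, zero_mul]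
      exact LinearMap.congr_fun e3 (s (t w))
    show y (r (s (cc x r v))) + s (r (y v)) = 0
    rw [z1, z2, map_zero, map_zero, add_zero]
  · rintro _ ⟨v, rfl⟩
    rw [e0, LinearMap.add_apply]
    refine Submodule.add_mem _ ?_ ⟨_, rfl⟩
    have hu : s (cc x r v) ∈ LinearMap.range s ⊓ LinearMap.ker t := by
      refine ⟨⟨_, rfl⟩, ?_⟩
      have : t * (s * cc x r) = 0 := by rw [a3, ← mul_assoc, ← mul_assoc, b1', zero_mul, zero_mul]
      exact LinearMap.congr_fun this v
    rw [← b1] at hu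
    obtain ⟨_, ⟨w, rfl⟩, hw⟩ := hu
    show y (r (s (cc x r v))) ∈ LinearMap.range s
    rw [← hw]
    exact ⟨_, (LinearMap.congr_fun hD0 w).symm⟩
  · rw [e, hD0]; exact hpy

/-- Every member of the class of `[s, t]` is a commutator `[s, t']`. -/
theorem surj (hk2 : ringChar k ≠ 2) (hk3 : Nat.card k ≠ 3) (hG : NoFix G) (hS : Min G s)
    (hT : Min G t) (h1 : s * t * s = 0) (h2 : t * s * t = 0) (hne : s * t - t * s ≠ 0) {y : Module.End k M}
    (hy : Min G y) (hxy : Same (s * t - t * s) y) :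
    ∃ t', Min G t' ∧ Same t t' ∧ s * t' - t' * s = y := by
  obtain ⟨hX, -, -, -, -, -⟩ := pair_spaces hS hT h1 h2 hne
  obtain ⟨r, F⟩ := exists_frame hk2 hk3 hG hX
  set x := s * t - t * s with hx
  have Ds := dec_of_pair F hS hT h1 h2 rfl
  have Dt : Dec x r t := by
    obtain ⟨m, -⟩ := F.exists_scale hk2 hk3 F.left (Same.refl x)
    refine ⟨?_, ?_, ?_⟩
    · rw [hx, mul_sub, ← mul_assoc, ← mul_assoc, h2, hT.1.sq, zero_mul, sub_zero]
    · rw [hx, sub_mul, mul_assoc s t t, hT.1.sq, mul_zero, h2, sub_zero]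
    · have F' : Frame G (-x) (-r) := ⟨F.left.neg, F.right.neg, by simp [F.xrx], by simp [F.rxr]⟩
      have := (dec_of_pair F' hT hS h2 h1 (by rw [hx]; abel)).csc
      simpa [cc] using this
  obtain ⟨Ds1, Ds2, hs0, hssum⟩ := hom_dec F Ds
  obtain ⟨Dt1, Dt2, ht0, htsum⟩ := hom_dec F Dt
  have hc := hom_comm F Ds Dt
  rw [← hx] at hc
  have hs1 : hom1 x r s ≠ 0 := fun e => F.left.1.ne (by rw [← hc, e]; simp)
  have ht1 : hom1 x r t ≠ 0 := fun e => F.left.1.ne (by rw [← hc, e]; simp)
  obtain ⟨hS1, -⟩ := hom_mem hk2 hk3 F hS Ds hs1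
  obtain ⟨hT1, hT2⟩ := hom_mem hk2 hk3 F hT Dt ht1
  have F' : Frame G (-x) (-r) := ⟨F.left.neg, F.right.neg, by simp [F.xrx], by simp [F.rxr]⟩
  have hsame : ∀ {u}, Same x u → Same (-x) (-u) := fun {u} hu =>
    ⟨by rw [show LinearMap.ker (-u) = LinearMap.ker u by ext v; simp, hu.1]; ext v; simp,
      by rw [LinearMap.range_neg, LinearMap.range_neg, hu.2]⟩
  have ecc : cc (-x) (-r) = cc x r := by simp [cc]
  have Dneg : ∀ {u}, Dec x r u → Dec (-x) (-r) u := fun {u} D =>
    ⟨by simp [D.sx], by simp [D.xs], by rw [ecc]; exact D.csc⟩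
  -- the first coordinate
  obtain ⟨t1', hT1', hTs, hty⟩ := surj_hom hk2 hk3 F' hT1 hS1 (Dneg Dt1) (Dneg Ds1) (by rw [← neg_sub (hom1 x r s * hom1 x r t), hc])
    (by simpa using ht0) hy.neg (hsame hxy)
  have hty' : hom1 x r s * t1' - t1' * hom1 x r s = y := by rw [← neg_sub, hty, neg_neg]
  have hfin : ∀ {t' : Module.End k M}, Dec x r t' → hom1 x r s * t' - t' * hom1 x r s = s * t' - t' * s := fun {t'} D => by
    have n1 : hom2 x r s * t' = 0 := by rw [hom2, mul_assoc _ (r * x), D.facts.2.1, mul_zero]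
    have n2 : t' * hom2 x r s = 0 := by simp only [hom2, mul_assoc, asc2 D.sx, zero_mul]
    conv_rhs => rw [hssum, add_mul, mul_add, n1, n2, add_zero, add_zero]
  have D1' : Dec x r t1' := by
    have n : Dec x r (hom1 x r t) := Dt1
    refine ⟨LinearMap.ext fun v => ?_, LinearMap.ext fun v => ?_, LinearMap.ext fun v => ?_⟩
    · show x v ∈ LinearMap.ker t1'
      rw [hTs.1]; exact LinearMap.congr_fun n.sx v
    · obtain ⟨w, hw⟩ : t1' v ∈ LinearMap.range (hom1 x r t) := hTs.2 ▸ LinearMap.mem_range_self t1' v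
      show x (t1' v) = 0
      rw [← hw]; exact LinearMap.congr_fun n.xs w
    · have Fp : Frame G (s * t - t * s) r := F
      have hm1 := (Ds1.mul_mul_eq_zero Dt1 Ds1).1
      have hm2 := (Dt1.mul_mul_eq_zero Ds1 Dt1).1
      have hnil := nilpotent_z hm1 hm2 hS1.1.sq hT1.1.sq
      obtain ⟨q1, q2⟩ := deep_zero (two_ne hk2) hS1 hT1' ((nilpotent_iff_of_same hk2 hk3 hS1 hT1 hS1 hT1' (Same.refl _) hTs).mp hnil)
      have hne' : hom1 x r s * t1' - t1' * hom1 x r s ≠ 0 := hty' ▸ hy.1.ne
      obtain ⟨-, hr', -, hk', -⟩ := pair_spaces hS1 hT1' q1 q2 hne'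
      obtain ⟨c1, c2, -⟩ := F.cc_mul
      have hv : cc x r v ∈ LinearMap.ker y := by rw [hxy.1]; exact LinearMap.congr_fun c2 v
      rw [← hty', hk'] at hv
      obtain ⟨_, ⟨w, rfl⟩, j, hj, e⟩ := Submodule.mem_sup.mp hv.1
      have hin : t1' (cc x r v) ∈ LinearMap.range x := by
        rw [← hxy.2, ← hty', ← e, map_add, LinearMap.mem_ker.mp hj, add_zero, hr']
        exact Submodule.mem_sup_right ⟨⟨_, rfl⟩, LinearMap.congr_fun q1 w⟩
      obtain ⟨u, hu⟩ := hin
      show cc x r (t1' (cc x r v)) = 0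
      rw [← hu]; exact LinearMap.congr_fun c1 u
  by_cases h0 : hom2 x r t = 0
  · refine ⟨t1', hT1', ?_, by rw [← hfin D1', hty']⟩
    rwa [show t = hom1 x r t by conv_lhs => rw [htsum, h0, add_zero]]
  obtain ⟨q1, q2⟩ := hT2 h0
  obtain ⟨b, hB, hBs, hb⟩ := surj_hom hk2 hk3 F hS1 hT1 Ds1 Dt1 hc.symm hs0 q2 q1
  have Db : Dec x r b ∧ ∀ {u}, Dec x r u → b * u * b = 0 := by
    have e1 : b * hom1 x r t * b = 0 ∧ hom1 x r t * b * hom1 x r t = 0 := by
      have hm1 := (Ds1.mul_mul_eq_zero Dt1 Ds1).1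
      have hm2 := (Dt1.mul_mul_eq_zero Ds1 Dt1).1
      exact deep_zero (two_ne hk2) hB hT1 ((nilpotent_iff_of_same hk2 hk3 hS1 hT1 hB hT1 hBs (Same.refl _)).mp
        (nilpotent_z hm1 hm2 hS1.1.sq hT1.1.sq))
    have D : Dec x r b := by
      refine ⟨LinearMap.ext fun v => ?_, LinearMap.ext fun v => ?_, LinearMap.ext fun v => ?_⟩
      · show x v ∈ LinearMap.ker b
        rw [hBs.1]; exact LinearMap.congr_fun Ds1.sx v
      · obtain ⟨w, hw⟩ : b v ∈ LinearMap.range (hom1 x r s) := hBs.2 ▸ LinearMap.mem_range_self b v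
        show x (b v) = 0
        rw [← hw]; exact LinearMap.congr_fun Ds1.xs w
      · have hne' : b * hom1 x r t - hom1 x r t * b ≠ 0 := hb ▸ q2.1.ne
        obtain ⟨-, hr', -, hk', -⟩ := pair_spaces hB hT1 e1.1 e1.2 hne'
        obtain ⟨c1, c2, -⟩ := F.cc_mul
        have hv : cc x r v ∈ LinearMap.ker (hom2 x r t) := by rw [q1.1]; exact LinearMap.congr_fun c2 v
        rw [← hb, hk'] at hv
        obtain ⟨_, ⟨w, rfl⟩, j, hj, e⟩ := Submodule.mem_sup.mp hv.2
        have hin : b (cc x r v) ∈ LinearMap.range x := by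
          rw [← q1.2, ← hb, ← e, map_add, LinearMap.mem_ker.mp hj, add_zero, hr']
          exact Submodule.mem_sup_left ⟨⟨_, rfl⟩, LinearMap.congr_fun e1.2 w⟩
        obtain ⟨u, hu⟩ := hin
        show cc x r (b (cc x r v)) = 0
        rw [← hu]; exact LinearMap.congr_fun c1 u
    exact ⟨D, fun hu => (D.mul_mul_eq_zero hu D).1⟩
  set g := mk b hB.1.sq
  have hgG : g ∈ G := InG.mem (by rw [mk_val]; exact hB.1.inG)
  have hconj : ∀ {u}, Dec x r u → conjE g u = u + (b * u - u * b) := fun {u} hu => by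
    have e : ((g⁻¹ : LinearMap.GeneralLinearGroup k M) : Module.End k M) = 1 - b := rfl
    rw [conjE, e, mk_val]
    simp only [add_mul, mul_sub, one_mul, mul_one, Db.2 hu]
    abel
  refine ⟨conjE g t1', hT1'.conjE hgG, ?_, ?_⟩
  · have := hTs.conjE g
    rwa [hconj Dt1, hb, ← htsum] at this
  · have hd : Dec x r (b * t1' - t1' * b) := by
      obtain ⟨u1, u2, -⟩ := Db.1.facts
      obtain ⟨v1, v2, -⟩ := D1'.facts
      refine ⟨?_, ?_, ?_⟩
      · rw [sub_mul, mul_assoc, mul_assoc, D1'.sx, Db.1.sx, mul_zero, mul_zero, sub_zero]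
      · rw [mul_sub, ← mul_assoc, ← mul_assoc, D1'.xs, Db.1.xs, zero_mul, zero_mul, sub_zero]
      · rw [(Db.1.mul_mul_eq_zero D1' D1').2, (D1'.mul_mul_eq_zero Db.1 Db.1).2, mul_sub, sub_mul, ← mul_assoc,
          ← mul_assoc, ← mul_assoc, ← mul_assoc, Db.1.csc, D1'.csc]
        simp only [zero_mul, sub_zero]
    have e1 : s * (b * t1' - t1' * b) = 0 := by
      rw [mul_sub, ← mul_assoc, ← mul_assoc, (Ds.mul_mul_eq_zero Db.1 D1').1, (Ds.mul_mul_eq_zero D1' Db.1).1, sub_zero]
    have e2 : (b * t1' - t1' * b) * s = 0 := by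
      rw [sub_mul, (Db.1.mul_mul_eq_zero D1' Ds).1, (D1'.mul_mul_eq_zero Db.1 Ds).1, sub_zero]
    rw [hconj D1', mul_add, add_mul, e1, e2, add_zero, add_zero, ← hfin D1', hty']

end Main

end CfsgLib.QP
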