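/-
Unipotent pairs of classes: commuting, or class two.
-/
import Mathlib
import Cfsg.Agent.Lib.RootSub.CommCase
import Cfsg.Agent.Lib.RootSub.QP.Surj

set_option autoImplicit false

namespace CfsgLib.QP

open scoped commutatorElement

universe u

variable {k : Type u} [Field k] {M : Type u} [AddCommGroup M] [Module k M] [FiniteDimensional k M]
variable {G : Subgroup (LinearMap.GeneralLinearGroup k M)} {σ τ : LinearMap.GeneralLinearGroup k M}

theorem ne_one_of_minimal (hσ : σ ∈ Cfsg.minimalQuadraticElements G) : σ ≠ 1 := fun e =>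
  (mem_minimal_iff.mp hσ).1.ne (by rw [e, Units.val_one, sub_self])

omit [FiniteDimensional k M] in
theorem commute_of {H : Subgroup (LinearMap.GeneralLinearGroup k M)} (hH : IsMulCommutative H)
    {a b : LinearMap.GeneralLinearGroup k M} (ha : a ∈ H) (hb : b ∈ H) : a * b = b * a :=
  congrArg Subtype.val (hH.is_comm.comm ⟨a, ha⟩ ⟨b, hb⟩)

omit [FiniteDimensional k M] in
theorem Same.neg {a b : Module.End k M} (h : Same a b) : Same (-a) (-b) :=
  ⟨by rw [show LinearMap.ker (-b) = LinearMap.ker b by ext v; simp, h.1]; ext v; simp,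
    by rw [LinearMap.range_neg, LinearMap.range_neg, h.2]⟩

/-- Data of a nilpotent pair of minimal members, for any two elements of the two classes. -/
theorem class_mul (hk2 : ringChar k ≠ 2) (hk3 : Nat.card k ≠ 3) (hσ : σ ∈ Cfsg.minimalQuadraticElements G)
    (hτ : τ ∈ Cfsg.minimalQuadraticElements G) (h : ¬ Opp σ τ) {a b : Module.End k M} (ha : Min G a) (hb : Min G b)
    (hsa : Same ((σ : Module.End k M) - 1) a) (htb : Same ((τ : Module.End k M) - 1) b) :
    a * b * a = 0 ∧ b * a * b = 0 :=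
  deep_zero (two_ne hk2) ha hb ((nilpotent_iff_of_same hk2 hk3 (mem_minimal_iff.mp hσ) (mem_minimal_iff.mp hτ) ha hb
    hsa htb).mp (not_not.mp h))

theorem commutator_mk {a b : Module.End k M} (ha : a * a = 0) (hb : b * b = 0) (h1 : a * b * a = 0)
    (h2 : b * a * b = 0) :
    mk a ha * mk b hb * (mk a ha)⁻¹ * (mk b hb)⁻¹ = mk (a * b - b * a) (comm_sq ha hb h1 h2) := by
  refine Units.ext ?_
  have e1 : ((mk a ha)⁻¹ : LinearMap.GeneralLinearGroup k M).1 = 1 - a := rfl
  have e2 : ((mk b hb)⁻¹ : LinearMap.GeneralLinearGroup k M).1 = 1 - b := rfl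
  rw [Units.val_mul, Units.val_mul, Units.val_mul, e1, e2, mk_val, mk_val, mk_val]
  simp only [mul_add, add_mul, mul_sub, sub_mul, mul_one, one_mul, ← mul_assoc, ha, hb, h1, h2, zero_mul,
    mul_assoc a b b, mul_zero, sub_zero, zero_sub]
  abel

omit [FiniteDimensional k M] in
theorem comm_eq_zero_iff {a b : Module.End k M} (ha : a * a = 0) (hb : b * b = 0) :
    mk a ha * mk b hb = mk b hb * mk a ha ↔ a * b = b * a := by
  constructor
  · intro h
    have := congrArg (fun g : LinearMap.GeneralLinearGroup k M => (g : Module.End k M)) h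
    simp only [Units.val_mul, mk_val, mul_add, add_mul, mul_one, one_mul] at this
    rw [← sub_eq_zero] at this ⊢
    rw [← this]; abel
  · intro h
    refine Units.ext ?_
    simp only [Units.val_mul, mk_val, mul_add, add_mul, mul_one, one_mul, h]
    abel

theorem exists_mk_of_mem (hσ : σ ∈ Cfsg.minimalQuadraticElements G) {e : LinearMap.GeneralLinearGroup k M}
    (he : e ∈ Cfsg.sameActionSubgroup G σ) (he1 : e ≠ 1) :
    ∃ a, ∃ ha : Min G a, Same ((σ : Module.End k M) - 1) a ∧ e = mk a ha.1.sq := by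
  obtain ⟨h1, h2⟩ := ((mem_sameActionSubgroup_iff hσ).mp he).resolve_left he1
  exact ⟨_, h1, h2, eq_mk_of_sub_one e h1.1.sq⟩

theorem comm_bot_of_commute (hk2 : ringChar k ≠ 2) (hk3 : Nat.card k ≠ 3) (hσ : σ ∈ Cfsg.minimalQuadraticElements G)
    (hτ : τ ∈ Cfsg.minimalQuadraticElements G) (h : ¬ Opp σ τ) {a b : Module.End k M} (ha : Min G a) (hb : Min G b)
    (hsa : Same ((σ : Module.End k M) - 1) a) (htb : Same ((τ : Module.End k M) - 1) b) (hc : a * b = b * a) :
    ⁅Cfsg.sameActionSubgroup G σ, Cfsg.sameActionSubgroup G τ⁆ = ⊥ := by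
  refine CfsgLib.RootSub.comm_eq_bot_of_commute fun e he f hf => ?_
  by_cases he1 : e = 1
  · rw [he1, one_mul, mul_one]
  by_cases hf1 : f = 1
  · rw [hf1, one_mul, mul_one]
  obtain ⟨a', ha', hsa', rfl⟩ := exists_mk_of_mem hσ he he1
  obtain ⟨b', hb', htb', rfl⟩ := exists_mk_of_mem hτ hf hf1
  rw [comm_eq_zero_iff]
  obtain ⟨h1, h2⟩ := class_mul hk2 hk3 hσ hτ h ha hb hsa htb
  obtain ⟨h1', h2'⟩ := class_mul hk2 hk3 hσ hτ h ha' hb' hsa' htb'
  exact commute_of_same ha hb ha' hb' (hsa.symm.trans hsa') (htb.symm.trans htb') h1 h2 h1' h2' hc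

/-- The commutator class of a non-commuting nilpotent pair. -/
theorem class_two (hk2 : ringChar k ≠ 2) (hk3 : Nat.card k ≠ 3) (hG : NoFix G)
    (hσ : σ ∈ Cfsg.minimalQuadraticElements G) (hτ : τ ∈ Cfsg.minimalQuadraticElements G) (h : ¬ Opp σ τ)
    (hne : ⁅Cfsg.sameActionSubgroup G σ, Cfsg.sameActionSubgroup G τ⁆ ≠ ⊥) :
    let E := Cfsg.sameActionSubgroup G σ
    let F := Cfsg.sameActionSubgroup G τ
    ⁅E, F⁆ ∈ Cfsg.quadraticRootSubgroups G ∧
      (∀ e ∈ E, e ≠ 1 → Subgroup.closure ((fun f : LinearMap.GeneralLinearGroup k M => e * f * e⁻¹ * f⁻¹) ''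
        (F : Set (LinearMap.GeneralLinearGroup k M))) = ⁅E, F⁆) ∧
      (∀ f ∈ F, f ≠ 1 → Subgroup.closure ((fun e : LinearMap.GeneralLinearGroup k M => e * f * e⁻¹ * f⁻¹) ''
        (E : Set (LinearMap.GeneralLinearGroup k M))) = ⁅E, F⁆) ∧
      ⁅E ⊔ F, E ⊔ F⁆ ≠ ⊥ ∧ ⁅⁅E ⊔ F, E ⊔ F⁆, E ⊔ F⁆ = ⊥ ∧
      ((E ⊔ F : Subgroup (LinearMap.GeneralLinearGroup k M)) : Set (LinearMap.GeneralLinearGroup k M)) ⊆
        Cfsg.quadraticUnipotentCore G ⁅E, F⁆ ∧ (∀ c ∈ ⁅E, F⁆, ∀ z ∈ E ⊔ F, c * z = z * c) := by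
  intro E F
  set s := (σ : Module.End k M) - 1
  set t := (τ : Module.End k M) - 1
  have hS : Min G s := mem_minimal_iff.mp hσ
  have hT : Min G t := mem_minimal_iff.mp hτ
  obtain ⟨h1, h2⟩ := class_mul hk2 hk3 hσ hτ h hS hT (Same.refl s) (Same.refl t)
  have hst : ∀ {a b}, Min G a → Min G b → Same s a → Same t b → a * b - b * a ≠ 0 := fun {a b} ha hb hsa htb e =>
    hne (comm_bot_of_commute hk2 hk3 hσ hτ h ha hb hsa htb (sub_eq_zero.mp e))
  obtain ⟨hX, hXr, hXd, hXk, hb1, hb2⟩ := pair_spaces hS hT h1 h2 (hst hS hT (Same.refl s) (Same.refl t))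
  set x := s * t - t * s with hx
  set ξ := mk x hX.1.sq with hξdef
  have hξ : ξ ∈ Cfsg.minimalQuadraticElements G := mem_minimal_iff.mpr (by rw [mk_sub_one]; exact hX)
  set L := Cfsg.sameActionSubgroup G ξ with hL
  have hsame : ∀ {a b}, Min G a → Min G b → Same s a → Same t b → Same x (a * b - b * a) := fun {a b} ha hb hsa htb => by
    obtain ⟨q1, q2⟩ := class_mul hk2 hk3 hσ hτ h ha hb hsa htb
    obtain ⟨-, qr, -, qk, -, -⟩ := pair_spaces ha hb q1 q2 (hst ha hb hsa htb)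
    rw [hsa.1, hsa.2, htb.1, htb.2] at qr qk
    exact ⟨qk.trans hXk.symm, qr.trans hXr.symm⟩
  have hgenL : ∀ e ∈ E, ∀ f ∈ F, e * f * e⁻¹ * f⁻¹ ∈ L := fun e he f hf => by
    by_cases he1 : e = 1
    · rw [he1]; simp
    by_cases hf1 : f = 1
    · rw [hf1]; simp
    obtain ⟨a, ha, hsa, rfl⟩ := exists_mk_of_mem hσ he he1
    obtain ⟨b, hb, htb, rfl⟩ := exists_mk_of_mem hτ hf hf1
    obtain ⟨q1, q2⟩ := class_mul hk2 hk3 hσ hτ h ha hb hsa htb
    rw [commutator_mk _ _ q1 q2]
    refine mk_mem_sameActionSubgroup hξ (pair_spaces ha hb q1 q2 (hst ha hb hsa htb)).1.1 ?_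
    rw [mk_sub_one]; exact hsame ha hb hsa htb
  have hsurjE : ∀ e ∈ E, e ≠ 1 → L ≤ Subgroup.closure ((fun f : LinearMap.GeneralLinearGroup k M =>
      e * f * e⁻¹ * f⁻¹) '' (F : Set (LinearMap.GeneralLinearGroup k M))) := by
    intro e he he1
    obtain ⟨a, ha, hsa, rfl⟩ := exists_mk_of_mem hσ he he1
    rw [hL, Cfsg.sameActionSubgroup, Subgroup.closure_le]
    intro c hc
    obtain ⟨hcm, hcs⟩ := mem_sameActionClass_iff.mp hc
    rw [mk_sub_one] at hcs
    obtain ⟨q1, q2⟩ := class_mul hk2 hk3 hσ hτ h ha hT hsa (Same.refl t)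
    obtain ⟨t', hT', hts, hy⟩ := surj hk2 hk3 hG ha hT q1 q2 (hst ha hT hsa (Same.refl t)) hcm
      ((hsame ha hT hsa (Same.refl t)).symm.trans hcs)
    refine Subgroup.subset_closure ⟨mk t' hT'.1.sq, mk_mem_sameActionSubgroup hτ hT'.1 hts, ?_⟩
    obtain ⟨r1, r2⟩ := class_mul hk2 hk3 hσ hτ h ha hT' hsa hts
    simp only
    rw [commutator_mk _ _ r1 r2]
    exact Units.ext (by rw [mk_val, hy, add_sub_cancel])
  have hsurjF : ∀ f ∈ F, f ≠ 1 → L ≤ Subgroup.closure ((fun e : LinearMap.GeneralLinearGroup k M =>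
      e * f * e⁻¹ * f⁻¹) '' (E : Set (LinearMap.GeneralLinearGroup k M))) := by
    intro f hf hf1
    obtain ⟨b, hb, htb, rfl⟩ := exists_mk_of_mem hτ hf hf1
    rw [hL, Cfsg.sameActionSubgroup, Subgroup.closure_le]
    intro c hc
    obtain ⟨hcm, hcs⟩ := mem_sameActionClass_iff.mp hc
    rw [mk_sub_one] at hcs
    obtain ⟨q1, q2⟩ := class_mul hk2 hk3 hσ hτ h hS hb (Same.refl s) htb
    have hne' : b * s - s * b ≠ 0 := by
      intro e; exact hst hS hb (Same.refl s) htb (by rw [← neg_sub, e, neg_zero])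
    have hsame' : Same (b * s - s * b) (-((c : Module.End k M) - 1)) := by
      have := (hsame hS hb (Same.refl s) htb).symm.trans hcs
      rw [← neg_sub (s * b)]
      exact this.neg
    obtain ⟨s', hS', hss, hy⟩ := surj hk2 hk3 hG hb hS q2 q1 hne' hcm.neg hsame'
    refine Subgroup.subset_closure ⟨mk s' hS'.1.sq, mk_mem_sameActionSubgroup hσ hS'.1 hss, ?_⟩
    obtain ⟨r1, r2⟩ := class_mul hk2 hk3 hσ hτ h hS' hb hss htb
    simp only
    rw [commutator_mk _ _ r1 r2]
    have e : s' * b - b * s' = (c : Module.End k M) - 1 := by rw [← neg_sub, hy, neg_neg]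
    exact Units.ext (by rw [mk_val, e, add_sub_cancel])
  have hEF : ⁅E, F⁆ = L := by
    refine le_antisymm (Subgroup.commutator_le.mpr fun e he f hf => hgenL e he f hf) ?_
    refine (hsurjE σ (self_mem_sameActionSubgroup hσ) (ne_one_of_minimal hσ)).trans ((Subgroup.closure_le _).mpr ?_)
    rintro _ ⟨f, hf, rfl⟩
    exact Subgroup.commutator_mem_commutator (self_mem_sameActionSubgroup hσ) hf
  have hxs : ∀ {a}, (Same s a ∨ Same t a) → LinearMap.range a ≤ LinearMap.ker x ∧ LinearMap.range x ≤ LinearMap.ker a := by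
    intro a ha
    rcases ha with ⟨hk, hr⟩ | ⟨hk, hr⟩ <;> rw [hk, hr, hXk, hXr]
    · exact ⟨le_inf le_sup_left ((LinearMap.range_le_ker_iff.mpr hS.1.sq).trans le_sup_right),
        sup_le (inf_le_left.trans (LinearMap.range_le_ker_iff.mpr hS.1.sq)) inf_le_right⟩
    · exact ⟨le_inf ((LinearMap.range_le_ker_iff.mpr hT.1.sq).trans le_sup_right) le_sup_left,
        sup_le inf_le_right (inf_le_left.trans (LinearMap.range_le_ker_iff.mpr hT.1.sq))⟩
  have hclass : ∀ g, g ∈ Cfsg.sameActionClass G σ ∪ Cfsg.sameActionClass G τ →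
      Same s ((g : Module.End k M) - 1) ∨ Same t ((g : Module.End k M) - 1) := fun g hg =>
    hg.imp (fun h => (mem_sameActionClass_iff.mp h).2) (fun h => (mem_sameActionClass_iff.mp h).2)
  have hcent : ∀ c ∈ L, ∀ z ∈ E ⊔ F, c * z = z * c := by
    intro c hc z hz
    have key : ∀ c ∈ Cfsg.sameActionClass G ξ, ∀ g ∈ Cfsg.sameActionClass G σ ∪ Cfsg.sameActionClass G τ,
        c * g = g * c := by
      intro c hc g hg
      obtain ⟨-, hcs⟩ := mem_sameActionClass_iff.mp hc
      rw [mk_sub_one] at hcs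
      obtain ⟨q1, q2⟩ := hxs (hclass g hg)
      rw [← hcs.1] at q1
      rw [← hcs.2] at q2
      have z1 := LinearMap.range_le_ker_iff.mp q1
      have z2 := LinearMap.range_le_ker_iff.mp q2
      refine Units.ext ?_
      change ((c : Module.End k M) - 1) * ((g : Module.End k M) - 1) = 0 at z1
      change ((g : Module.End k M) - 1) * ((c : Module.End k M) - 1) = 0 at z2
      rw [Units.val_mul, Units.val_mul, ← sub_eq_zero]
      calc _ = ((c : Module.End k M) - 1) * ((g : Module.End k M) - 1) -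
            ((g : Module.End k M) - 1) * ((c : Module.End k M) - 1) := by noncomm_ring
        _ = 0 := by rw [z1, z2, sub_zero]
    have h' : Subgroup.closure (Cfsg.sameActionClass G σ ∪ Cfsg.sameActionClass G τ) ≤
        Subgroup.centralizer (Cfsg.sameActionClass G ξ : Set (LinearMap.GeneralLinearGroup k M)) :=
      (Subgroup.closure_le _).mpr fun g hg => Subgroup.mem_centralizer_iff.mpr fun c hc => key c hc g hg
    rw [Subgroup.closure_union] at h'
    have hz' := h' hz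
    have : L ≤ Subgroup.centralizer ({z} : Set (LinearMap.GeneralLinearGroup k M)) :=
      (Subgroup.closure_le _).mpr fun c hc => Subgroup.mem_centralizer_iff.mpr fun w hw => by
        rw [Set.mem_singleton_iff.mp hw]; exact (Subgroup.mem_centralizer_iff.mp hz' c hc).symm
    exact (Subgroup.mem_centralizer_iff.mp (this hc) z rfl).symm
  have hcommE := commute_in_class hσ
  have hcommF := commute_in_class hτ
  have hgen : ∀ g ∈ E ⊔ F, ∀ g' ∈ E ⊔ F, g * g' * g⁻¹ * g'⁻¹ ∈ L := by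
    have base : ∀ g ∈ Cfsg.sameActionClass G σ ∪ Cfsg.sameActionClass G τ,
        ∀ g' ∈ Cfsg.sameActionClass G σ ∪ Cfsg.sameActionClass G τ, g * g' * g⁻¹ * g'⁻¹ ∈ L := by
      rintro g (hg | hg) g' (hg' | hg')
      · rw [CfsgLib.QP.commute_of hcommE (Subgroup.subset_closure hg) (Subgroup.subset_closure hg')]; simp
      · exact hgenL _ (Subgroup.subset_closure hg) _ (Subgroup.subset_closure hg')
      · rw [show g * g' * g⁻¹ * g'⁻¹ = (g' * g * g'⁻¹ * g⁻¹)⁻¹ by group]
        exact inv_mem (hgenL _ (Subgroup.subset_closure hg') _ (Subgroup.subset_closure hg))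
      · rw [CfsgLib.QP.commute_of hcommF (Subgroup.subset_closure hg) (Subgroup.subset_closure hg')]; simp
    have hmul : ∀ {a b c}, a ∈ E ⊔ F → a * c * a⁻¹ * c⁻¹ ∈ L → b * c * b⁻¹ * c⁻¹ ∈ L →
        (a * b) * c * (a * b)⁻¹ * c⁻¹ ∈ L := fun {a b c} ha h1 h2 => by
      rw [show a * b * c * (a * b)⁻¹ * c⁻¹ = a * (b * c * b⁻¹ * c⁻¹) * a⁻¹ * (a * c * a⁻¹ * c⁻¹) by group,
        ← hcent _ h2 a ha, mul_inv_cancel_right]
      exact mul_mem h2 h1
    have hinv : ∀ {a c}, a ∈ E ⊔ F → a * c * a⁻¹ * c⁻¹ ∈ L → a⁻¹ * c * a * c⁻¹ ∈ L := fun {a c} ha h1 => by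
      rw [show a⁻¹ * c * a * c⁻¹ = a⁻¹ * (a * c * a⁻¹ * c⁻¹)⁻¹ * a by group,
        ← hcent _ (inv_mem h1) a⁻¹ (inv_mem ha), inv_mul_cancel_right]
      exact inv_mem h1
    intro g hg g' hg'
    have hE' : E ⊔ F = Subgroup.closure (Cfsg.sameActionClass G σ ∪ Cfsg.sameActionClass G τ) :=
      (Subgroup.closure_union _ _).symm
    have step : ∀ c ∈ Cfsg.sameActionClass G σ ∪ Cfsg.sameActionClass G τ, g * c * g⁻¹ * c⁻¹ ∈ L := by
      intro c hc
      rw [hE'] at hg
      induction hg using Subgroup.closure_induction with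
      | mem a ha => exact base a ha c hc
      | one => simp
      | mul a b ha hb h1 h2 => exact hmul (hE' ▸ ha) h1 h2
      | inv a ha h1 => simpa using hinv (hE' ▸ ha) h1
    rw [hE'] at hg'
    induction hg' using Subgroup.closure_induction with
    | mem a ha => exact step a ha
    | one => simp
    | mul a b ha hb h1 h2 =>
      rw [show g * (a * b) * g⁻¹ * (a * b)⁻¹ = (g * a * g⁻¹ * a⁻¹) * (a * (g * b * g⁻¹ * b⁻¹) * a⁻¹) by group,
        ← hcent _ h2 a (hE' ▸ ha), mul_inv_cancel_right]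
      exact mul_mem h1 h2
    | inv a ha h1 =>
      rw [show g * a⁻¹ * g⁻¹ * a⁻¹⁻¹ = a⁻¹ * (g * a * g⁻¹ * a⁻¹)⁻¹ * a by group,
        ← hcent _ (inv_mem h1) a⁻¹ (inv_mem (hE' ▸ ha)), inv_mul_cancel_right]
      exact inv_mem h1
  refine ⟨hEF ▸ ⟨ξ, hξ, rfl⟩, fun e he he1 => le_antisymm ?_ (hEF ▸ hsurjE e he he1),
    fun f hf hf1 => le_antisymm ?_ (hEF ▸ hsurjF f hf hf1), ?_, ?_, ?_, hEF ▸ hcent⟩
  · rw [Subgroup.closure_le]; rintro _ ⟨f, hf, rfl⟩; exact Subgroup.commutator_mem_commutator he hf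
  · rw [Subgroup.closure_le]; rintro _ ⟨e, he, rfl⟩; exact Subgroup.commutator_mem_commutator he hf
  · intro e
    exact hne (le_bot_iff.mp (e ▸ Subgroup.commutator_mono le_sup_left le_sup_right))
  · rw [Subgroup.commutator_eq_bot_iff_le_centralizer]
    refine (Subgroup.commutator_le.mpr fun a ha b hb => hgen a ha b hb).trans fun c hc => ?_
    exact Subgroup.mem_centralizer_iff.mpr fun z hz => (hcent c hc z hz).symm
  · intro g hg
    rw [hEF]
    have eL : Cfsg.fixedSubmodule L = LinearMap.ker x ∧ Cfsg.commutatorSubmodule L = LinearMap.range x := by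
      have := spaces_of_sup hξ hξ
      rwa [sup_idem, inf_idem, sup_idem, mk_sub_one] at this
    have key : (∀ m, ((g : Module.End k M) - 1) m ∈ LinearMap.ker x) ∧
        (∀ m ∈ LinearMap.ker x, ((g : Module.End k M) - 1) m ∈ LinearMap.range x) ∧
        (∀ m ∈ LinearMap.range x, ((g : Module.End k M) - 1) m = 0) := by
      have hg' := hg
      rw [SetLike.mem_coe, show E ⊔ F = Subgroup.closure (Cfsg.sameActionClass G σ ∪ Cfsg.sameActionClass G τ) from
        (Subgroup.closure_union _ _).symm] at hg'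
      clear hg
      induction hg' using Subgroup.closure_induction with
      | mem a ha =>
        obtain ⟨q1, q2⟩ := hxs (hclass a ha)
        refine ⟨fun m => q1 ⟨m, rfl⟩, fun m hm => ?_, fun m hm => q2 hm⟩
        rw [hXk] at hm
        rw [hXr]
        rcases ha with ha | ha
        · obtain ⟨hcm, hcs⟩ := mem_sameActionClass_iff.mp ha
          obtain ⟨r1, r2⟩ := class_mul hk2 hk3 hσ hτ h hcm hT hcs (Same.refl t)
          obtain ⟨_, ⟨w, rfl⟩, j, hj, e⟩ := Submodule.mem_sup.mp hm.2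
          rw [← e, map_add, LinearMap.mem_ker.mp (hcs.1.ge hj), add_zero]
          exact Submodule.mem_sup_left ⟨hcs.2.le ⟨_, rfl⟩, LinearMap.congr_fun r2 w⟩
        · obtain ⟨hcm, hcs⟩ := mem_sameActionClass_iff.mp ha
          obtain ⟨r1, r2⟩ := class_mul hk2 hk3 hσ hτ h hS hcm (Same.refl s) hcs
          obtain ⟨_, ⟨w, rfl⟩, j, hj, e⟩ := Submodule.mem_sup.mp hm.1
          rw [← e, map_add, LinearMap.mem_ker.mp (hcs.1.ge hj), add_zero]
          exact Submodule.mem_sup_right ⟨hcs.2.le ⟨_, rfl⟩, LinearMap.congr_fun r1 w⟩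
      | one => simp
      | mul a b _ _ h1 h2 =>
        have e : ((a * b : LinearMap.GeneralLinearGroup k M) : Module.End k M) - 1 =
            ((a : Module.End k M) - 1) + ((b : Module.End k M) - 1) +
              ((a : Module.End k M) - 1) * ((b : Module.End k M) - 1) := by
          rw [Units.val_mul]; noncomm_ring
        refine ⟨fun m => ?_, fun m hm => ?_, fun m hm => ?_⟩ <;> rw [e, LinearMap.add_apply, LinearMap.add_apply]
        · exact Submodule.add_mem _ (Submodule.add_mem _ (h1.1 m) (h2.1 m)) (h1.1 _)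
        · refine Submodule.add_mem _ (Submodule.add_mem _ (h1.2.1 m hm) (h2.2.1 m hm)) ?_
          show ((a : Module.End k M) - 1) (((b : Module.End k M) - 1) m) ∈ LinearMap.range x
          rw [h1.2.2 _ (h2.2.1 m hm)]; exact Submodule.zero_mem _
        · rw [h1.2.2 m hm, h2.2.2 m hm, Module.End.mul_apply, h2.2.2 m hm, map_zero, add_zero, add_zero]
      | inv a _ h1 =>
        have hxr : LinearMap.range x ≤ LinearMap.ker x := LinearMap.range_le_ker_iff.mpr hX.1.sq
        set A := (a : Module.End k M) - 1 with hA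
        have h3 : A * A * A = 0 := LinearMap.ext fun m => h1.2.2 _ (h1.2.1 _ (h1.1 m))
        have e : ((a⁻¹ : LinearMap.GeneralLinearGroup k M) : Module.End k M) - 1 = A * A - A := by
          rw [Units.inv_eq_of_mul_eq_one_right (a := 1 - A + A * A) ?_]
          · abel
          · have ea : (a : Module.End k M) = 1 + A := by rw [hA]; abel
            rw [ea, show (1 + A) * (1 - A + A * A) = 1 + A * A * A by noncomm_ring, h3, add_zero]
        refine ⟨fun m => ?_, fun m hm => ?_, fun m hm => ?_⟩ <;> rw [e, LinearMap.sub_apply, Module.End.mul_apply]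
        · exact Submodule.sub_mem _ (h1.1 _) (h1.1 m)
        · exact Submodule.sub_mem _ (by rw [h1.2.2 _ (h1.2.1 m hm)]; exact Submodule.zero_mem _) (h1.2.1 m hm)
        · rw [h1.2.2 m hm, map_zero, sub_zero]
    refine ⟨sup_le sameActionSubgroup_le sameActionSubgroup_le hg,
      CfsgLib.RootSub.mem_normalizer_of_commute_all fun c hc => (hcent c hc g hg).symm, ?_, ?_, ?_⟩
    · intro m; rw [eL.1]; exact key.1 m
    · intro m hm; rw [eL.2]; exact key.2.1 m (eL.1 ▸ hm)
    · intro m hm; exact sub_eq_zero.mp (key.2.2 m (eL.2 ▸ hm))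

theorem not_opp_of_class_two (hk2 : ringChar k ≠ 2) (hk3 : Nat.card k ≠ 3)
    (hσ : σ ∈ Cfsg.minimalQuadraticElements G) (hτ : τ ∈ Cfsg.minimalQuadraticElements G)
    (h2 : ⁅⁅Cfsg.sameActionSubgroup G σ ⊔ Cfsg.sameActionSubgroup G τ,
      Cfsg.sameActionSubgroup G σ ⊔ Cfsg.sameActionSubgroup G τ⁆,
      Cfsg.sameActionSubgroup G σ ⊔ Cfsg.sameActionSubgroup G τ⁆ = ⊥) : ¬ Opp σ τ := fun h => by
  obtain ⟨D⟩ := oppData hk2 hk3 (mem_minimal_iff.mp hσ) (mem_minimal_iff.mp hτ) h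
  haveI := Fact.mk D.irr
  have hup : D.φ (Gen.up 1) ∈ Cfsg.sameActionSubgroup G σ ⊔ Cfsg.sameActionSubgroup G τ := by
    obtain ⟨q1, q2⟩ := D.map_up 1 one_ne_zero
    exact Subgroup.mem_sup_left (Subgroup.subset_closure (mem_sameActionClass_iff.mpr ⟨q2, q1⟩))
  have hlo : D.φ (Gen.lo 1) ∈ Cfsg.sameActionSubgroup G σ ⊔ Cfsg.sameActionSubgroup G τ := by
    obtain ⟨q1, q2⟩ := D.map_lo 1 one_ne_zero
    exact Subgroup.mem_sup_right (Subgroup.subset_closure (mem_sameActionClass_iff.mpr ⟨q2, q1⟩))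
  have hc := Subgroup.mem_centralizer_iff.mp (Subgroup.commutator_eq_bot_iff_le_centralizer.mp h2
    (Subgroup.commutator_mem_commutator hup hlo)) _ hup
  rw [commutatorElement_def, ← map_inv, ← map_inv, ← map_mul, ← map_mul, ← map_mul, ← map_mul, ← map_mul] at hc
  have := congrArg (fun g : Matrix.SpecialLinearGroup (Fin 2) (AdjoinRoot D.P) => g.1 0 0) (D.inj hc)
  simp [Gen.up_inv, Gen.lo_inv, Gen.mul_entry] at this

end CfsgLib.QP

namespace CfsgLib.QP

universe v

variable {k : Type v} [Field k] {M : Type v} [AddCommGroup M] [Module k M] [FiniteDimensional k M]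
variable {G : Subgroup (LinearMap.GeneralLinearGroup k M)} {σ τ : LinearMap.GeneralLinearGroup k M}

theorem comm_bot_of_normalizes (hk2 : ringChar k ≠ 2) (hk3 : Nat.card k ≠ 3)
    (hσ : σ ∈ Cfsg.minimalQuadraticElements G) (hτ : τ ∈ Cfsg.minimalQuadraticElements G) (h : ¬ Opp σ τ)
    {e : LinearMap.GeneralLinearGroup k M} (he : e ∈ Cfsg.sameActionSubgroup G σ) (he1 : e ≠ 1)
    (hn : e ∈ Subgroup.normalizer (Cfsg.sameActionSubgroup G τ : Set (LinearMap.GeneralLinearGroup k M))) :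
    ⁅Cfsg.sameActionSubgroup G σ, Cfsg.sameActionSubgroup G τ⁆ = ⊥ := by
  obtain ⟨a, ha, hsa, rfl⟩ := exists_mk_of_mem hσ he he1
  have hT := mem_minimal_iff.mp hτ
  set t := (τ : Module.End k M) - 1 with ht
  obtain ⟨h1, h2⟩ := class_mul hk2 hk3 hσ hτ h ha hT hsa (Same.refl t)
  refine comm_bot_of_commute hk2 hk3 hσ hτ h ha hT hsa (Same.refl t) ?_
  by_contra hne
  obtain ⟨hX, hXr, hXd, -, -, -⟩ := pair_spaces ha hT h1 h2 (sub_ne_zero.mpr hne)
  set x := a * t - t * a with hx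
  have hconj : conjE (mk a ha.1.sq) t = t + x := by
    have e : ((mk a ha.1.sq)⁻¹ : LinearMap.GeneralLinearGroup k M).1 = 1 - a := rfl
    rw [conjE, e, mk_val, hx]
    simp only [add_mul, mul_sub, one_mul, mul_one, h1]
    abel
  have hm := (Subgroup.mem_normalizer_iff.mp hn τ).mp (self_mem_sameActionSubgroup hτ)
  obtain ⟨-, hsame⟩ := ((mem_sameActionSubgroup_iff hτ).mp hm).resolve_left
    (fun e => ne_one_of_minimal hτ (conj_eq_one_iff.mp e))
  rw [conj_sub_one, hconj] at hsame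
  have hr : ∀ v, x v ∈ LinearMap.range t := fun v => by
    have := Submodule.sub_mem _ (hsame.2.le ⟨v, rfl⟩) (⟨v, rfl⟩ : t v ∈ LinearMap.range t)
    rwa [LinearMap.add_apply, add_sub_cancel_left] at this
  have hk : ∀ v, t v = 0 → x v = 0 := fun v hv => by
    have h0 : (t + x) v = 0 := LinearMap.mem_ker.mp (hsame.1.ge (LinearMap.mem_ker.mpr hv))
    rwa [LinearMap.add_apply, hv, zero_add] at h0
  have z1 : a * t = 0 := LinearMap.ext fun v => by
    refine Submodule.disjoint_def.mp hXd _ ⟨⟨_, rfl⟩, LinearMap.congr_fun h2 v⟩ ⟨?_, LinearMap.congr_fun ha.1.sq (t v)⟩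
    have e : (a * t) v = x v + (t * a) v := by rw [hx, LinearMap.sub_apply, sub_add_cancel]
    show (a * t) v ∈ LinearMap.range t
    rw [e]
    exact Submodule.add_mem _ (hr v) ⟨a v, rfl⟩
  have hxe : x = -(t * a) := by rw [hx, z1, zero_sub]
  obtain ⟨hst, -⟩ := hT.same_of_le hX.1 (fun u hu => hk u hu) (by rintro _ ⟨u, rfl⟩; exact hr u)
  refine hne (z1.trans (Eq.symm (LinearMap.ext fun w => ?_)))
  show a w ∈ LinearMap.ker t
  rw [← hst.1, LinearMap.mem_ker, hxe]
  show -(t (a (a w))) = 0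
  rw [show a (a w) = 0 from LinearMap.congr_fun ha.1.sq w, map_zero, neg_zero]

end CfsgLib.QP
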