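/-
Transfer of root subgroup notions to a subgroup containing the members.
-/
import Mathlib
import Cfsg.Agent.Lib.RootSub.RankOne

set_option autoImplicit false

namespace CfsgLib.QP.Sub

open Cfsg
open scoped commutatorElement

variable {G : Type*} [Group G] {X A B C : Subgroup G}

theorem map_subgroupOf (hA : A ≤ X) : (A.subgroupOf X).map X.subtype = A :=
  Subgroup.map_subgroupOf_eq_of_le hA

theorem subgroupOf_inj (hA : A ≤ X) (hB : B ≤ X) (h : A.subgroupOf X = B.subgroupOf X) : A = B := by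
  rw [← map_subgroupOf hA, h, map_subgroupOf hB]

theorem conjBy_subgroupOf (hA : A ≤ X) (g : X) :
    conjBy (A.subgroupOf X) g = (conjBy A (g : G)).subgroupOf X := by
  have hle : conjBy A (g : G) ≤ X := by
    rintro _ ⟨a, ha, rfl⟩; exact mul_mem (mul_mem g.2 (hA ha)) (inv_mem g.2)
  refine Subgroup.map_injective X.subtype_injective ?_
  rw [map_subgroupOf hle]
  show ((A.subgroupOf X).map _).map _ = A.map _
  rw [Subgroup.map_map]
  conv_rhs => rw [← map_subgroupOf hA, Subgroup.map_map]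
  rfl

theorem commutator_subgroupOf (hA : A ≤ X) (hB : B ≤ X) :
    ⁅A.subgroupOf X, B.subgroupOf X⁆ = (⁅A, B⁆ : Subgroup G).subgroupOf X := by
  have hle : ⁅A, B⁆ ≤ X := Subgroup.commutator_le.mpr fun a ha b hb => by
    rw [commutatorElement_def]
    exact mul_mem (mul_mem (mul_mem (hA ha) (hB hb)) (inv_mem (hA ha))) (inv_mem (hB hb))
  refine Subgroup.map_injective X.subtype_injective ?_
  rw [Subgroup.map_commutator, map_subgroupOf hA, map_subgroupOf hB, map_subgroupOf hle]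

theorem cond_subgroupOf (hA : A ≤ X) (hB : B ≤ X) (h : RankOneCondition A B) :
    RankOneCondition (A.subgroupOf X) (B.subgroupOf X) := by
  intro a ha ha1
  obtain ⟨b, hb, hb1, e⟩ := h a ha (fun e => ha1 (Subtype.ext e))
  refine ⟨⟨b, hB hb⟩, hb, fun e => hb1 (congrArg Subtype.val e), ?_⟩
  rw [conjBy_subgroupOf hA, conjBy_subgroupOf hB]
  exact congrArg (fun H : Subgroup G => H.subgroupOf X) e

theorem nilpotent_subgroupOf (hA : A ≤ X) (h : Group.IsNilpotent A) : Group.IsNilpotent (A.subgroupOf X) :=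
  Group.nilpotent_of_mulEquiv (Subgroup.subgroupOfEquivOfLe hA).symm

theorem isRankOnePair_subgroupOf (hA : A ≤ X) (hB : B ≤ X) (h : IsRankOnePair A B) :
    IsRankOnePair (A.subgroupOf X) (B.subgroupOf X) :=
  ⟨fun e => h.ne (subgroupOf_inj hA hB e), nilpotent_subgroupOf hA h.nilpotent_left,
    nilpotent_subgroupOf hB h.nilpotent_right, cond_subgroupOf hA hB h.cond_left, cond_subgroupOf hB hA h.cond_right⟩

theorem rcc_subgroupOf {S : Set (Subgroup G)} (hA : A ≤ X) (hB : B ≤ X) (h : RootCommutatorCase S A B) :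
    RootCommutatorCase ((fun H : Subgroup G => H.subgroupOf X) '' S) (A.subgroupOf X) (B.subgroupOf X) := by
  obtain ⟨h1, h2, h3, h4⟩ := h
  have hle : ⁅A, B⁆ ≤ X := Subgroup.commutator_le.mpr fun a ha b hb => by
    rw [commutatorElement_def]
    exact mul_mem (mul_mem (mul_mem (hA ha) (hB hb)) (inv_mem (hA ha))) (inv_mem (hB hb))
  rw [RootCommutatorCase, commutator_subgroupOf hA hB]
  refine ⟨⟨_, h1, rfl⟩, fun c hc x hx => ?_, fun a ha ha1 => ?_, fun b hb hb1 => ?_⟩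
  · refine Subtype.ext (h2 _ hc _ ?_)
    have : (x : G) ∈ (A.subgroupOf X ⊔ B.subgroupOf X).map X.subtype := ⟨x, hx, rfl⟩
    rwa [Subgroup.map_sup, map_subgroupOf hA, map_subgroupOf hB] at this
  · refine Subgroup.map_injective X.subtype_injective ?_
    rw [MonoidHom.map_closure, map_subgroupOf hle, ← h3 (a : G) ha (fun e => ha1 (Subtype.ext e))]
    congr 1
    ext y
    constructor
    · rintro ⟨_, ⟨b, hb, rfl⟩, rfl⟩; exact ⟨b, hb, rfl⟩
    · rintro ⟨b, hb, rfl⟩; exact ⟨_, ⟨⟨b, hB hb⟩, hb, rfl⟩, rfl⟩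
  · refine Subgroup.map_injective X.subtype_injective ?_
    rw [MonoidHom.map_closure, map_subgroupOf hle, ← h4 (b : G) hb (fun e => hb1 (Subtype.ext e))]
    congr 1
    ext y
    constructor
    · rintro ⟨_, ⟨a, ha, rfl⟩, rfl⟩; exact ⟨a, ha, rfl⟩
    · rintro ⟨a, ha, rfl⟩; exact ⟨_, ⟨⟨a, hA ha⟩, ha, rfl⟩, rfl⟩

theorem isRootSubgroupSet_subgroupOf {S : Set (Subgroup G)} (hX : X = ⨆ A ∈ S, A)
    (hc : ∀ A ∈ S, IsMulCommutative A) (hne : ∀ A ∈ S, A ≠ ⊥) (hconj : ∀ A ∈ S, ∀ g ∈ X, conjBy A g ∈ S)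
    (hpair : ∀ A ∈ S, ∀ B ∈ S, ⁅A, B⁆ = ⊥ ∨ IsRankOnePair A B ∨ RootCommutatorCase S A B) :
    IsRootSubgroupSet ((fun A : Subgroup G => A.subgroupOf X) '' S) := by
  have hle : ∀ A ∈ S, A ≤ X := fun A hA => hX ▸ le_iSup₂ (f := fun A (_ : A ∈ S) => A) A hA
  refine ⟨?_, ?_, ?_, ?_, ?_⟩
  · rintro _ ⟨A, hA, rfl⟩
    refine ⟨⟨fun a b => Subtype.ext (Subtype.ext ?_)⟩⟩
    exact (congrArg Subtype.val ((hc A hA).is_comm.comm ⟨a.1.1, a.2⟩ ⟨b.1.1, b.2⟩) :)
  · rintro _ ⟨A, hA, rfl⟩ e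
    refine hne A hA ?_
    rw [← map_subgroupOf (hle A hA)]
    simp only at e
    rw [e, Subgroup.map_bot]
  · refine Subgroup.map_injective X.subtype_injective ?_
    rw [iSup_image, Subgroup.map_iSup, ← MonoidHom.range_eq_map, Subgroup.range_subtype]
    conv_rhs => rw [hX]
    refine iSup_congr fun A => ?_
    rw [Subgroup.map_iSup]
    exact iSup_congr fun hA => map_subgroupOf (hle A hA)
  · rintro _ ⟨A, hA, rfl⟩ g
    exact ⟨_, hconj A hA g g.2, (conjBy_subgroupOf (hle A hA) g).symm⟩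
  · rintro _ ⟨A, hA, rfl⟩ _ ⟨B, hB, rfl⟩
    rcases hpair A hA B hB with h | h | h
    · left
      show ⁅A.subgroupOf X, B.subgroupOf X⁆ = ⊥
      rw [commutator_subgroupOf (hle A hA) (hle B hB), h]; simp
    · exact Or.inr (Or.inl (isRankOnePair_subgroupOf (hle A hA) (hle B hB) h))
    · exact Or.inr (Or.inr (rcc_subgroupOf (hle A hA) (hle B hB) h))

end CfsgLib.QP.Sub
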