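/-
The classes of minimal quadratic elements form a set of abstract root subgroups.
-/
import Mathlib
import Cfsg.Agent.Lib.RootSub.QP.Pairs
import Cfsg.Agent.Lib.RootSub.QP.Sub

set_option autoImplicit false

namespace CfsgLib.QP

open Cfsg
open scoped commutatorElement

universe u

variable {k : Type u} [Field k] {M : Type u} [AddCommGroup M] [Module k M] [FiniteDimensional k M]
variable {G : Subgroup (LinearMap.GeneralLinearGroup k M)} {σ τ : LinearMap.GeneralLinearGroup k M}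

theorem iSup_roots_le : (⨆ A ∈ quadraticRootSubgroups G, A) ≤ G :=
  iSup₂_le fun A ⟨σ, _, e⟩ => e ▸ sameActionSubgroup_le

theorem conjBy_mem_roots {A : Subgroup (LinearMap.GeneralLinearGroup k M)} (hA : A ∈ quadraticRootSubgroups G)
    {g : LinearMap.GeneralLinearGroup k M} (hg : g ∈ G) : conjBy A g ∈ quadraticRootSubgroups G := by
  obtain ⟨σ, hσ, rfl⟩ := hA
  exact ⟨_, conj_mem_minimal hσ hg, conjBy_sameActionSubgroup hg⟩

theorem trichotomy (hk2 : ringChar k ≠ 2) (hk3 : Nat.card k ≠ 3) (hG : NoFix G)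
    {A B : Subgroup (LinearMap.GeneralLinearGroup k M)} (hA : A ∈ quadraticRootSubgroups G)
    (hB : B ∈ quadraticRootSubgroups G) :
    ⁅A, B⁆ = ⊥ ∨ IsRankOnePair A B ∨ RootCommutatorCase (quadraticRootSubgroups G) A B := by
  obtain ⟨σ, hσ, rfl⟩ := hA
  obtain ⟨τ, hτ, rfl⟩ := hB
  by_cases hc : ⁅sameActionSubgroup G σ, sameActionSubgroup G τ⁆ = ⊥
  · exact Or.inl hc
  by_cases h : Opp σ τ
  · exact Or.inr (Or.inl (isSpecialRankOnePair hk2 hk3 hσ hτ h).1)
  obtain ⟨a, b, c, -, -, -, d⟩ := class_two hk2 hk3 hG hσ hτ h hc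
  exact Or.inr (Or.inr ⟨a, d, b, c⟩)

theorem isRootSubgroupSet_roots (hk2 : ringChar k ≠ 2) (hk3 : Nat.card k ≠ 3) (hG : NoFix G) :
    IsRootSubgroupSet ((fun A : Subgroup (LinearMap.GeneralLinearGroup k M) =>
      A.subgroupOf (⨆ B ∈ quadraticRootSubgroups G, B)) '' quadraticRootSubgroups G) :=
  Sub.isRootSubgroupSet_subgroupOf rfl (fun _ ⟨_, hσ, e⟩ => e ▸ commute_in_class hσ)
    (fun _ ⟨σ, hσ, e⟩ he => ne_one_of_minimal hσ (by
      have := self_mem_sameActionSubgroup hσ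
      rwa [← e, he, Subgroup.mem_bot] at this))
    (fun _ hA _ hg => conjBy_mem_roots hA (iSup_roots_le hg))
    (fun _ hA _ hB => trichotomy hk2 hk3 hG hA hB)

/-- Every class has an opposite. -/
theorem exists_opp (hk2 : ringChar k ≠ 2) (hk3 : Nat.card k ≠ 3) (hG : NoFix G)
    (hσ : σ ∈ minimalQuadraticElements G) : ∃ τ ∈ minimalQuadraticElements G, Opp σ τ := by
  obtain ⟨r, F⟩ := exists_frame hk2 hk3 hG (mem_minimal_iff.mp hσ)
  refine ⟨mk r F.right.1.sq, mem_minimal_iff.mpr (by rw [mk_sub_one]; exact F.right), ?_⟩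
  show ¬ IsNilpotent _
  rw [mk_sub_one]
  exact not_nilpotent_of_xrx F.left.1.sq F.left.1.ne F.xrx

theorem opp_of_rankOnePair (hk2 : ringChar k ≠ 2) (hk3 : Nat.card k ≠ 3) (hG : NoFix G)
    (hσ : σ ∈ minimalQuadraticElements G) (hτ : τ ∈ minimalQuadraticElements G)
    (h : IsRankOnePair (sameActionSubgroup G σ) (sameActionSubgroup G τ)) : Opp σ τ := by
  by_contra hn
  have h1 := self_mem_sameActionSubgroup hσ
  have h2 := self_mem_sameActionSubgroup hτ
  have hne : ⁅sameActionSubgroup G σ, sameActionSubgroup G τ⁆ ≠ ⊥ := fun e =>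
    CfsgLib.RootSub.not_commute h h1 (ne_one_of_minimal hσ) h2 (ne_one_of_minimal hτ)
      (CfsgLib.RootSub.commute_of_comm_eq_bot e h1 h2)
  obtain ⟨-, -, -, -, -, -, hcent⟩ := class_two hk2 hk3 hG hσ hτ hn hne
  obtain ⟨b, hb, -, he⟩ := h.cond_left σ h1 (ne_one_of_minimal hσ)
  -- `b⁻¹ σ b` and `σ⁻¹ τ σ` lie in one abelian member
  have m1 : b⁻¹ * σ * b⁻¹⁻¹ ∈ conjBy (sameActionSubgroup G σ) b⁻¹ := CfsgLib.RootSub.conjBy_mem h1
  have m2 : σ⁻¹ * τ * σ⁻¹⁻¹ ∈ conjBy (sameActionSubgroup G σ) b⁻¹ := he ▸ CfsgLib.RootSub.conjBy_mem h2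
  obtain ⟨p, hp, ep⟩ := m1
  obtain ⟨q, hq, eq⟩ := m2
  have hpq : p * q = q * p := commute_of (commute_in_class hσ) hp hq
  have hcomm : (b⁻¹ * σ * b) * (σ⁻¹ * τ * σ) = (σ⁻¹ * τ * σ) * (b⁻¹ * σ * b) := by
    rw [inv_inv] at ep eq
    rw [← ep, ← eq, ← map_mul, ← map_mul, hpq]
  set L := ⁅sameActionSubgroup G σ, sameActionSubgroup G τ⁆
  set c := σ * b * σ⁻¹ * b⁻¹ with hc
  set d := σ * τ * σ⁻¹ * τ⁻¹ with hd
  have hcL : c ∈ L := Subgroup.commutator_mem_commutator h1 hb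
  have hdL : d ∈ L := Subgroup.commutator_mem_commutator h1 h2
  have cσ : c * σ = σ * c := hcent c hcL σ (Subgroup.mem_sup_left h1)
  have cb : c * b = b * c := hcent c hcL b (Subgroup.mem_sup_right hb)
  have cτ : c * τ = τ * c := hcent c hcL τ (Subgroup.mem_sup_right h2)
  have dσ : d * σ = σ * d := hcent d hdL σ (Subgroup.mem_sup_left h1)
  have dτ : d * τ = τ * d := hcent d hdL τ (Subgroup.mem_sup_right h2)
  have e1 : b⁻¹ * σ * b = σ * c := by
    have e : σ * b = c * b * σ := by rw [hc]; group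
    rw [mul_assoc, e, cb, mul_assoc b, inv_mul_cancel_left, cσ]
  have e2 : σ⁻¹ * τ * σ = τ * d⁻¹ := by
    have e : σ * τ = d * τ * σ := by rw [hd]; group
    have e' : τ * σ = d⁻¹ * (σ * τ) := by rw [e, mul_assoc, inv_mul_cancel_left]
    have dσ' : d⁻¹ * σ = σ * d⁻¹ := ((show Commute d σ from dσ).inv_left).eq
    have dτ' : d⁻¹ * τ = τ * d⁻¹ := ((show Commute d τ from dτ).inv_left).eq
    rw [mul_assoc, e', ← mul_assoc d⁻¹, dσ', mul_assoc σ, inv_mul_cancel_left, dτ']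
  rw [e1, e2] at hcomm
  have dc : d⁻¹ * c = c * d⁻¹ :=
    ((show Commute d c from hcent d hdL c ((Subgroup.commutator_le.mpr fun a ha b hb => by
      rw [commutatorElement_def]
      exact mul_mem (mul_mem (mul_mem (Subgroup.mem_sup_left ha) (Subgroup.mem_sup_right hb))
        (inv_mem (Subgroup.mem_sup_left ha))) (inv_mem (Subgroup.mem_sup_right hb))) hcL)).inv_left).eq
  refine CfsgLib.RootSub.not_commute h h1 (ne_one_of_minimal hσ) h2 (ne_one_of_minimal hτ) ?_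
  have dσ' : d⁻¹ * σ = σ * d⁻¹ := ((show Commute d σ from dσ).inv_left).eq
  have l : σ * c * (τ * d⁻¹) = σ * τ * (c * d⁻¹) := by
    rw [mul_assoc σ c, ← mul_assoc c τ, cτ, mul_assoc τ c, mul_assoc σ τ]
  have r : τ * d⁻¹ * (σ * c) = τ * σ * (c * d⁻¹) := by
    rw [mul_assoc τ d⁻¹, ← mul_assoc d⁻¹ σ, dσ', mul_assoc σ d⁻¹, dc, mul_assoc τ σ]
  rw [l, r] at hcomm
  exact mul_right_cancel hcomm

/-- The group generated by an opposite pair contains a `PSL₂` pair. -/
theorem exists_psl2 (hk2 : ringChar k ≠ 2) (hk3 : Nat.card k ≠ 3)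
    (hσ : σ ∈ minimalQuadraticElements G) (hτ : τ ∈ minimalQuadraticElements G) (h : Opp σ τ) :
    ∃ A₀ B₀ : Subgroup (LinearMap.GeneralLinearGroup k M), A₀ ≤ sameActionSubgroup G σ ∧
      B₀ ≤ sameActionSubgroup G τ ∧ ∃ (k₁ : Type u) (_ : Field k₁), 3 < ENat.card k₁ ∧ IsPSL2PairOver k₁ A₀ B₀ := by
  obtain ⟨D⟩ := oppData hk2 hk3 (mem_minimal_iff.mp hσ) (mem_minimal_iff.mp hτ) h
  haveI := Fact.mk D.irr
  refine ⟨(upperUnipotentSL2 (AdjoinRoot D.P)).map D.φ, (lowerUnipotentSL2 (AdjoinRoot D.P)).map D.φ, ?_, ?_,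
    AdjoinRoot D.P, inferInstance, ?_, D.φ, ?_, ?_, rfl, rfl⟩
  · rw [upperUnipotentSL2, MonoidHom.map_closure, Subgroup.closure_le]
    rintro _ ⟨g, ⟨g10, g00, g11⟩, rfl⟩
    have e : g = Gen.up (g.1 0 1) := Gen.ext_entries (by simp [g00]) (by simp) (by simp [g10]) (by simp [g11])
    by_cases h0 : g.1 0 1 = 0
    · rw [e, h0, Gen.up_zero, map_one]; exact one_mem _
    rw [e]
    exact Subgroup.subset_closure (mem_sameActionClass_iff.mpr ⟨(D.map_up _ h0).2, (D.map_up _ h0).1⟩)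
  · rw [lowerUnipotentSL2, MonoidHom.map_closure, Subgroup.closure_le]
    rintro _ ⟨g, ⟨g01, g00, g11⟩, rfl⟩
    have e : g = Gen.lo (g.1 1 0) := Gen.ext_entries (by simp [g00]) (by simp [g01]) (by simp) (by simp [g11])
    by_cases h0 : g.1 1 0 = 0
    · rw [e, h0, Gen.lo_zero, map_one]; exact one_mem _
    rw [e]
    exact Subgroup.subset_closure (mem_sameActionClass_iff.mpr ⟨(D.map_lo _ h0).2, (D.map_lo _ h0).1⟩)
  · have hk : (3 : ℕ∞) < ENat.card k := by
      rcases finite_or_infinite k with hf | hf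
      · haveI := Fintype.ofFinite k
        rw [ENat.card_eq_coe_natCard]
        have h1 : 1 < Nat.card k := Finite.one_lt_card
        have h2 : Nat.card k ≠ 2 := fun e => hk2 (by
          have hc : (Fintype.card k : k) = 0 := Nat.cast_card_eq_zero k
          rw [← Nat.card_eq_fintype_card, e] at hc
          exact Ring.two_ne_zero.mtr (by exact_mod_cast hc))
        exact_mod_cast (by omega : 3 < Nat.card k)
      · rw [ENat.card_eq_top_of_infinite]; exact ENat.natCast_lt_top 3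
    exact hk.trans_le (ENat.card_le_card_of_injective (algebraMap k (AdjoinRoot D.P)).injective)
  · rw [← Subgroup.map_sup, MonoidHom.range_eq_map]
    congr 1
    rw [eq_comm, eq_top_iff]
    intro g _
    have hcoeff : D.P.coeff 0 ≠ 0 := D.coeff0
    have hg : g ∈ Gen.elem k (AdjoinRoot.root D.P) := by
      rw [Gen.elem_root_eq_top hk2 hk3 _ D.P rfl D.monic hcoeff]; exact Subgroup.mem_top _
    refine (Subgroup.closure_le _).mpr ?_ hg
    rintro _ (⟨c, rfl⟩ | ⟨c, rfl⟩)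
    · exact Subgroup.mem_sup_left (Subgroup.subset_closure ⟨by simp, by simp, by simp⟩)
    · exact Subgroup.mem_sup_right (Subgroup.subset_closure ⟨by simp, by simp, by simp⟩)
  · rw [(MonoidHom.ker_eq_bot_iff D.φ).mpr D.inj]; exact bot_le

end CfsgLib.QP
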