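/-
Semisimplicity: sums of minimal invariant subspaces, and normal subgroups.
-/
import Mathlib
import Cfsg.Agent.Lib.RootSub.QP.Surj

set_option autoImplicit false

namespace CfsgLib.QP

universe u

variable {k : Type u} [Field k] {M : Type*} [AddCommGroup M] [Module k M] [FiniteDimensional k M]

/-- Invariance of a subspace. -/
def Inv (H : Subgroup (LinearMap.GeneralLinearGroup k M)) (V : Submodule k M) : Prop :=
  ∀ g ∈ H, ∀ v ∈ V, (g : Module.End k M) v ∈ V

/-- A minimal invariant subspace. -/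
def MinInv (H : Subgroup (LinearMap.GeneralLinearGroup k M)) (V : Submodule k M) : Prop :=
  V ≠ ⊥ ∧ Inv H V ∧ ∀ W ≤ V, Inv H W → W ≠ ⊥ → W = V

/-- The space is a sum of minimal invariant subspaces. -/
def Semi (H : Subgroup (LinearMap.GeneralLinearGroup k M)) : Prop :=
  sSup {V : Submodule k M | MinInv H V} = ⊤

variable {H N : Subgroup (LinearMap.GeneralLinearGroup k M)}

theorem exists_minInv {V : Submodule k M} (hV : Inv H V) (h0 : V ≠ ⊥) : ∃ W ≤ V, MinInv H W := by
  obtain ⟨W, ⟨hWV, hW, hW0⟩, hmin⟩ := (IsWellFounded.wf (r := ((· < ·) : Submodule k M → Submodule k M → Prop))).has_min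
    {W | W ≤ V ∧ Inv H W ∧ W ≠ ⊥} ⟨V, le_rfl, hV, h0⟩
  refine ⟨W, hWV, hW0, hW, fun U hU hUi hU0 => ?_⟩
  by_contra hne
  exact hmin U ⟨hU.trans hWV, hUi, hU0⟩ (lt_of_le_of_ne hU hne)

theorem semi_of_irreducible (hG : Cfsg.IsIrreducibleFor H) : Semi H := by
  obtain ⟨m, hm⟩ := hG.1
  refine top_le_iff.mp (le_sSup ⟨fun e => hm ?_, fun _ _ _ _ => Submodule.mem_top, fun W _ hW hW0 =>
    (hG.2 W hW).resolve_left hW0⟩)
  exact (Submodule.mem_bot k).mp (e ▸ Submodule.mem_top)

omit [FiniteDimensional k M] in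
theorem inv_map {W : Submodule k M} (hN : ∀ g ∈ H, Cfsg.conjBy N g = N) (hW : Inv N W)
    {g : LinearMap.GeneralLinearGroup k M} (hg : g ∈ H) : Inv N (W.map (g : Module.End k M)) := by
  intro a ha _ ⟨v, hv, hv'⟩
  subst hv'
  rw [← hN g hg, CfsgLib.RootSub.conjBy_mem_iff] at ha
  refine ⟨((g⁻¹ * a * g : LinearMap.GeneralLinearGroup k M) : Module.End k M) v, hW _ ha v hv, ?_⟩
  show ((g : Module.End k M) * ((g⁻¹ * a * g : LinearMap.GeneralLinearGroup k M) : Module.End k M)) v = _
  rw [← Units.val_mul, show g * (g⁻¹ * a * g) = a * g by group]; rfl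

omit [FiniteDimensional k M] in
theorem map_inv_cancel (g : LinearMap.GeneralLinearGroup k M) (v : M) :
    (g⁻¹ : LinearMap.GeneralLinearGroup k M).1 ((g : Module.End k M) v) = v :=
  LinearMap.congr_fun g.inv_mul v

theorem minInv_map {W : Submodule k M} (hN : ∀ g ∈ H, Cfsg.conjBy N g = N) (hW : MinInv N W)
    {g : LinearMap.GeneralLinearGroup k M} (hg : g ∈ H) : MinInv N (W.map (g : Module.End k M)) := by
  refine ⟨fun e => hW.1 ?_, inv_map hN hW.2.1 hg, fun U hU hUi hU0 => ?_⟩
  · rw [eq_bot_iff]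
    intro v hv
    have : (g : Module.End k M) v ∈ W.map (g : Module.End k M) := Submodule.mem_map_of_mem hv
    rw [e, Submodule.mem_bot] at this
    rw [Submodule.mem_bot, ← map_inv_cancel g v, this, map_zero]
  · have hle : U.map (g⁻¹ : LinearMap.GeneralLinearGroup k M).1 ≤ W := by
      rintro _ ⟨u, hu, rfl⟩
      obtain ⟨v, hv, rfl⟩ := hU hu
      rw [map_inv_cancel]; exact hv
    have hne : U.map (g⁻¹ : LinearMap.GeneralLinearGroup k M).1 ≠ ⊥ := fun e => hU0 (by
      rw [eq_bot_iff]
      intro u hu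
      have : (g⁻¹ : LinearMap.GeneralLinearGroup k M).1 u ∈ U.map (g⁻¹ : LinearMap.GeneralLinearGroup k M).1 :=
        Submodule.mem_map_of_mem hu
      rw [e, Submodule.mem_bot] at this
      have h2 := congrArg (g : Module.End k M) this
      rw [map_zero] at h2
      exact (Submodule.mem_bot k).mpr ((LinearMap.congr_fun g.mul_inv u).symm.trans h2))
    have e := hW.2.2 _ hle (inv_map hN hUi (inv_mem hg)) hne
    rw [← e, ← Submodule.map_comp]
    refine Eq.trans ?_ (congrArg (fun f : Module.End k M => U.map f) g.mul_inv.symm)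
    exact (Submodule.map_id U).symm

/-- Clifford: a subgroup normalised by `H` inherits semisimplicity. -/
theorem semi_normal (hH : Semi H) (hNH : N ≤ H) (hN : ∀ g ∈ H, Cfsg.conjBy N g = N) : Semi N := by
  refine top_le_iff.mp (hH ▸ sSup_le fun V hV => ?_)
  obtain ⟨W, hWV, hW⟩ := exists_minInv (H := N) (fun g hg => hV.2.1 g (hNH hg)) hV.1
  set U := ⨆ g ∈ H, W.map (g : Module.End k M) with hU
  have hUV : U ≤ V := iSup₂_le fun g hg => by
    rintro _ ⟨v, hv, rfl⟩; exact hV.2.1 g hg v (hWV hv)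
  have hUi : Inv H U := fun a ha v hv => by
    have hle : U.map (a : Module.End k M) ≤ U := by
      rw [hU, Submodule.map_iSup]
      refine iSup_le fun g => ?_
      rw [Submodule.map_iSup]
      refine iSup_le fun hg => ?_
      rw [← Submodule.map_comp]
      exact le_iSup₂ (f := fun (g : LinearMap.GeneralLinearGroup k M) (_ : g ∈ H) => W.map (g : Module.End k M))
        (a * g) (mul_mem ha hg)
    exact hle (Submodule.mem_map_of_mem hv)
  have hU0 : U ≠ ⊥ := fun e => hW.1 (le_bot_iff.mp (e ▸ by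
    have h1 := le_iSup₂ (f := fun (g : LinearMap.GeneralLinearGroup k M) (_ : g ∈ H) => W.map (g : Module.End k M))
      1 (one_mem H)
    rwa [Units.val_one, Module.End.one_eq_id, Submodule.map_id] at h1))
  rw [← hV.2.2 U hUV hUi hU0]
  exact iSup₂_le fun g hg => le_sSup (minInv_map hN hW hg)

theorem fixed_ne_bot (hm : ∃ m : M, m ≠ 0) (hN : Cfsg.IsUnipotentOn N) {V : Submodule k M} (hV : V ≠ ⊥)
    (hVi : Inv N V) : V ⊓ Cfsg.fixedSubmodule N ≠ ⊥ := by
  obtain ⟨n, hn⟩ := hN
  simp only [bind_pure_comp, List.map_eq_map, List.map_map, Function.comp_def] at hn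
  obtain ⟨v, hv, hv0⟩ := (Submodule.ne_bot_iff V).mp hV
  classical
  have hex : ∃ n, ∀ l : List (LinearMap.GeneralLinearGroup k M), (∀ g ∈ l, g ∈ N) → l.length = n →
      ((l.map fun g : LinearMap.GeneralLinearGroup k M => (g : Module.End k M) - 1).prod) v = 0 :=
    ⟨n, fun l h1 h2 => by rw [hn l h1 h2]; rfl⟩
  obtain ⟨m, hm⟩ : ∃ m, Nat.find hex = m + 1 := by
    refine ⟨Nat.find hex - 1, ?_⟩
    have : Nat.find hex ≠ 0 := fun e => hv0 (by simpa using Nat.find_spec hex [] (by simp) (by simp [e]))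
    omega
  have hnot := Nat.find_min hex (m := m) (by omega)
  push Not at hnot
  obtain ⟨l, hl, hlen, hne⟩ := hnot
  intro e
  refine hne ((Submodule.mem_bot k).mp (e ▸ ⟨?_, ?_⟩))
  · clear hlen hne
    induction l with
    | nil => simpa using hv
    | cons a l ih =>
      have h1 := ih (fun g hg => hl g (List.mem_cons_of_mem a hg))
      rw [List.map_cons, List.prod_cons, Module.End.mul_apply, LinearMap.sub_apply, Module.End.one_apply]
      exact Submodule.sub_mem _ (hVi a (hl a List.mem_cons_self) _ h1) h1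
  · refine le_fixed (U := Submodule.span k {((l.map fun g : LinearMap.GeneralLinearGroup k M =>
      (g : Module.End k M) - 1).prod) v}) (fun g hg => ?_) (Submodule.mem_span_singleton_self _)
    rw [Submodule.span_singleton_le_iff_mem]
    have := Nat.find_spec hex (g :: l) (by simpa using ⟨hg, hl⟩) (by rw [List.length_cons, hlen, hm])
    rw [List.map_cons, List.prod_cons] at this
    exact this

/-- A unipotent subgroup normalised by a semisimple group is trivial. -/
theorem unipotent_eq_bot (hH : Semi H) (hNH : N ≤ H) (hN : ∀ g ∈ H, Cfsg.conjBy N g = N)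
    (hu : Cfsg.IsUnipotentOn N) : N = ⊥ := by
  rcases subsingleton_or_nontrivial M with hM | hM
  · rw [Subgroup.eq_bot_iff_forall]
    exact fun a _ => Units.ext (LinearMap.ext fun v => Subsingleton.elim _ _)
  have hall : (⊤ : Submodule k M) ≤ Cfsg.fixedSubmodule N := hH ▸ sSup_le fun V hV => by
    have hne := fixed_ne_bot (exists_ne (0 : M)) hu hV.1 (fun g hg => hV.2.1 g (hNH hg))
    have e := hV.2.2 _ inf_le_left (fun g hg w hw => ⟨hV.2.1 g hg w hw.1, fixed_invariant (hN g hg) hw.2⟩) hne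
    exact e ▸ inf_le_right
  rw [Subgroup.eq_bot_iff_forall]
  exact fun a ha => Units.ext (LinearMap.ext fun v => sub_eq_zero.mp (fixed_le_ker ha (hall (Submodule.mem_top (x := v)))))

end CfsgLib.QP
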