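/-
Components of the set of classes: they commute, are finitely many and generate quasisimple subgroups.
-/
import Mathlib
import Cfsg.Agent.Lib.RootSub.QP.RootSet
import Cfsg.Agent.Lib.RootSub.QP.Semi
import Cfsg.Agent.S5029
import Cfsg.Agent.S5031
import Cfsg.Agent.Lib.RootSub.SubClass

set_option autoImplicit false

namespace CfsgLib.QP

open Cfsg
open scoped commutatorElement

universe u

section General

variable {Γ : Type*} [Group Γ] {X A B : Subgroup Γ}

theorem Sub.isRankOnePair_of_subgroupOf (hA : A ≤ X) (hB : B ≤ X)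
    (h : IsRankOnePair (A.subgroupOf X) (B.subgroupOf X)) : IsRankOnePair A B := by
  have cond : ∀ {A B : Subgroup Γ}, A ≤ X → B ≤ X → RankOneCondition (A.subgroupOf X) (B.subgroupOf X) →
      RankOneCondition A B := by
    intro A B hA hB h a ha ha1
    obtain ⟨b, hb, hb1, e⟩ := h ⟨a, hA ha⟩ ha (fun e => ha1 (congrArg Subtype.val e))
    refine ⟨b, hb, fun e1 => hb1 (Subtype.ext e1), ?_⟩
    rw [Sub.conjBy_subgroupOf hA, Sub.conjBy_subgroupOf hB] at e
    refine Sub.subgroupOf_inj ?_ ?_ e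
    · rintro _ ⟨x, hx, rfl⟩; exact mul_mem (mul_mem (inv_mem b.2) (hA hx)) (inv_mem (inv_mem b.2))
    · rintro _ ⟨x, hx, rfl⟩; exact mul_mem (mul_mem (inv_mem (hA ha)) (hB hx)) (inv_mem (inv_mem (hA ha)))
  haveI := h.nilpotent_left
  haveI := h.nilpotent_right
  exact ⟨fun e => h.ne (by rw [e]), Group.nilpotent_of_mulEquiv (Subgroup.subgroupOfEquivOfLe hA),
    Group.nilpotent_of_mulEquiv (Subgroup.subgroupOfEquivOfLe hB), cond hA hB h.cond_left, cond hB hA h.cond_right⟩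

theorem isQuasisimple_of (hperf : X ≤ ⁅X, X⁆) (hne : ∃ a ∈ X, ∃ b ∈ X, a * b ≠ b * a)
    (h : ∀ N ≤ X, (∀ g ∈ X, conjBy N g = N) → N = X ∨ ∀ n ∈ N, ∀ g ∈ X, n * g = g * n) :
    IsQuasisimple ↥X := by
  constructor
  · refine ⟨?_⟩
    refine Subgroup.map_injective X.subtype_injective ?_
    rw [← MonoidHom.range_eq_map, Subgroup.range_subtype, commutator_def, Subgroup.map_commutator,
      ← MonoidHom.range_eq_map, Subgroup.range_subtype]
    exact le_antisymm (Subgroup.commutator_le.mpr fun a ha b hb => by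
      rw [commutatorElement_def]
      exact mul_mem (mul_mem (mul_mem ha hb) (inv_mem ha)) (inv_mem hb)) hperf
  · haveI : Nontrivial (↥X ⧸ Subgroup.center ↥X) := by
      obtain ⟨a, ha, b, hb, hab⟩ := hne
      refine ⟨⟨((⟨a, ha⟩ : ↥X) : ↥X ⧸ Subgroup.center ↥X), 1, fun e => hab ?_⟩⟩
      have := Subgroup.mem_center_iff.mp ((QuotientGroup.eq_one_iff _).mp e) ⟨b, hb⟩
      exact (congrArg Subtype.val this).symm
    refine ⟨fun Q hQ => ?_⟩
    set N := (Q.comap (QuotientGroup.mk' (Subgroup.center ↥X))).map X.subtype with hN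
    have hNX : N ≤ X := by rintro _ ⟨a, -, rfl⟩; exact a.2
    have hnorm : ∀ g ∈ X, conjBy N g = N := by
      have key : ∀ g ∈ X, ∀ x ∈ N, g * x * g⁻¹ ∈ N := by
        rintro g hg _ ⟨a, ha, rfl⟩
        exact ⟨⟨g, hg⟩ * a * ⟨g, hg⟩⁻¹, (hQ.comap (QuotientGroup.mk' (Subgroup.center ↥X))).conj_mem a ha _, rfl⟩
      intro g hg
      refine le_antisymm ?_ fun x hx => ?_
      · rintro _ ⟨x, hx, rfl⟩; exact key g hg x hx
      · rw [CfsgLib.RootSub.conjBy_mem_iff]
        simpa using key g⁻¹ (inv_mem hg) x hx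
    rcases h N hNX hnorm with e | e
    · right
      rw [eq_top_iff]
      intro q _
      obtain ⟨a, rfl⟩ := QuotientGroup.mk'_surjective _ q
      obtain ⟨a', ha', e'⟩ := (e.ge : X ≤ N) a.2
      rw [show a = a' from Subtype.ext e'.symm]
      exact ha'
    · left
      rw [eq_bot_iff]
      intro q hq
      obtain ⟨a, rfl⟩ := QuotientGroup.mk'_surjective _ q
      rw [Subgroup.mem_bot]
      refine (QuotientGroup.eq_one_iff a).mpr (Subgroup.mem_center_iff.mpr fun g => Subtype.ext ?_)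
      exact (e _ ⟨a, hq, rfl⟩ g g.2).symm

end General

variable {k : Type u} [Field k] {M : Type u} [AddCommGroup M] [Module k M] [FiniteDimensional k M]
variable {G : Subgroup (LinearMap.GeneralLinearGroup k M)}

local notation "GL'" => LinearMap.GeneralLinearGroup k M

variable (G) in
/-- The component of a class. -/
def Comp (A : Subgroup GL') : Set (Subgroup GL') :=
  componentOf (FAdj (quadraticRootSubgroups G)) (quadraticRootSubgroups G) A

variable (G) in
/-- The group generated by a component. -/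
def CompGroup (A : Subgroup GL') : Subgroup GL' := ⨆ B ∈ Comp G A, B

theorem self_mem_comp {A : Subgroup GL'} (hA : A ∈ quadraticRootSubgroups G) : A ∈ Comp G A :=
  ⟨hA, Relation.ReflTransGen.refl⟩

theorem comp_symm {A B : Subgroup GL'} (hA : A ∈ quadraticRootSubgroups G) (hB : B ∈ Comp G A) : A ∈ Comp G B := by
  have hs : ∀ {X Y}, FAdj (quadraticRootSubgroups G) X Y → FAdj (quadraticRootSubgroups G) Y X :=
    fun ⟨h1, h2, h3⟩ => ⟨h2, h1, RankOnePair_symm h3⟩
  refine ⟨hA, ?_⟩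
  have h := hB.2
  induction h with
  | refl => exact Relation.ReflTransGen.refl
  | @tail b c hb hbc ih => exact (ih ⟨hbc.1, hb⟩).head (hs hbc)

theorem comp_eq {A B : Subgroup GL'} (hA : A ∈ quadraticRootSubgroups G) (hB : B ∈ Comp G A) : Comp G B = Comp G A :=
  Set.ext fun _ => ⟨fun h => ⟨h.1, hB.2.trans h.2⟩, fun h => ⟨h.1, (comp_symm hA hB).2.trans h.2⟩⟩

theorem compGroup_eq {A B : Subgroup GL'} (hA : A ∈ quadraticRootSubgroups G) (hB : B ∈ Comp G A) :
    CompGroup G B = CompGroup G A := by rw [CompGroup, CompGroup, comp_eq hA hB]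

theorem le_compGroup {A B : Subgroup GL'} (hB : B ∈ Comp G A) : B ≤ CompGroup G A :=
  le_iSup₂ (f := fun B (_ : B ∈ Comp G A) => B) B hB

theorem compGroup_le {A : Subgroup GL'} : CompGroup G A ≤ G :=
  iSup₂_le fun B hB => by obtain ⟨σ, -, rfl⟩ := hB.1; exact sameActionSubgroup_le

theorem mem_comp_of_rankOne {A B : Subgroup GL'} (hA : A ∈ quadraticRootSubgroups G)
    (hB : B ∈ quadraticRootSubgroups G) (h : IsRankOnePair A B) : B ∈ Comp G A :=
  ⟨hB, Relation.ReflTransGen.single ⟨hA, hB, h⟩⟩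

theorem mem_comp_of_opp (hk2 : ringChar k ≠ 2) (hk3 : Nat.card k ≠ 3) {σ τ : GL'}
    (hσ : σ ∈ minimalQuadraticElements G) (hτ : τ ∈ minimalQuadraticElements G) (h : Opp σ τ) :
    sameActionSubgroup G τ ∈ Comp G (sameActionSubgroup G σ) :=
  mem_comp_of_rankOne ⟨σ, hσ, rfl⟩ ⟨τ, hτ, rfl⟩ (isSpecialRankOnePair hk2 hk3 hσ hτ h).1

theorem conjBy_mem_comp {A B : Subgroup GL'} {g : GL'} (hg : g ∈ G) (hB : B ∈ Comp G A) :
    conjBy B g ∈ Comp G (conjBy A g) :=
  ⟨conjBy_mem_roots hB.1 hg, hB.2.lift (fun A => conjBy A g) fun X Y ⟨h1, h2, h3⟩ =>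
    ⟨conjBy_mem_roots h1 hg, conjBy_mem_roots h2 hg, CfsgLib.RootSub.isRankOnePair_conjBy h3 g⟩⟩

theorem mem_comp_of_rcc (hk2 : ringChar k ≠ 2) (hk3 : Nat.card k ≠ 3) (hN : NoFix G) {A B : Subgroup GL'}
    (hA : A ∈ quadraticRootSubgroups G) (hB : B ∈ quadraticRootSubgroups G)
    (h : RootCommutatorCase (quadraticRootSubgroups G) A B) : ⁅A, B⁆ ∈ Comp G A := by
  set X := ⨆ B ∈ quadraticRootSubgroups G, B with hX
  set S' := (fun A : Subgroup GL' => A.subgroupOf X) '' quadraticRootSubgroups G with hS'def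
  have hS := isRootSubgroupSet_roots hk2 hk3 hN (G := G)
  have hle : ∀ {A}, A ∈ quadraticRootSubgroups G → A ≤ X := fun {A} hA =>
    le_iSup₂ (f := fun A (_ : A ∈ quadraticRootSubgroups G) => A) A hA
  have hpartner : ∀ {A}, A ∈ quadraticRootSubgroups G →
      ∃ P ∈ quadraticRootSubgroups G, IsRankOnePair A P := by
    rintro _ ⟨σ, hσ, rfl⟩
    obtain ⟨τ, hτ, ho⟩ := exists_opp hk2 hk3 hN hσ
    exact ⟨_, ⟨τ, hτ, rfl⟩, (isSpecialRankOnePair hk2 hk3 hσ hτ ho).1⟩
  have hiso : ∀ {A}, A ∈ quadraticRootSubgroups G → ¬ IsIsolatedIn (FAdj S') S' (A.subgroupOf X) := by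
    intro A hA
    obtain ⟨P, hP, hp⟩ := hpartner hA
    exact CfsgLib.RootSub.not_isolated ⟨A, hA, rfl⟩ ⟨P, hP, rfl⟩ (Sub.isRankOnePair_subgroupOf (hle hA) (hle hP) hp)
  have hC := h.1
  have hC' : ⁅A.subgroupOf X, B.subgroupOf X⁆ ∈ S' := by
    rw [Sub.commutator_subgroupOf (hle hA) (hle hB)]; exact ⟨_, hC, rfl⟩
  have hline : A.subgroupOf X ∈ linePartners S' ⁅A.subgroupOf X, B.subgroupOf X⁆ :=
    (Cfsg.Agent.S5029.result hS (hiso hA) ⟨A, hA, rfl⟩ ⟨B, hB, rfl⟩ hC').2.2.1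
  have hline' := CfsgLib.RootSub.SubClass.line_symm hC' hline
  rw [Sub.commutator_subgroupOf (hle hA) (hle hB)] at hline'
  have htwo : ∀ {A}, A ∈ quadraticRootSubgroups G →
      ∃ A' ∈ componentOf (FAdj S') S' (A.subgroupOf X), A' ≠ A.subgroupOf X := by
    intro A hA
    obtain ⟨P, hP, hp⟩ := hpartner hA
    have hp' := Sub.isRankOnePair_subgroupOf (hle hA) (hle hP) hp
    exact ⟨_, ⟨⟨P, hP, rfl⟩, Relation.ReflTransGen.single ⟨⟨A, hA, rfl⟩, ⟨P, hP, rfl⟩, hp'⟩⟩, hp'.ne.symm⟩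
  have lift : ∀ {P Q'}, P ∈ quadraticRootSubgroups G → Relation.ReflTransGen (FAdj S') (P.subgroupOf X) Q' →
      ∃ Q ∈ Comp G P, Q.subgroupOf X = Q' := by
    intro P Q' hP hpath
    induction hpath with
    | refl => exact ⟨P, self_mem_comp hP, rfl⟩
    | @tail b c hb hbc ih =>
      obtain ⟨Q, hQ, rfl⟩ := ih
      obtain ⟨-, ⟨R, hR, rfl⟩, hr⟩ := hbc
      exact ⟨R, ⟨hR, hQ.2.tail ⟨hQ.1, hR, Sub.isRankOnePair_of_subgroupOf (hle hQ.1) (hle hR) hr⟩⟩, rfl⟩
  by_contra hne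
  refine Cfsg.Agent.S5031.result hS ⟨A, hA, rfl⟩ ⟨_, hC, rfl⟩ (fun e => hne ?_) (htwo hA) (htwo hC) hline'
  have hmem : (⁅A, B⁆ : Subgroup GL').subgroupOf X ∈ componentOf (FAdj S') S' (A.subgroupOf X) :=
    e ▸ ⟨⟨_, hC, rfl⟩, Relation.ReflTransGen.refl⟩
  obtain ⟨Q, hQ, hQe⟩ := lift hA hmem.2
  rwa [Sub.subgroupOf_inj (hle hQ.1) (hle hC) hQe] at hQ

/-- Members of different components commute. -/
theorem comm_bot_of_not_mem (hk2 : ringChar k ≠ 2) (hk3 : Nat.card k ≠ 3) (hN : NoFix G) {A B : Subgroup GL'}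
    (hA : A ∈ quadraticRootSubgroups G) (hB : B ∈ quadraticRootSubgroups G) (h : B ∉ Comp G A) : ⁅A, B⁆ = ⊥ := by
  rcases trichotomy hk2 hk3 hN hA hB with e | e | e
  · exact e
  · exact absurd (mem_comp_of_rankOne hA hB e) h
  · have h1 := mem_comp_of_rcc hk2 hk3 hN hA hB e
    have h2 := mem_comp_of_rcc hk2 hk3 hN hB hA (CfsgLib.RootSub.rcc_symm e)
    rw [Subgroup.commutator_comm] at h2
    exact absurd (comp_eq hA h1 ▸ comp_symm hB h2) h

theorem compGroup_commute (hk2 : ringChar k ≠ 2) (hk3 : Nat.card k ≠ 3) (hN : NoFix G) {A B : Subgroup GL'}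
    (hA : A ∈ quadraticRootSubgroups G) (hB : B ∈ quadraticRootSubgroups G) (h : Comp G A ≠ Comp G B) :
    ⁅CompGroup G A, CompGroup G B⁆ = ⊥ := by
  have key : ∀ P ∈ Comp G A, ∀ Q ∈ Comp G B, ⁅P, Q⁆ = ⊥ := fun P hP Q hQ =>
    comm_bot_of_not_mem hk2 hk3 hN hP.1 hQ.1 fun hQP => h (by
      rw [← comp_eq hA hP, ← comp_eq hB hQ, comp_eq hP.1 hQP])
  rw [Subgroup.commutator_eq_bot_iff_le_centralizer]
  refine iSup₂_le fun P hP => ?_
  rw [← Subgroup.commutator_eq_bot_iff_le_centralizer, Subgroup.commutator_comm,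
    Subgroup.commutator_eq_bot_iff_le_centralizer]
  refine iSup₂_le fun Q hQ => ?_
  rw [← Subgroup.commutator_eq_bot_iff_le_centralizer, Subgroup.commutator_comm]
  exact key P hP Q hQ

theorem commute_of_mem (hk2 : ringChar k ≠ 2) (hk3 : Nat.card k ≠ 3) (hN : NoFix G) {A B : Subgroup GL'}
    (hA : A ∈ quadraticRootSubgroups G) (hB : B ∈ quadraticRootSubgroups G) (h : Comp G A ≠ Comp G B) {a b : GL'}
    (ha : a ∈ CompGroup G A) (hb : b ∈ CompGroup G B) : a * b = b * a :=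
  CfsgLib.RootSub.commute_of_comm_eq_bot (compGroup_commute hk2 hk3 hN hA hB h) ha hb

omit [FiniteDimensional k M] in
theorem iSup_closed (P : GL' → Prop) (T : Set (Subgroup GL')) (h1 : P 1) (hm : ∀ a b, P a → P b → P (a * b))
    (hT : ∀ B ∈ T, ∀ b ∈ B, P b) {g : GL'} (hg : g ∈ ⨆ B ∈ T, B) : P g := by
  refine Subgroup.iSup_induction (fun B : Subgroup GL' => ⨆ _ : B ∈ T, B) (C := P) hg (fun B b hb => ?_) h1 hm
  by_cases hB : B ∈ T
  · rw [iSup_pos hB] at hb; exact hT B hB b hb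
  · rw [iSup_neg hB, Subgroup.mem_bot] at hb; exact hb ▸ h1

theorem conj_fix_comp {A : Subgroup GL'} (hA : A ∈ quadraticRootSubgroups G) {g : GL'} (hg : g ∈ CompGroup G A) :
    g ∈ G ∧ conjBy A g ∈ Comp G A := by
  refine iSup_closed (fun g => g ∈ G ∧ conjBy A g ∈ Comp G A) _ ⟨one_mem _, ?_⟩ ?_ ?_ hg
  · rw [CfsgLib.RootSub.conjBy_one]; exact self_mem_comp hA
  · rintro a b ⟨ha, h1⟩ ⟨hb, h2⟩
    refine ⟨mul_mem ha hb, ?_⟩
    have := conjBy_mem_comp ha h2
    rw [comp_eq hA h1, CfsgLib.RootSub.conjBy_conjBy] at this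
    exact this
  · intro B hB b hb
    have hbG : b ∈ G := compGroup_le (le_compGroup hB hb)
    refine ⟨hbG, ?_⟩
    have := conjBy_mem_comp hbG (comp_symm hA hB)
    rw [CfsgLib.RootSub.conjBy_self hb] at this
    rwa [comp_eq hA hB] at this

theorem conj_mem_comp {A B : Subgroup GL'} (hA : A ∈ quadraticRootSubgroups G) (hB : B ∈ Comp G A) {g : GL'}
    (hg : g ∈ CompGroup G A) : conjBy B g ∈ Comp G A := by
  have h := conj_fix_comp hB.1 ((compGroup_eq hA hB).symm ▸ hg)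
  rw [comp_eq hA hB] at h
  exact h.2

theorem isRootSubgroupClass_comp (hk2 : ringChar k ≠ 2) (hk3 : Nat.card k ≠ 3) (hN : NoFix G) {A : Subgroup GL'}
    (hA : A ∈ quadraticRootSubgroups G) :
    IsRootSubgroupClass ((fun B : Subgroup GL' => B.subgroupOf (CompGroup G A)) '' Comp G A) := by
  constructor
  · refine Sub.isRootSubgroupSet_subgroupOf rfl (fun B hB => ?_) (fun B hB => ?_)
      (fun B hB g hg => conj_mem_comp hA hB hg) (fun B hB C hC => ?_)
    · obtain ⟨σ, hσ, rfl⟩ := hB.1; exact commute_in_class hσ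
    · obtain ⟨σ, hσ, rfl⟩ := hB.1
      exact fun e => ne_one_of_minimal hσ (by
        have := self_mem_sameActionSubgroup hσ; rwa [e, Subgroup.mem_bot] at this)
    · rcases trichotomy hk2 hk3 hN hB.1 hC.1 with e | e | e
      · exact Or.inl e
      · exact Or.inr (Or.inl e)
      · refine Or.inr (Or.inr ⟨?_, e.2⟩)
        exact comp_eq hA hB ▸ mem_comp_of_rcc hk2 hk3 hN hB.1 hC.1 e
  · refine ⟨⟨_, A, self_mem_comp hA, rfl⟩, ?_⟩
    rintro _ ⟨B, hB, rfl⟩ _ ⟨C, hC, rfl⟩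
    have hpath : Relation.ReflTransGen (FAdj (quadraticRootSubgroups G)) B C := (comp_eq hA hB ▸ hC : C ∈ Comp G B).2
    obtain ⟨g, hg, e⟩ : ∃ g ∈ CompGroup G A, C = conjBy B g := by
      clear hC
      induction hpath with
      | refl => exact ⟨1, one_mem _, CfsgLib.RootSub.conjBy_one.symm⟩
      | @tail P Q hP hPQ ih =>
        obtain ⟨g, hg, e⟩ := ih
        obtain ⟨hPm, hQ, hr⟩ := hPQ
        have hPc : P ∈ Comp G A := comp_eq hA hB ▸ ⟨hPm, hP⟩
        have hQc : Q ∈ Comp G A := comp_eq hA hPc ▸ mem_comp_of_rankOne hPm hQ hr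
        obtain ⟨a, ha, ha1⟩ : ∃ a ∈ P, a ≠ 1 := by
          obtain ⟨σ, hσ, rfl⟩ := hPm
          exact ⟨σ, self_mem_sameActionSubgroup hσ, ne_one_of_minimal hσ⟩
        obtain ⟨b, hb, -, hab⟩ := hr.cond_left a ha ha1
        refine ⟨a * b⁻¹ * g, mul_mem (mul_mem (le_compGroup hPc ha) (inv_mem (le_compGroup hQc hb))) hg, ?_⟩
        rw [← CfsgLib.RootSub.conjBy_conjBy g (a * b⁻¹), ← e, ← CfsgLib.RootSub.conjBy_conjBy b⁻¹ a, hab,
          CfsgLib.RootSub.conjBy_conjBy, mul_inv_cancel, CfsgLib.RootSub.conjBy_one]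
    refine ⟨⟨g, hg⟩, ?_⟩
    rw [Sub.conjBy_subgroupOf (le_compGroup hB)]
    exact congrArg (fun H : Subgroup GL' => H.subgroupOf (CompGroup G A)) e

theorem mem_commutator_of_opp (hk2 : ringChar k ≠ 2) (hk3 : Nat.card k ≠ 3) {σ τ : GL'}
    (hσ : σ ∈ minimalQuadraticElements G) (hτ : τ ∈ minimalQuadraticElements G) (h : Opp σ τ) {e : GL'}
    (he : e ∈ sameActionSubgroup G σ) :
    e ∈ ⁅sameActionSubgroup G σ ⊔ sameActionSubgroup G τ, sameActionSubgroup G σ ⊔ sameActionSubgroup G τ⁆ := by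
  by_cases he1 : e = 1
  · rw [he1]; exact one_mem _
  obtain ⟨hem, -, hse, -, hopp⟩ := opp_of_mem hk2 hk3 hσ hτ h he he1 (self_mem_sameActionSubgroup hτ)
    (ne_one_of_minimal hτ)
  obtain ⟨D⟩ := oppData hk2 hk3 (mem_minimal_iff.mp hem) (mem_minimal_iff.mp hτ) hopp
  have hrange : ∀ g, D.φ g ∈ sameActionSubgroup G σ ⊔ sameActionSubgroup G τ := by
    intro g
    have h1 : D.φ g ∈ D.φ.range := ⟨g, rfl⟩
    rw [D.range_eq] at h1
    refine (Subgroup.closure_le _).mpr ?_ h1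
    rw [← scalarFamily_eq e (mem_minimal_iff.mp hem).1.sq, ← scalarFamily_eq τ (mem_minimal_iff.mp hτ).1.sq]
    refine Set.union_subset (fun x hx => Subgroup.mem_sup_left ?_)
      (fun x hx => Subgroup.mem_sup_right (scalarFamily_subset hτ hx))
    rw [sameActionSubgroup_eq hse]
    exact scalarFamily_subset hem hx
  obtain ⟨t, ht, ht2⟩ := exists_scalar hk2 hk3
  have ht' : algebraMap k (AdjoinRoot D.P) t * algebraMap k (AdjoinRoot D.P) t⁻¹ = 1 := by
    rw [← map_mul, mul_inv_cancel₀ ht, map_one]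
  set r := algebraMap k (AdjoinRoot D.P) (t ^ 2 - 1)⁻¹
  have hr : r * (algebraMap k (AdjoinRoot D.P) t ^ 2 - 1) = 1 := by
    rw [← map_one (algebraMap k (AdjoinRoot D.P)), ← map_pow, ← map_sub, ← map_mul,
      inv_mul_cancel₀ (sub_ne_zero.mpr ht2)]
  have e1 : ⁅Gen.diag _ _ ht', Gen.up r⁆ = Gen.up 1 := by
    obtain ⟨c01, c10, c00, c11⟩ := Gen.conj_up (Gen.diag _ _ ht') r
    rw [commutatorElement_def, Gen.up_inv]
    apply Gen.ext_entries <;> rw [Gen.mul_entry] <;> simp [c01, c10, c00, c11]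
    all_goals simp only [AdjoinRoot.algebraMap_eq] at hr ht'
    · linear_combination ht'
    · linear_combination hr - r * ht'
    · linear_combination ht'
  have e2 := congrArg D.φ e1
  rw [commutatorElement_def, map_mul, map_mul, map_mul, map_inv, map_inv, D.map_up_one] at e2
  rw [eq_mk_of_sub_one e (mem_minimal_iff.mp hem).1.sq, ← e2]
  exact Subgroup.commutator_mem_commutator (hrange _) (hrange _)

theorem compGroup_perfect (hk2 : ringChar k ≠ 2) (hk3 : Nat.card k ≠ 3) (hN : NoFix G) {A : Subgroup GL'}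
    (hA : A ∈ quadraticRootSubgroups G) : CompGroup G A ≤ ⁅CompGroup G A, CompGroup G A⁆ := by
  refine iSup₂_le fun B hB => ?_
  obtain ⟨σ, hσ, rfl⟩ := hB.1
  obtain ⟨τ, hτ, ho⟩ := exists_opp hk2 hk3 hN hσ
  intro e he
  have hle : sameActionSubgroup G σ ⊔ sameActionSubgroup G τ ≤ CompGroup G A :=
    sup_le (le_compGroup hB) (compGroup_eq hA hB ▸ le_compGroup (mem_comp_of_opp hk2 hk3 hσ hτ ho))
  exact Subgroup.commutator_mono hle hle (mem_commutator_of_opp hk2 hk3 hσ hτ ho he)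

theorem compGroup_ne_comm (hk2 : ringChar k ≠ 2) (hk3 : Nat.card k ≠ 3) (hN : NoFix G) {A : Subgroup GL'}
    (hA : A ∈ quadraticRootSubgroups G) : ∃ a ∈ CompGroup G A, ∃ b ∈ CompGroup G A, a * b ≠ b * a := by
  obtain ⟨σ, hσ, rfl⟩ := hA
  obtain ⟨τ, hτ, ho⟩ := exists_opp hk2 hk3 hN hσ
  exact ⟨σ, le_compGroup (self_mem_comp ⟨σ, hσ, rfl⟩) (self_mem_sameActionSubgroup hσ), τ,
    le_compGroup (mem_comp_of_opp hk2 hk3 hσ hτ ho) (self_mem_sameActionSubgroup hτ),
    CfsgLib.RootSub.not_commute (isSpecialRankOnePair hk2 hk3 hσ hτ ho).1 (self_mem_sameActionSubgroup hσ)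
      (ne_one_of_minimal hσ) (self_mem_sameActionSubgroup hτ) (ne_one_of_minimal hτ)⟩

theorem conjBy_compGroup_self {A : Subgroup GL'} (hA : A ∈ quadraticRootSubgroups G) {g : GL'}
    (hg : g ∈ CompGroup G A) : conjBy (CompGroup G A) g = CompGroup G A := CfsgLib.RootSub.conjBy_self hg

theorem conjBy_roots_sup {g : GL'} (hg : g ∈ G) :
    conjBy (⨆ A ∈ quadraticRootSubgroups G, A) g = ⨆ A ∈ quadraticRootSubgroups G, A := by
  have hle : ∀ g ∈ G, conjBy (⨆ A ∈ quadraticRootSubgroups G, A) g ≤ ⨆ A ∈ quadraticRootSubgroups G, A := by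
    intro g hg
    rw [conjBy, Subgroup.map_iSup]
    refine iSup_le fun A => ?_
    rw [Subgroup.map_iSup]
    exact iSup_le fun hA =>
      le_iSup₂ (f := fun A (_ : A ∈ quadraticRootSubgroups G) => A) (conjBy A g) (conjBy_mem_roots hA hg)
  refine le_antisymm (hle g hg) fun x hx => ?_
  rw [CfsgLib.RootSub.conjBy_mem_iff]
  refine hle g⁻¹ (inv_mem hg) ?_
  rw [CfsgLib.RootSub.conjBy_mem_iff]
  simpa [mul_assoc] using hx

theorem compGroup_normal_in_sup (hk2 : ringChar k ≠ 2) (hk3 : Nat.card k ≠ 3) (hN : NoFix G) {A : Subgroup GL'}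
    (hA : A ∈ quadraticRootSubgroups G) {g : GL'} (hg : g ∈ ⨆ B ∈ quadraticRootSubgroups G, B) :
    conjBy (CompGroup G A) g = CompGroup G A := by
  refine iSup_closed (fun g => conjBy (CompGroup G A) g = CompGroup G A) _ CfsgLib.RootSub.conjBy_one ?_ ?_ hg
  · intro a b ha hb
    rw [← CfsgLib.RootSub.conjBy_conjBy, hb, ha]
  · intro B hB b hb
    by_cases h : B ∈ Comp G A
    · exact conjBy_compGroup_self hA (le_compGroup h hb)
    · have hne : Comp G A ≠ Comp G B := fun e => h (e ▸ self_mem_comp hB)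
      refine CfsgLib.RootSub.conjBy_eq_self_iff.mpr (CfsgLib.RootSub.mem_normalizer_of_commute_all fun a ha => ?_)
      exact (commute_of_mem hk2 hk3 hN hA hB hne ha (le_compGroup (self_mem_comp hB) hb)).symm

/-- A subgroup of a component normalised by it is everything or central. -/
theorem compGroup_simple (hk2 : ringChar k ≠ 2) (hk3 : Nat.card k ≠ 3) (hN : NoFix G) (hS : Semi G) {A : Subgroup GL'}
    (hA : A ∈ quadraticRootSubgroups G) (N : Subgroup GL') (hNX : N ≤ CompGroup G A)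
    (hn : ∀ g ∈ CompGroup G A, conjBy N g = N) :
    N = CompGroup G A ∨ ∀ n ∈ N, ∀ g ∈ CompGroup G A, n * g = g * n := by
  set Xc := CompGroup G A
  by_cases hex : ∃ n ∈ N, ∃ B ∈ Comp G A, ⁅conjBy B n, B⁆ ≠ ⊥
  · left
    obtain ⟨n, hnN, B, hB, hne⟩ := hex
    have hB' := conj_mem_comp hA hB (hNX hnN)
    set B' := conjBy B n with hB'def
    have hcN : ∀ {a}, a ∈ N → ∀ {g}, g ∈ Xc → g * a * g⁻¹ ∈ N := fun {a} ha {g} hg =>
      hn g hg ▸ CfsgLib.RootSub.conjBy_mem ha
    have hcB : IsMulCommutative B := by obtain ⟨σ, hσ, rfl⟩ := hB.1; exact commute_in_class hσ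
    have hkey : ∀ a ∈ B', ∀ b ∈ B, a * b * a⁻¹ * b⁻¹ ∈ N := by
      rintro _ ⟨a, ha, rfl⟩ b hb
      show n * a * n⁻¹ * b * (n * a * n⁻¹)⁻¹ * b⁻¹ ∈ N
      have h0 : n * a * n⁻¹ * a⁻¹ ∈ N := by
        rw [show n * a * n⁻¹ * a⁻¹ = n * (a * n⁻¹ * a⁻¹) by group]
        exact mul_mem hnN (hcN (inv_mem hnN) (le_compGroup hB ha))
      set d := n * a * n⁻¹ * a⁻¹ with hd
      have hab : a * b = b * a := commute_of hcB ha hb
      rw [show n * a * n⁻¹ = d * a by rw [hd, inv_mul_cancel_right]]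
      have e : d * a * b * (d * a)⁻¹ * b⁻¹ = d * (b * d⁻¹ * b⁻¹) := by
        rw [mul_assoc d a b, hab, mul_inv_rev]; group
      rw [e]
      exact mul_mem h0 (hcN (inv_mem h0) (le_compGroup hB hb))
    obtain ⟨C, hC, hCN⟩ : ∃ C ∈ Comp G A, C ≤ N := by
      rcases trichotomy hk2 hk3 hN hB'.1 hB.1 with e | e | e
      · exact absurd e hne
      · -- a rank one pair: `N` absorbs the commutators of the two members
        refine ⟨B, hB, fun b hb => ?_⟩
        obtain ⟨σ, hσ, hσe⟩ := hB.1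
        obtain ⟨τ, hτ, hτe⟩ := hB'.1
        have ho : Opp σ τ := opp_of_rankOnePair hk2 hk3 hN hσ hτ (by
          have := RankOnePair_symm e; rwa [hσe, hτe] at this)
        have hb' := mem_commutator_of_opp hk2 hk3 hσ hτ ho (hσe ▸ hb)
        rw [← hσe, ← hτe] at hb'
        refine (?_ : ⁅B ⊔ B', B ⊔ B'⁆ ≤ N) hb'
        have hleX : B ⊔ B' ≤ Xc := sup_le (le_compGroup hB) (le_compGroup hB')
        have hcB' : IsMulCommutative B' := hτe ▸ commute_in_class hτ
        set N' := N.subgroupOf Xc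
        haveI : N'.Normal := ⟨fun x hx g => hcN (a := (x : GL')) hx g.2⟩
        have hcomm : ∀ x ∈ (B : Set GL') ∪ B', ∀ y ∈ (B : Set GL') ∪ B', x * y * x⁻¹ * y⁻¹ ∈ N := by
          rintro x (hx | hx) y (hy | hy)
          · rw [commute_of hcB hx hy]; simp
          · rw [show x * y * x⁻¹ * y⁻¹ = (y * x * y⁻¹ * x⁻¹)⁻¹ by group]; exact inv_mem (hkey y hy x hx)
          · exact hkey x hx y hy
          · rw [commute_of hcB' hx hy]; simp
        set q := QuotientGroup.mk' N'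
        have hq : ∀ x ∈ ((B : Set GL') ∪ B'), ∀ y ∈ ((B : Set GL') ∪ B'), ∀ hx hy,
            q ⟨x, hx⟩ * q ⟨y, hy⟩ = q ⟨y, hy⟩ * q ⟨x, hx⟩ := by
          intro x hx y hy hx' hy'
          rw [← mul_inv_eq_one, mul_inv_rev, ← map_inv, ← map_inv, ← map_mul, ← map_mul, ← map_mul]
          refine (QuotientGroup.eq_one_iff _).mpr ?_
          show x * y * (x⁻¹ * y⁻¹) ∈ N
          rw [← mul_assoc]; exact hcomm x hx y hy
        set T : Subgroup ↥Xc := (B ⊔ B').subgroupOf Xc with hT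
        have hTle : T = B.subgroupOf Xc ⊔ B'.subgroupOf Xc :=
          Subgroup.subgroupOf_sup (le_compGroup hB) (le_compGroup hB')
        have hbot : ⁅T.map q, T.map q⁆ = ⊥ := by
          rw [hTle, Subgroup.map_sup]
          have step : ∀ {U V : Subgroup GL'}, U = B ∨ U = B' → V = B ∨ V = B' →
              (U.subgroupOf Xc).map q ≤ Subgroup.centralizer ((V.subgroupOf Xc).map q) := by
            intro U V hU hV
            rintro _ ⟨x, hx, rfl⟩
            rw [Subgroup.mem_centralizer_iff]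
            rintro _ ⟨y, hy, rfl⟩
            have hx' : (x : GL') ∈ (B : Set GL') ∪ B' := by rcases hU with rfl | rfl <;> [left; right] <;> exact hx
            have hy' : (y : GL') ∈ (B : Set GL') ∪ B' := by rcases hV with rfl | rfl <;> [left; right] <;> exact hy
            exact hq y hy' x hx' y.2 x.2
          rw [Subgroup.commutator_eq_bot_iff_le_centralizer, ← Subgroup.commutator_eq_bot_iff_le_centralizer,
            Subgroup.commutator_eq_bot_iff_le_centralizer]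
          refine sup_le ?_ ?_ <;>
            rw [← Subgroup.commutator_eq_bot_iff_le_centralizer, Subgroup.commutator_comm,
              Subgroup.commutator_eq_bot_iff_le_centralizer] <;>
            exact sup_le (step (by tauto) (by tauto)) (step (by tauto) (by tauto))
        rw [← Subgroup.map_commutator] at hbot
        intro z hz
        have hzX : z ∈ Xc := (Subgroup.commutator_mono hleX hleX).trans
          (Subgroup.commutator_le.mpr fun a ha b hb => by
            rw [commutatorElement_def]; exact mul_mem (mul_mem (mul_mem ha hb) (inv_mem ha)) (inv_mem hb)) hz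
        rw [← Sub.map_subgroupOf hleX, ← Subgroup.map_commutator] at hz
        obtain ⟨z', hz', rfl⟩ := hz
        have := Subgroup.mem_map_of_mem q hz'
        rw [hbot, Subgroup.mem_bot] at this
        exact (QuotientGroup.eq_one_iff z').mp this
      · refine ⟨⁅B', B⁆, comp_eq hA hB' ▸ mem_comp_of_rcc hk2 hk3 hN hB'.1 hB.1 e,
          Subgroup.commutator_le.mpr fun a ha b hb => ?_⟩
        rw [commutatorElement_def]; exact hkey a ha b hb
    refine le_antisymm hNX (iSup₂_le fun P hP => ?_)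
    obtain ⟨g, hg⟩ := (isRootSubgroupClass_comp hk2 hk3 hN hA).2.2 _ ⟨C, hC, rfl⟩ _ ⟨P, hP, rfl⟩
    rw [Sub.conjBy_subgroupOf (le_compGroup hC)] at hg
    have e : P = conjBy C (g : GL') := Sub.subgroupOf_inj (le_compGroup hP) (by
      rintro _ ⟨x, hx, rfl⟩; exact mul_mem (mul_mem g.2 (le_compGroup hC hx)) (inv_mem g.2)) hg
    rw [e, ← hn _ g.2]
    exact Subgroup.map_mono hCN
  · right
    push Not at hex
    have hXG : Xc ≤ G := compGroup_le
    have hSX : Semi Xc := by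
      have h1 : Semi (⨆ B ∈ quadraticRootSubgroups G, B) := semi_normal hS iSup_roots_le fun g hg => conjBy_roots_sup hg
      exact semi_normal h1 (iSup₂_le fun B hB => le_iSup₂ (f := fun B (_ : B ∈ quadraticRootSubgroups G) => B) B hB.1)
        fun g hg => compGroup_normal_in_sup hk2 hk3 hN hA hg
    have hSN : Semi N := semi_normal hSX hNX hn
    intro n hnN g hg
    refine iSup_closed (fun g => n * g = g * n) _ (by simp) (fun a b ha hb => ?_) (fun B hB b hb => ?_) hg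
    · rw [← mul_assoc, ha, mul_assoc, hb, mul_assoc]
    set W : Set (Subgroup GL') := {P | ∃ m ∈ N, P = conjBy B m} with hW
    have hWcomp : ∀ P ∈ W, P ∈ Comp G A := by rintro P ⟨m, hm, rfl⟩; exact conj_mem_comp hA hB (hNX hm)
    have hWcomm : ∀ P ∈ W, ∀ Q ∈ W, ⁅P, Q⁆ = ⊥ := by
      rintro P ⟨m, hm, rfl⟩ Q ⟨l, hl, rfl⟩
      have h1 := hex (m⁻¹ * l) (mul_mem (inv_mem hm) hl) B hB
      rw [show conjBy B l = conjBy (conjBy B (m⁻¹ * l)) m by
        rw [CfsgLib.RootSub.conjBy_conjBy, mul_inv_cancel_left], conjBy, conjBy, ← Subgroup.map_commutator,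
        Subgroup.commutator_comm]
      show (⁅conjBy B (m⁻¹ * l), B⁆).map _ = ⊥
      rw [h1, Subgroup.map_bot]
    set V := ⨆ P ∈ W, P with hV
    have hVG : ∀ P ∈ W, P ≤ V := fun P hP => le_iSup₂ (f := fun P (_ : P ∈ W) => P) P hP
    have hcentV : ∀ g ∈ V, ∀ P ∈ W, conjBy P g = P := by
      intro g hg P hP
      refine CfsgLib.RootSub.conjBy_eq_self_iff.mpr (CfsgLib.RootSub.mem_normalizer_of_commute_all fun a ha => ?_)
      exact iSup_closed (fun g => g * a = a * g) _ (by simp) (fun x y hx hy => by rw [mul_assoc, hy, ← mul_assoc, hx,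
        mul_assoc]) (fun Q hQ q hq => CfsgLib.RootSub.commute_of_comm_eq_bot (hWcomm Q hQ P hP) hq ha) hg
    have hunip : IsUnipotentOn V := by
      refine (Cfsg.Agent.S5061.result (G := V) (W := W) hVG (fun P hP Q hQ => ?_)
        (fun P hP g hg => (hcentV g hg P hP).symm ▸ hP)).1
      obtain ⟨σ, hσ, hσe⟩ := (hWcomp P hP).1
      obtain ⟨τ, hτ, hτe⟩ := (hWcomp Q hQ).1
      rw [hσe, hτe]
      refine unipotent_classes hk2 hk3 hσ hτ (not_not.mp (show ¬ Opp σ τ from fun ho => ?_))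
      exact CfsgLib.RootSub.not_commute (isSpecialRankOnePair hk2 hk3 hσ hτ ho).1 (self_mem_sameActionSubgroup hσ)
        (ne_one_of_minimal hσ) (self_mem_sameActionSubgroup hτ) (ne_one_of_minimal hτ)
        (CfsgLib.RootSub.commute_of_comm_eq_bot (hWcomm P hP Q hQ) (hσe.symm ▸ self_mem_sameActionSubgroup hσ)
          (hτe.symm ▸ self_mem_sameActionSubgroup hτ))
    have hVn : ∀ g ∈ N, conjBy V g = V := by
      have key : ∀ g ∈ N, conjBy V g ≤ V := by
        intro g hg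
        rw [hV, conjBy, Subgroup.map_iSup]
        refine iSup_le fun P => ?_
        rw [Subgroup.map_iSup]
        refine iSup_le fun hP => ?_
        obtain ⟨m, hm, rfl⟩ := hP
        exact le_iSup₂ (f := fun P (_ : P ∈ W) => P) (conjBy (conjBy B m) g)
          ⟨g * m, mul_mem hg hm, CfsgLib.RootSub.conjBy_conjBy m g⟩
      intro g hg
      refine le_antisymm (key g hg) fun x hx => ?_
      rw [CfsgLib.RootSub.conjBy_mem_iff]
      refine key g⁻¹ (inv_mem hg) ?_
      rw [CfsgLib.RootSub.conjBy_mem_iff]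
      simpa [mul_assoc] using hx
    have hbot : N ⊓ V = ⊥ := unipotent_eq_bot hSN inf_le_left (fun g hg => by
      rw [conjBy, Subgroup.map_inf _ _ _ (MulAut.conj g).injective]
      show conjBy N g ⊓ conjBy V g = _
      rw [hn g (hNX hg), hVn g hg]) (IsUnipotentOn_mono inf_le_right hunip)
    have hmem : n * b * n⁻¹ * b⁻¹ ∈ N ⊓ V := by
      refine ⟨?_, V.mul_mem (hVG _ ⟨n, hnN, rfl⟩ (CfsgLib.RootSub.conjBy_mem hb))
        (V.inv_mem (hVG _ ⟨1, one_mem _, CfsgLib.RootSub.conjBy_one.symm⟩ hb))⟩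
      have hbX : b ∈ Xc := le_compGroup hB hb
      have : b * n⁻¹ * b⁻¹ ∈ N := hn b hbX ▸ CfsgLib.RootSub.conjBy_mem (inv_mem hnN)
      rw [show n * b * n⁻¹ * b⁻¹ = n * (b * n⁻¹ * b⁻¹) by group]
      exact mul_mem hnN this
    rw [hbot, Subgroup.mem_bot, mul_inv_eq_one, mul_inv_eq_iff_eq_mul] at hmem
    exact hmem

theorem isQuasisimple_comp (hk2 : ringChar k ≠ 2) (hk3 : Nat.card k ≠ 3) (hN : NoFix G) (hS : Semi G)
    {A : Subgroup GL'} (hA : A ∈ quadraticRootSubgroups G) : IsQuasisimple ↥(CompGroup G A) :=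
  isQuasisimple_of (compGroup_perfect hk2 hk3 hN hA) (compGroup_ne_comm hk2 hk3 hN hA)
    (compGroup_simple hk2 hk3 hN hS hA)

theorem finite_components (hk2 : ringChar k ≠ 2) (hk3 : Nat.card k ≠ 3) (hN : NoFix G) :
    (Comp G '' quadraticRootSubgroups G).Finite := by
  set T := Comp G '' quadraticRootSubgroups G
  have hch : ∀ c : T, ∃ σ τ : GL', σ ∈ minimalQuadraticElements G ∧ τ ∈ minimalQuadraticElements G ∧ Opp σ τ ∧
      Comp G (sameActionSubgroup G σ) = c.1 := by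
    rintro ⟨_, A, ⟨σ, hσ, rfl⟩, rfl⟩
    obtain ⟨τ, hτ, ho⟩ := exists_opp hk2 hk3 hN hσ
    exact ⟨σ, τ, hσ, hτ, ho, rfl⟩
  choose σ τ hσ hτ ho hc using hch
  have hli : LinearIndependent k fun c : T => ((σ c : GL') : Module.End k M) - 1 := by
    classical
    rw [linearIndependent_iff']
    intro F g hF c hcF
    set t := (τ c : Module.End k M) - 1 with ht
    set L := LinearMap.mulRight k t - LinearMap.mulLeft k t
    have h0 : ∀ j : T, j ≠ c → L ((σ j : Module.End k M) - 1) = 0 := fun j hj => by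
      have hne : Comp G (sameActionSubgroup G (σ j)) ≠ Comp G (sameActionSubgroup G (σ c)) := by
        rw [hc, hc]; exact fun e => hj (Subtype.ext e)
      have hcm : τ c ∈ CompGroup G (sameActionSubgroup G (σ c)) :=
        le_compGroup (mem_comp_of_opp hk2 hk3 (hσ c) (hτ c) (ho c)) (self_mem_sameActionSubgroup (hτ c))
      have e := commute_of_mem hk2 hk3 hN ⟨_, hσ j, rfl⟩ ⟨_, hσ c, rfl⟩ hne
        (le_compGroup (self_mem_comp ⟨_, hσ j, rfl⟩) (self_mem_sameActionSubgroup (hσ j))) hcm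
      rw [eq_mk_of_sub_one (σ j) (mem_minimal_iff.mp (hσ j)).1.sq,
        eq_mk_of_sub_one (τ c) (mem_minimal_iff.mp (hτ c)).1.sq, comm_eq_zero_iff] at e
      simp only [L, LinearMap.sub_apply, LinearMap.mulRight_apply, LinearMap.mulLeft_apply]
      exact sub_eq_zero.mpr e
    have h1 := congrArg L hF
    rw [map_sum, map_zero, Finset.sum_eq_single c (fun j _ hj => by rw [map_smul, h0 j hj, smul_zero])
      (fun h => absurd hcF h), map_smul] at h1
    refine (smul_eq_zero.mp h1).resolve_right fun e => ?_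
    have hnc := CfsgLib.RootSub.not_commute (isSpecialRankOnePair hk2 hk3 (hσ c) (hτ c) (ho c)).1
      (self_mem_sameActionSubgroup (hσ c)) (ne_one_of_minimal (hσ c)) (self_mem_sameActionSubgroup (hτ c))
      (ne_one_of_minimal (hτ c))
    refine hnc ?_
    rw [eq_mk_of_sub_one (σ c) (mem_minimal_iff.mp (hσ c)).1.sq,
      eq_mk_of_sub_one (τ c) (mem_minimal_iff.mp (hτ c)).1.sq, comm_eq_zero_iff]
    simp only [L, LinearMap.sub_apply, LinearMap.mulRight_apply, LinearMap.mulLeft_apply] at e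
    exact sub_eq_zero.mp e
  haveI : Finite T := hli.finite
  exact Set.toFinite T

end CfsgLib.QP
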