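/-
A member not commuting with a minimal one splits off a part inside a component.
-/
import Mathlib
import Cfsg.Agent.Lib.RootSub.QP.Comp

set_option autoImplicit false

namespace CfsgLib.QP

open Cfsg

universe u

variable {k : Type u} [Field k] {M : Type u} [AddCommGroup M] [Module k M] [FiniteDimensional k M]
variable {G : Subgroup (LinearMap.GeneralLinearGroup k M)}

local notation "GL'" => LinearMap.GeneralLinearGroup k M

omit [FiniteDimensional k M] in
theorem InG.mono {K H : Subgroup GL'} {x : Module.End k M} (h : InG K x) (hle : K ≤ H) : InG H x := by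
  obtain ⟨g, hg, e⟩ := h
  exact ⟨g, hle hg, e⟩

omit [FiniteDimensional k M] in
theorem conjBy_self_group {g : GL'} (hg : g ∈ G) : conjBy G g = G := by
  ext y
  rw [CfsgLib.RootSub.conjBy_mem_iff]
  exact ⟨fun h => by simpa [mul_assoc] using mul_mem (mul_mem hg h) (inv_mem hg),
    fun h => mul_mem (mul_mem (inv_mem hg) h) hg⟩

variable (G) in
/-- `s` splits off a part lying in the component of some class. -/
def Reduces (s : Module.End k M) : Prop :=
  ∃ p s' : Module.End k M, s = p + s' ∧ p * s' = 0 ∧ s' * p = 0 ∧ p ≠ 0 ∧ (s' = 0 ∨ Mem G s') ∧ rk s' < rk s ∧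
    ∃ A ∈ quadraticRootSubgroups G, ∀ H : Subgroup GL', (∀ g ∈ G, conjBy H g = H) → CompGroup G A ≤ H →
      ∀ c : k, InG H (1 + c • p)

theorem fam_mem_compGroup {w u : Module.End k M} (hW : Min G w) (hu : u = 0 ∨ (Mem G u ∧ Same w u)) :
    InG (CompGroup G (sameActionSubgroup G (mk w hW.1.sq))) (1 + u) := by
  have hσ : mk w hW.1.sq ∈ minimalQuadraticElements G := mem_minimal_iff.mpr (by rw [mk_sub_one]; exact hW)
  rcases hu with rfl | ⟨hu, hs⟩
  · rw [add_zero]; exact inG_one
  · exact ⟨mk u hu.sq, le_compGroup (self_mem_comp ⟨_, hσ, rfl⟩)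
      (mk_mem_sameActionSubgroup hσ hu (by rwa [mk_sub_one])), mk_val _ _⟩

/-- The split off step along a minimal member annihilating `s` on both sides. -/
theorem split_step (hk2 : ringChar k ≠ 2) (hk3 : Nat.card k ≠ 3) (hN : NoFix G) {s w : Module.End k M}
    (hS : Mem G s) (hW : Min G w) (sw : s * w = 0) (ws : w * s = 0)
    (hkey : (∀ v ∈ LinearMap.range w, v ∈ LinearMap.range s → v = 0) →
      (∀ v, ∃ v', w v' = 0 ∧ s v = s v') → False) : Reduces G s := by
  have h2 := two_ne hk2
  obtain ⟨r, F⟩ := exists_frame hk2 hk3 hN hW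
  obtain ⟨c1, c2, c3, c4, c5⟩ := F.cc_mul
  set C := cc w r with hC
  set P := w * r with hP
  set Q := r * w with hQ
  have hone : C + P + Q = 1 := by rw [hC, cc, hP, hQ]; abel
  have CP : C * P = 0 := by rw [hP, ← mul_assoc, c1, zero_mul]
  have PC : P * C = 0 := by rw [hP, mul_assoc, c4, mul_zero]
  have CQ : C * Q = 0 := by rw [hQ, ← mul_assoc, c3, zero_mul]
  have QC : Q * C = 0 := by rw [hQ, mul_assoc, c2, mul_zero]
  have QP : Q * P = 0 := by rw [hQ, hP, ← mul_assoc, mul_assoc r w w, hW.1.sq, mul_zero, zero_mul]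
  have PQ : P * Q = 0 := by rw [hQ, hP, ← mul_assoc, mul_assoc w r r, F.right.1.sq, mul_zero, zero_mul]
  have PP : P * P = P := by rw [hP, ← mul_assoc, F.xrx]
  have QQ : Q * Q = Q := by rw [hQ, ← mul_assoc, F.rxr]
  have sP : s * P = 0 := by rw [hP, ← mul_assoc, sw, zero_mul]
  have Qs : Q * s = 0 := by rw [hQ, mul_assoc, ws, mul_zero]
  have sCs : s * C * s = 0 := by
    rw [show C = 1 - P - Q by rw [← hone]; abel, mul_sub, mul_sub, mul_one, sP, sub_zero, sub_mul, hS.sq,
      mul_assoc, Qs, mul_zero, sub_zero]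
  have XsP : ∀ X : Module.End k M, X * s * P = 0 := fun X => by rw [mul_assoc, sP, mul_zero]
  have k1 : ∀ X V : Module.End k M, X * s * C * (C * s * V) = 0 := fun X V => by
    rw [← mul_assoc, ← mul_assoc, mul_assoc (X * s) C C, c5, mul_assoc X, mul_assoc X, sCs, mul_zero, zero_mul]
  have k2 : ∀ X V : Module.End k M, X * s * C * (P * s * V) = 0 := fun X V => by
    rw [← mul_assoc, ← mul_assoc, mul_assoc (X * s) C P, CP, mul_zero, zero_mul, zero_mul]
  have k3 : ∀ X V : Module.End k M, X * s * Q * (C * s * V) = 0 := fun X V => by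
    rw [← mul_assoc, ← mul_assoc, mul_assoc (X * s) Q C, QC, mul_zero, zero_mul, zero_mul]
  have k4 : ∀ X V : Module.End k M, X * s * Q * (P * s * V) = 0 := fun X V => by
    rw [← mul_assoc, ← mul_assoc, mul_assoc (X * s) Q P, QP, mul_zero, zero_mul, zero_mul]
  set G0 := C * s * C with hG0
  set s1 := P * s * C + C * s * Q with hs1
  set B := P * s * Q with hB
  have hsum : s = G0 + s1 + B := by
    conv_lhs => rw [← one_mul s, ← mul_one (1 * s), ← hone]
    simp only [hG0, hs1, hB, add_mul, mul_add, Qs, XsP, zero_mul, add_zero, zero_add]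
    abel
  have hgsg : (C - P - Q) * s * (C - P - Q) = G0 - s1 + B := by
    simp only [hG0, hs1, hB, sub_mul, mul_sub, Qs, XsP, zero_mul, sub_zero, zero_sub, neg_zero]
    abel
  have z00 : G0 * G0 = 0 := k1 _ _
  have z01 : G0 * s1 = 0 := by rw [hs1, mul_add, hG0, k2, k1, add_zero]
  have z02 : G0 * B = 0 := k2 _ _
  have z10 : s1 * G0 = 0 := by rw [hs1, add_mul, hG0, k1, k3, add_zero]
  have z11 : s1 * s1 = 0 := by simp only [hs1, add_mul, mul_add, k1, k2, k3, k4, add_zero]
  have z12 : s1 * B = 0 := by rw [hs1, add_mul, hB, k2, k4, add_zero]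
  have z20 : B * G0 = 0 := k3 _ _
  have z21 : B * s1 = 0 := by rw [hs1, mul_add, hB, k4, k3, add_zero]
  have z22 : B * B = 0 := k4 _ _
  -- the involution of the frame
  set σ := mk w hW.1.sq with hσd
  have hσ : σ ∈ minimalQuadraticElements G := mem_minimal_iff.mpr (by rw [hσd, mk_sub_one]; exact hW)
  have hnr : (-r) * (-r) = 0 := by rw [neg_mul_neg, F.right.1.sq]
  set n := mk w hW.1.sq * mk (-r) hnr * mk w hW.1.sq with hn
  set g := n * n with hgd
  have hgX : g ∈ CompGroup G (sameActionSubgroup G σ) := by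
    have hw : mk w hW.1.sq ∈ CompGroup G (sameActionSubgroup G σ) :=
      le_compGroup (self_mem_comp ⟨σ, hσ, rfl⟩) (self_mem_sameActionSubgroup hσ)
    have hτ : mk (-r) hnr ∈ minimalQuadraticElements G := mem_minimal_iff.mpr (by rw [mk_sub_one]; exact F.right.neg)
    have hr : mk (-r) hnr ∈ CompGroup G (sameActionSubgroup G σ) := by
      refine le_compGroup (mem_comp_of_opp hk2 hk3 hσ hτ ?_) (self_mem_sameActionSubgroup hτ)
      show ¬ IsNilpotent _
      rw [hσd, mk_sub_one, mk_sub_one, mul_neg, neg_mul, ← neg_add, isNilpotent_neg_iff]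
      exact not_nilpotent_of_xrx hW.1.sq hW.1.ne F.xrx
    exact mul_mem (mul_mem (mul_mem hw hr) hw) (mul_mem (mul_mem hw hr) hw)
  have hgv : (g : Module.End k M) = C - P - Q := by
    have hnv : (n : Module.End k M) = C + w - r := by
      rw [hn, Units.val_mul, Units.val_mul, mk_val, mk_val, hC, cc]
      simp only [add_mul, mul_add, one_mul, mul_one, neg_mul, mul_neg, F.xrx, hW.1.sq]
      abel
    rw [hgd, Units.val_mul, hnv]
    simp only [add_mul, mul_add, sub_mul, mul_sub, c1, c2, c3, c4, c5, hW.1.sq, F.right.1.sq, hP, hQ]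
    abel
  have hgi : ((g⁻¹ : GL') : Module.End k M) = C - P - Q := by
    refine Units.inv_eq_of_mul_eq_one_right ?_
    rw [hgv]
    simp only [mul_sub, sub_mul, CP, PC, CQ, QC, PQ, QP, PP, QQ, c5]
    rw [← hone]; abel
  have hgG : g ∈ G := compGroup_le hgX
  clear_value g
  -- the odd part
  have odd : ∀ H : Subgroup GL', (∀ g ∈ G, conjBy H g = H) → CompGroup G (sameActionSubgroup G σ) ≤ H →
      ∀ d : k, InG H (1 + d • s1) := by
    intro H hH hle d
    set c := -(d / 2)
    set t := mk (c • s) (smul_sq hS.sq c c) with ht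
    have htG : t ∈ G := InG.mem (by rw [ht, mk_val]; exact hS.fam c)
    have h1 : t * g⁻¹ * t⁻¹ ∈ H := by
      have := CfsgLib.RootSub.conjBy_mem (g := t) (inv_mem (hle hgX))
      rwa [hH t htG] at this
    refine ⟨g * (t * g⁻¹ * t⁻¹), mul_mem (hle hgX) h1, ?_⟩
    have ti : ((t⁻¹ : GL') : Module.End k M) = 1 - c • s := rfl
    rw [Units.val_mul, Units.val_mul, Units.val_mul, ti, ht, mk_val, hgv, hgi]
    have e : (C - P - Q) * ((1 + c • s) * (C - P - Q) * (1 - c • s)) =
        (1 + c • (G0 - s1 + B)) * (1 - c • s) := by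
      have : (C - P - Q) * (C - P - Q) = 1 := by
        simp only [mul_sub, sub_mul, CP, PC, CQ, QC, PQ, QP, PP, QQ, c5]
        rw [← hone]; abel
      rw [← mul_assoc, ← mul_assoc, mul_add (C - P - Q), mul_one, add_mul (C - P - Q), this, mul_smul_comm,
        smul_mul_assoc, hgsg]
    have e2 : c • (G0 - s1 + B) - c • s = d • s1 := by
      rw [hsum, show d = -2 * c by simp only [c]; linear_combination -(div_mul_cancel₀ d h2)]
      module
    have e3 : (G0 - s1 + B) * s = 0 := by
      rw [hsum]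
      simp only [add_mul, mul_add, sub_mul, z00, z01, z02, z10, z11, z12, z20, z21, z22, add_zero, sub_zero]
    rw [e, add_mul, one_mul, mul_sub, mul_one, smul_mul_smul_comm, e3, smul_zero, sub_zero, ← e2]
    abel
  have oddG := odd G (fun g hg => conjBy_self_group hg) compGroup_le
  -- the even part
  have even : ∀ d : k, InG G (1 + d • (G0 + B)) := by
    intro d
    set c := d / 2
    set t := mk (c • s) (smul_sq hS.sq c c) with ht
    have htG : t ∈ G := InG.mem (by rw [ht, mk_val]; exact hS.fam c)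
    refine ⟨g * t * g⁻¹ * t, mul_mem (mul_mem (mul_mem hgG htG) (inv_mem hgG)) htG, ?_⟩
    rw [Units.val_mul, Units.val_mul, Units.val_mul, ht, mk_val, hgi, mul_add (g : Module.End k M), mul_one,
      add_mul (g : Module.End k M), show (g : Module.End k M) * (C - P - Q) = 1 by rw [← hgi, Units.mul_inv],
      hgv, mul_smul_comm, smul_mul_assoc, hgsg, add_mul, one_mul, mul_add, mul_one, smul_mul_smul_comm, hsum]
    simp only [add_mul, mul_add, sub_mul, z00, z01, z02, z10, z11, z12, z20, z21, z22, add_zero, sub_zero, smul_zero]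
    rw [show d = 2 * c from (mul_div_cancel₀ d h2).symm]
    module
  have bfam : ∀ d : k, InG G (1 + d • B) := by
    intro d
    obtain ⟨a, ha, ha2⟩ := exists_scalar hk2 hk3
    obtain ⟨r', -, e1, e2, h, hh, hv, hi⟩ := F.exists_scale hk2 hk3 (hW.smul ha)
      ⟨ker_smul_eq w ha, range_smul_eq w ha⟩
    rw [mul_smul_comm, ← hQ] at e1
    rw [smul_mul_assoc, ← hP] at e2
    have e1' : r' * w = a⁻¹ • Q := by rw [← e1, smul_smul, inv_mul_cancel₀ ha, one_smul]
    have e2' : w * r' = a⁻¹ • P := by rw [← e2, smul_smul, inv_mul_cancel₀ ha, one_smul]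
    rw [e1', smul_mul_assoc, ← hP, ← hC] at hv
    rw [e2', mul_smul_comm, ← hQ, ← hC] at hi
    have hhs : (h : Module.End k M) * s * (h⁻¹ : GL').1 = G0 + a • s1 + a ^ 2 • B := by
      rw [hv, hi]
      simp only [hG0, hs1, hB, add_mul, mul_add, smul_mul_assoc, mul_smul_comm, Qs, XsP, zero_mul, smul_zero,
        add_zero, zero_add, smul_smul]
      module
    set c := d / (a ^ 2 - 1)
    have h1 : InG G (1 + c • (G0 + a • s1 + a ^ 2 • B)) := by
      set t := mk (c • s) (smul_sq hS.sq c c) with ht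
      have htG : t ∈ G := InG.mem (by rw [ht, mk_val]; exact hS.fam c)
      refine ⟨h * t * h⁻¹, mul_mem (mul_mem hh htG) (inv_mem hh), ?_⟩
      rw [Units.val_mul, Units.val_mul, ht, mk_val, mul_add (h : Module.End k M), mul_one, add_mul, Units.mul_inv,
        mul_smul_comm, smul_mul_assoc, hhs]
    have := (h1.mul (oddG (-(c * a)))).mul (even (-c))
    convert this using 1
    simp only [add_mul, mul_add, one_mul, mul_one, smul_add, smul_smul, smul_mul_assoc, mul_smul_comm, z00, z01, z02,
      z10, z11, z12, z20, z21, z22, smul_zero, add_zero]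
    have hd : d = c * (a ^ 2 - 1) := (div_mul_cancel₀ d (sub_ne_zero.mpr ha2)).symm
    rw [hd]
    module
  have bclass : ∀ c : k, c • B = 0 ∨ (Mem G (c • B) ∧ Same w (c • B)) := by
    intro c
    by_cases h0 : c • B = 0
    · exact Or.inl h0
    obtain ⟨hc, hB0⟩ := smul_ne_zero_iff.mp h0
    have hm : Mem G B := ⟨z22, hB0, bfam⟩
    refine Or.inr ⟨hm.smul hc, (hW.same_of_le (hm.smul hc) (fun v hv => ?_) ?_).1⟩
    · rw [ker_smul_eq B hc]
      show P (s (r (w v))) = 0
      rw [LinearMap.mem_ker.mp hv]; simp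
    · rw [range_smul_eq B hc, show B = w * (r * s * Q) by simp only [hB, hP, mul_assoc]]
      exact LinearMap.range_comp_le_range _ _
  have g0fam : ∀ c : k, InG G (1 + c • G0) := fun c => by
    convert (even c).mul (bfam (-c)) using 1
    simp only [add_mul, mul_add, one_mul, mul_one, smul_add, smul_mul_assoc, mul_smul_comm, z02, z22, smul_zero,
      add_zero]
    module
  have hrk : rk G0 < rk s := by
    by_contra hlt
    rw [rk, rk] at hlt
    have hr : LinearMap.range G0 ≤ (LinearMap.range s).map C := by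
      rintro _ ⟨v, rfl⟩
      exact ⟨s (C v), ⟨_, rfl⟩, rfl⟩
    have f1 := finrank_map_add C (LinearMap.range s)
    have f2 := Submodule.finrank_mono hr
    have hinf : LinearMap.range s ⊓ LinearMap.ker C = ⊥ := Submodule.finrank_eq_zero.mp (by omega)
    have heq : LinearMap.range G0 = (LinearMap.range s).map C := Submodule.eq_of_le_of_finrank_le hr (by omega)
    refine hkey ?_ fun v => ?_
    · rintro _ ⟨v, rfl⟩ hv
      exact (Submodule.mem_bot k).mp (hinf ▸ ⟨hv, LinearMap.congr_fun c1 v⟩)
    · obtain ⟨v', hv'⟩ : C (s v) ∈ LinearMap.range G0 := heq ▸ ⟨s v, ⟨v, rfl⟩, rfl⟩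
      refine ⟨C v', LinearMap.congr_fun c2 v', sub_eq_zero.mp ((Submodule.mem_bot k).mp (hinf ▸ ⟨?_, ?_⟩))⟩
      · exact ⟨v - C v', map_sub _ _ _⟩
      · show C (s v - s (C v')) = 0
        rw [map_sub, ← hv']
        exact sub_self _
  refine ⟨s1 + B, G0, by rw [hsum]; abel, by rw [add_mul, z10, z20, add_zero], by rw [mul_add, z01, z02, add_zero],
    fun e => hrk.ne (by conv_rhs => rw [hsum, add_assoc, e, add_zero]), ?_, hrk, _, ⟨σ, hσ, rfl⟩, fun H hH hle c => ?_⟩
  · by_cases h : G0 = 0
    · exact Or.inl h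
    · exact Or.inr ⟨z00, h, g0fam⟩
  · convert (odd H hH hle c).mul ((fam_mem_compGroup hW (bclass c)).mono hle) using 1
    simp only [add_mul, mul_add, one_mul, mul_one, smul_mul_assoc, mul_smul_comm, smul_add, z12, smul_zero, add_zero]
    abel

/-- A member not commuting with a minimal one splits. -/
theorem reduces_of_ne (hk2 : ringChar k ≠ 2) (hk3 : Nat.card k ≠ 3) (hN : NoFix G) {s x : Module.End k M}
    (hS : Mem G s) (hX : Min G x) (hne : s * x ≠ x * s) : Reduces G s := by
  have hs := hS.sq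
  have hx := hX.1.sq
  set z := s * x + x * s with hz
  by_cases hnil : IsNilpotent z
  · by_cases h12 : s * x * s = 0 ∧ x * s * x = 0
    · obtain ⟨h1, h2⟩ := h12
      set v := s * x - x * s with hv
      have hvM : Mem G v := ⟨comm_sq hs hx h1 h2, sub_ne_zero.mpr hne, inG_comm hS hX.1 h1 h2⟩
      have a1 : (LinearMap.range s).map x ≤ LinearMap.range x ⊓ LinearMap.ker s := by
        rintro _ ⟨_, ⟨u, rfl⟩, rfl⟩
        exact ⟨⟨s u, rfl⟩, LinearMap.congr_fun h1 u⟩
      have hr : LinearMap.range v ≤ (LinearMap.range x).map s ⊔ (LinearMap.range s).map x := by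
        rintro _ ⟨u, rfl⟩
        exact Submodule.sub_mem _ (Submodule.mem_sup_left ⟨_, ⟨u, rfl⟩, rfl⟩)
          (Submodule.mem_sup_right ⟨_, ⟨u, rfl⟩, rfl⟩)
      have f1 := finrank_map_add s (LinearMap.range x)
      have f2 := Submodule.finrank_mono a1
      have f3 := Submodule.finrank_mono hr
      have f4 := Submodule.finrank_add_le_finrank_add_finrank ((LinearMap.range x).map s) ((LinearMap.range s).map x)
      have f5 := hX.2 _ hvM
      simp only [rk] at f5
      refine split_step hk2 hk3 hN hS (hX.of_rk hvM (by simp only [rk]; omega))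
        (by rw [hv, mul_sub, ← mul_assoc, ← mul_assoc, hs, zero_mul, h1, sub_zero])
        (by rw [hv, sub_mul, h1, mul_assoc x s s, hs, mul_zero, sub_zero]) fun hA hB => ?_
      have heq : LinearMap.range v = (LinearMap.range x).map s ⊔ (LinearMap.range s).map x :=
        Submodule.eq_of_le_of_finrank_le hr (by omega)
      have hsx : s * x = 0 := LinearMap.ext fun u =>
        hA _ (heq.symm ▸ Submodule.mem_sup_left ⟨_, ⟨u, rfl⟩, rfl⟩) ⟨x u, rfl⟩
      refine hvM.ne (LinearMap.ext fun u => ?_)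
      obtain ⟨u', hu', e⟩ := hB u
      rw [hv, hsx, zero_sub] at hu' ⊢
      show -(x (s u)) = 0
      rw [e]; exact hu'
    · obtain ⟨N, hNz⟩ := hnil
      classical
      have hex : ∃ n, s * z ^ n = 0 ∧ x * z ^ n = 0 := ⟨N, by rw [hNz]; simp⟩
      have hn := Nat.find_spec hex
      obtain ⟨m, hm, hm1⟩ : ∃ m, Nat.find hex = m + 1 ∧ 1 ≤ m := by
        refine ⟨Nat.find hex - 1, ?_⟩
        have e0 : Nat.find hex ≠ 0 := fun e => by rw [e, pow_zero, mul_one] at hn; exact hS.ne hn.1
        have e1 : Nat.find hex ≠ 1 := fun e => by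
          rw [e, pow_one, hz, left_mul_z hs, right_mul_z hx] at hn; exact h12 hn
        omega
      rw [hm] at hn
      have ha := no_deep_top (two_ne hk2) hS hX hm1 hn.1 hn.2
      have hxz : x * z ^ m = 0 := by
        by_contra hxne
        have e : x * s + s * x = z := add_comm _ _
        have hmem := mem_deep (two_ne hk2) hX.1 hS hm1 (by rw [e]; exact hn.2) (by rw [e]; exact hn.1)
          (by rw [e]; exact hxne) (by rw [e, ← neg_sub, neg_mul, ha, neg_zero])
        exact absurd (hX.2 _ hmem) (not_le.mpr (rk_lt_of_range_lt (range_deep_lt (t := s) hx hm1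
          (by rw [e]; exact hn.2) (by rw [e]; exact hxne))))
      have hsne : s * z ^ m ≠ 0 := fun e => Nat.find_min hex (m := m) (by omega) ⟨e, hxz⟩
      have hmem := mem_deep (two_ne hk2) hS hX.1 hm1 hn.1 hn.2 hsne ha
      rw [← hz] at hmem
      have cs : z ^ m * s = s * z ^ m := ((commute_z_left hs).pow_left m).eq
      refine split_step hk2 hk3 hN hS (hX.of_rk hmem ?_) (by rw [← mul_assoc, hs, zero_mul])
        (by rw [mul_assoc, cs, ← mul_assoc, hs, zero_mul]) fun hA _ => hsne ?_
      · obtain ⟨j, rfl⟩ := Nat.exists_eq_add_of_le' hm1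
        rw [pow_succ', ← mul_assoc, hz, left_mul_z hs, mul_assoc (s * x), rk, rk]
        refine le_trans (Submodule.finrank_mono ?_) (Submodule.finrank_map_le s (LinearMap.range x))
        rintro _ ⟨u, rfl⟩
        exact ⟨_, ⟨_, rfl⟩, rfl⟩
      · exact LinearMap.ext fun u => hA _ ⟨u, rfl⟩ ⟨_, rfl⟩
  · obtain ⟨P, e, hsp⟩ := exists_split hnil
    have hsp' : Split (x * s + s * x) P e := by rwa [add_comm]
    obtain ⟨β, hβ⟩ := (Gen.isUnit_root hsp.coeff).exists_right_inv
    set π := Polynomial.aeval z e with hπ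
    have hfx : π * x = x := by
      have := left_fix hk2 hk3 hX hS hsp'
      rwa [add_comm (x * s)] at this
    set w := iota z P e β with hw
    have cwx : Commute w x := commute_iota (commute_z_right hx) β
    have cws : Commute w s := commute_iota (commute_z_left hs) β
    have hwz : w * z = π := by rw [iota_mul_z hsp, mul_comm, hβ, iota_one hsp]
    have cps : Commute π s := by rw [hπ, ← iota_one hsp]; exact commute_iota (commute_z_left hs) 1
    have cpx : Commute π x := by rw [hπ, ← iota_one hsp]; exact commute_iota (commute_z_right hx) 1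
    have hππ : π * π = π := by rw [hπ, ← map_mul, aeval_e_mul hsp]
    set p := π * s with hp
    have pp : p * p = 0 := by rw [hp, mul_assoc, ← mul_assoc s, ← cps.eq, mul_assoc π s, hs, mul_zero, mul_zero]
    have hsp0 : s * p = 0 := by rw [hp, cps.eq, ← mul_assoc, hs, zero_mul]
    have hps0 : p * s = 0 := by rw [hp, mul_assoc, hs, mul_zero]
    have pfam : ∀ c : k, InG G (1 + c • p) := fun c => by
      have := inG_iota hk2 hk3 hS hX.1 hsp (algebraMap k (AdjoinRoot P) c)
      rwa [← hz, iota_algebraMap hsp, ← hπ, smul_mul_assoc] at this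
    have pne : p ≠ 0 := fun e0 => by
      refine hnil ?_
      have h1 : x * s = 0 := by rw [← hfx, cpx.eq, mul_assoc, ← hp, e0, mul_zero]
      have h2 : s * x = 0 := by rw [← hfx, ← mul_assoc, ← cps.eq, ← hp, e0, zero_mul]
      exact ⟨1, by rw [pow_one, hz, h1, h2, add_zero]⟩
    have hpM : Mem G p := ⟨pp, pne, pfam⟩
    have pfac : p = s * x * (w * s) := by
      rw [hp, ← hwz, mul_assoc w, z_mul_left hs, ← mul_assoc (s * x), mul_assoc s x w, ← cwx.eq, ← mul_assoc s w,
        ← cws.eq]
      simp only [mul_assoc]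
    have hpm : Min G p := hX.of_rk hpM (by
      rw [rk, rk, pfac]
      refine le_trans (Submodule.finrank_mono ?_) (Submodule.finrank_map_le s (LinearMap.range x))
      rintro _ ⟨u, rfl⟩
      exact ⟨_, ⟨_, rfl⟩, rfl⟩)
    refine ⟨p, s - p, by abel, by rw [mul_sub, hps0, pp, sub_zero], by rw [sub_mul, hsp0, pp, sub_zero], pne, ?_, ?_,
      sameActionSubgroup G (mk p pp), ⟨_, mem_minimal_iff.mpr (by rw [mk_sub_one]; exact hpm), rfl⟩,
      fun H _ hle c => (fam_mem_compGroup hpm ?_).mono hle⟩
    · by_cases h : s - p = 0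
      · exact Or.inl h
      refine Or.inr ⟨by rw [sub_mul, mul_sub, mul_sub, hs, hsp0, hps0, pp]; simp, h, fun c => ?_⟩
      convert (hS.fam c).mul (pfam (-c)) using 1
      simp only [add_mul, mul_add, one_mul, mul_one, smul_mul_assoc, mul_smul_comm, hsp0, smul_zero, add_zero]
      module
    · have e1 : s - p = (1 - π) * s := by rw [sub_mul, one_mul]
      have hr : LinearMap.range (s - p) ≤ (LinearMap.range s).map (1 - π) := by
        rintro _ ⟨u, rfl⟩
        exact ⟨s u, ⟨u, rfl⟩, by rw [e1]; rfl⟩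
      have hle : LinearMap.range p ≤ LinearMap.range s ⊓ LinearMap.ker (1 - π) := by
        rintro _ ⟨u, rfl⟩
        refine ⟨⟨π u, (LinearMap.congr_fun cps.eq u).symm⟩, ?_⟩
        show ((1 - π) * p) u = 0
        rw [hp, ← mul_assoc, sub_mul, one_mul, hππ, sub_self, zero_mul]; rfl
      have f1 := finrank_map_add (1 - π) (LinearMap.range s)
      have f2 := Submodule.finrank_mono hr
      have f3 := Submodule.finrank_mono hle
      have f4 : Module.finrank k (LinearMap.range p) ≠ 0 := fun e0 =>
        pne (LinearMap.range_eq_bot.mp (Submodule.finrank_eq_zero.mp e0))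
      simp only [rk]; omega
    · by_cases h : c • p = 0
      · exact Or.inl h
      · have hc := (smul_ne_zero_iff.mp h).1
        exact Or.inr ⟨hpM.smul hc, ker_smul_eq p hc, range_smul_eq p hc⟩

end CfsgLib.QP
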