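/-
A group generated by quadratic elements is a central product of quasisimple components.
-/
import Mathlib
import Cfsg.Agent.Lib.RootSub.QP.Reduce

set_option autoImplicit false

namespace CfsgLib.QP

open Cfsg
open scoped commutatorElement

universe u

variable {k : Type u} [Field k] {M : Type u} [AddCommGroup M] [Module k M] [FiniteDimensional k M]
variable {G : Subgroup (LinearMap.GeneralLinearGroup k M)}

local notation "GL'" => LinearMap.GeneralLinearGroup k M

variable (G) in
/-- The group generated by the classes. -/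
def Roots : Subgroup GL' := ⨆ B ∈ quadraticRootSubgroups G, B

theorem compGroup_le_roots {A : Subgroup GL'} : CompGroup G A ≤ Roots G :=
  iSup₂_le fun B hB => le_iSup₂ (f := fun B (_ : B ∈ quadraticRootSubgroups G) => B) B hB.1

omit [FiniteDimensional k M] in
theorem mem_of_quadratic {g : GL'} (hg : g ∈ quadraticElements G) {H : Subgroup GL'}
    (h : ∀ c : k, InG H (1 + c • ((g : Module.End k M) - 1))) : g ∈ H := by
  refine InG.mem ?_
  have := h 1
  rwa [one_smul, add_sub_cancel] at this

/-- A member commuting with all minimal ones centralises the classes. -/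
theorem fam_mem_centralizer {s : Module.End k M} (hS : Mem G s) (h : ∀ x, Min G x → s * x = x * s) (c : k) :
    InG (G ⊓ Subgroup.centralizer (Roots G : Set GL')) (1 + c • s) := by
  refine ⟨mk (c • s) (smul_sq hS.sq c c), ⟨InG.mem (by rw [mk_val]; exact hS.fam c),
    Subgroup.mem_centralizer_iff.mpr fun b hb => ?_⟩, mk_val _ _⟩
  refine iSup_closed (fun b => b * mk (c • s) (smul_sq hS.sq c c) = mk (c • s) (smul_sq hS.sq c c) * b) _
    (by simp) (fun a b ha hb => by rw [mul_assoc, hb, ← mul_assoc, ha, mul_assoc]) ?_ hb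
  rintro _ ⟨σ, hσ, rfl⟩ b hb
  rcases (mem_sameActionSubgroup_iff hσ).mp hb with rfl | ⟨hb', -⟩
  · simp
  refine Units.ext ?_
  have hc : Commute ((b : Module.End k M) - 1) s := (h _ hb').symm
  have e : (b : Module.End k M) = 1 + ((b : Module.End k M) - 1) := by abel
  rw [Units.val_mul, Units.val_mul, mk_val, e]
  exact (((Commute.one_left _).add_left ((Commute.one_right _).add_right (hc.smul_right c)))).eq

/-- Every member lies in the product of the classes and their centraliser. -/
theorem fam_mem_sup (hk2 : ringChar k ≠ 2) (hk3 : Nat.card k ≠ 3) (hN : NoFix G) : ∀ {s : Module.End k M}, Mem G s →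
    ∀ c : k, InG (Roots G ⊔ (G ⊓ Subgroup.centralizer (Roots G : Set GL'))) (1 + c • s) := by
  intro s
  induction hn : rk s using Nat.strong_induction_on generalizing s with
  | _ n ih =>
    intro hS c
    by_cases hcomm : ∀ x, Min G x → s * x = x * s
    · exact (fam_mem_centralizer hS hcomm c).mono le_sup_right
    push Not at hcomm
    obtain ⟨x, hx, hne⟩ := hcomm
    obtain ⟨p, s', hs, h1, -, -, hs', hlt, A, -, hp⟩ := reduces_of_ne hk2 hk3 hN hS hx hne
    have e1 : InG (Roots G ⊔ (G ⊓ Subgroup.centralizer (Roots G : Set GL'))) (1 + c • p) :=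
      (hp (Roots G) (fun g hg => conjBy_roots_sup hg) compGroup_le_roots c).mono le_sup_left
    rcases hs' with rfl | hs'
    · rwa [hs, add_zero]
    convert e1.mul (ih _ (hn ▸ hlt) rfl hs' c) using 1
    rw [hs, mul_add, mul_one, add_mul, one_mul, smul_mul_smul_comm, h1, smul_zero, add_zero, smul_add, add_assoc]

/-- The classes together with their centraliser give the whole group. -/
theorem roots_sup_centralizer (hk2 : ringChar k ≠ 2) (hk3 : Nat.card k ≠ 3) (hQ : Subgroup.closure (quadraticElements G) = G)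
    (hN : NoFix G) : Roots G ⊔ (G ⊓ Subgroup.centralizer (Roots G : Set GL')) = G := by
  refine le_antisymm (sup_le iSup_roots_le inf_le_left) ?_
  conv_lhs => rw [← hQ]
  exact (Subgroup.closure_le _).mpr fun g hg =>
    mem_of_quadratic hg (fam_mem_sup hk2 hk3 hN (mem_quadratic_iff.mp hg))

theorem compGroup_normal (hk2 : ringChar k ≠ 2) (hk3 : Nat.card k ≠ 3) (hQ : Subgroup.closure (quadraticElements G) = G)
    (hN : NoFix G) {A : Subgroup GL'} (hA : A ∈ quadraticRootSubgroups G) {g : GL'} (hg : g ∈ G) :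
    conjBy (CompGroup G A) g = CompGroup G A := by
  rw [CfsgLib.RootSub.conjBy_eq_self_iff]
  rw [← roots_sup_centralizer hk2 hk3 hQ hN] at hg
  refine (sup_le (fun a ha => ?_) (fun a ha => ?_) :
    Roots G ⊔ (G ⊓ Subgroup.centralizer (Roots G : Set GL')) ≤ Subgroup.normalizer (CompGroup G A : Set GL')) hg
  · exact CfsgLib.RootSub.conjBy_eq_self_iff.mp (compGroup_normal_in_sup hk2 hk3 hN hA ha)
  · exact CfsgLib.RootSub.mem_normalizer_of_commute_all fun b hb =>
      (Subgroup.mem_centralizer_iff.mp ha.2 b (compGroup_le_roots hb)).symm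

theorem compGroup_ne_bot {A : Subgroup GL'} (hA : A ∈ quadraticRootSubgroups G) : CompGroup G A ≠ ⊥ := by
  obtain ⟨σ, hσ, rfl⟩ := hA
  intro e
  have h1 : σ ∈ CompGroup G (sameActionSubgroup G σ) :=
    le_compGroup (self_mem_comp ⟨σ, hσ, rfl⟩) (self_mem_sameActionSubgroup hσ)
  rw [e, Subgroup.mem_bot] at h1
  exact ne_one_of_minimal hσ h1

/-- A part in a component and a part commuting with it cannot both occur. -/
theorem no_mixed (hk2 : ringChar k ≠ 2) (hk3 : Nat.card k ≠ 3) (hN : NoFix G) (hsemi : Semi G)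
    {A : Subgroup GL'} (hA : A ∈ quadraticRootSubgroups G) (hnorm : ∀ g ∈ G, conjBy (CompGroup G A) g = CompGroup G A)
    {p s' : Module.End k M} (hp0 : p ≠ 0) (hs0 : s' ≠ 0) (hpp : p * p = 0) (hps : p * s' = 0)
    (hp : ∀ c : k, InG (CompGroup G A) (1 + c • p))
    (hc : ∀ g ∈ CompGroup G A, (g : Module.End k M) * s' = s' * (g : Module.End k M)) : False := by
  set X := CompGroup G A with hX
  have hXn : ∀ g ∈ X, conjBy X g = X := fun g hg => hnorm g (compGroup_le hg)
  let N : Subgroup GL' :=
    { carrier := {g | g ∈ X ∧ ∀ v, (g : Module.End k M) (s' v) = s' v}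
      one_mem' := ⟨one_mem _, fun v => rfl⟩
      mul_mem' := fun {a b} ha hb => ⟨mul_mem ha.1 hb.1, fun v => by
        show (a : Module.End k M) ((b : Module.End k M) (s' v)) = _
        rw [hb.2, ha.2]⟩
      inv_mem' := fun {a} ha => ⟨inv_mem ha.1, fun v => by
        conv_lhs => rw [← ha.2 v]
        exact LinearMap.congr_fun a.inv_mul (s' v)⟩ }
  have hNn : ∀ g ∈ X, conjBy N g = N := by
    have key : ∀ g ∈ X, ∀ n ∈ N, g * n * g⁻¹ ∈ N := fun g hg n hn =>
      ⟨mul_mem (mul_mem hg hn.1) (inv_mem hg), fun v => by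
        show (g : Module.End k M) ((n : Module.End k M) ((g⁻¹ : GL').1 (s' v))) = _
        rw [show (g⁻¹ : GL').1 (s' v) = s' ((g⁻¹ : GL').1 v) from LinearMap.congr_fun (hc _ (inv_mem hg)) v, hn.2,
          show (g : Module.End k M) (s' ((g⁻¹ : GL').1 v)) = s' ((g : Module.End k M) ((g⁻¹ : GL').1 v)) from
            LinearMap.congr_fun (hc _ hg) _]
        exact congrArg s' (LinearMap.congr_fun g.mul_inv v)⟩
    intro g hg
    refine le_antisymm ?_ fun n hn => ?_
    · rintro _ ⟨n, hn, rfl⟩; exact key g hg n hn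
    · rw [CfsgLib.RootSub.conjBy_mem_iff]
      simpa using key g⁻¹ (inv_mem hg) n hn
  have hmem : ∀ c : k, mk (c • p) (smul_sq hpp c c) ∈ N := fun c => by
    refine ⟨InG.mem (by rw [mk_val]; exact hp c), fun v => ?_⟩
    rw [mk_val, LinearMap.add_apply, Module.End.one_apply, LinearMap.smul_apply,
      show p (s' v) = 0 from LinearMap.congr_fun hps v, smul_zero, add_zero]
  rcases compGroup_simple hk2 hk3 hN hsemi hA N (fun n hn => hn.1) hNn with e | e
  · refine compGroup_ne_bot hA (hN X compGroup_le hnorm fun e0 => hs0 (LinearMap.range_eq_bot.mp ?_))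
    rw [← le_bot_iff, ← e0]
    refine le_fixed fun g hg => ?_
    rintro _ ⟨v, rfl⟩
    exact sub_eq_zero.mpr ((e.symm ▸ hg : g ∈ N).2 v)
  · set U := Subgroup.closure (Set.range fun c : k => mk (c • p) (smul_sq hpp c c)) with hU
    have hUN : U ≤ N := (Subgroup.closure_le _).mpr (by rintro _ ⟨c, rfl⟩; exact hmem c)
    have hUv : ∀ g ∈ U, ∃ c : k, (g : Module.End k M) = 1 + c • p := by
      intro g hg
      induction hg using Subgroup.closure_induction with
      | mem g hg => obtain ⟨c, rfl⟩ := hg; exact ⟨c, mk_val _ _⟩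
      | one => exact ⟨0, by simp⟩
      | mul a b _ _ ha hb =>
        obtain ⟨c, ea⟩ := ha
        obtain ⟨d, eb⟩ := hb
        refine ⟨c + d, ?_⟩
        rw [Units.val_mul, ea, eb, add_mul, one_mul, mul_add, mul_one, smul_mul_smul_comm, hpp, smul_zero, add_zero,
          add_smul]
        abel
      | inv a _ ha =>
        obtain ⟨c, ea⟩ := ha
        refine ⟨-c, Units.inv_eq_of_mul_eq_one_right ?_⟩
        rw [ea, neg_smul, ← sub_eq_add_neg]
        exact one_add_mul_one_sub (smul_sq hpp c c)
    have hSX : Semi X := semi_normal hsemi compGroup_le hnorm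
    have hbot : U = ⊥ := by
      refine unipotent_eq_bot hSX (hUN.trans fun n hn => hn.1) (fun g hg => ?_) ⟨2, fun l hl hlen => ?_⟩
      · rw [CfsgLib.RootSub.conjBy_eq_self_iff]
        exact CfsgLib.RootSub.mem_normalizer_of_commute_all fun u hu => (e u (hUN hu) g hg).symm
      · obtain ⟨a, b, rfl⟩ := List.length_eq_two.mp hlen
        obtain ⟨c, ea⟩ := hUv a (hl a (by simp))
        obtain ⟨d, eb⟩ := hUv b (hl b (by simp))
        simp [ea, eb, hpp]
    have h1 : mk ((1 : k) • p) (smul_sq hpp 1 1) ∈ U := Subgroup.subset_closure ⟨1, rfl⟩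
    rw [hbot, Subgroup.mem_bot] at h1
    have := congrArg Units.val h1
    rw [mk_val, Units.val_one, add_eq_left, one_smul] at this
    exact hp0 this

/-- A member lies in a component or commutes with all minimal members. -/
theorem dichotomy (hk2 : ringChar k ≠ 2) (hk3 : Nat.card k ≠ 3) (hQ : Subgroup.closure (quadraticElements G) = G)
    (hN : NoFix G) (hsemi : Semi G) : ∀ {s : Module.End k M}, Mem G s →
    (∃ A ∈ quadraticRootSubgroups G, ∀ c : k, InG (CompGroup G A) (1 + c • s)) ∨ ∀ x, Min G x → s * x = x * s := by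
  intro s
  induction hn : rk s using Nat.strong_induction_on generalizing s with
  | _ n ih =>
    intro hS
    rw [or_iff_not_imp_right]
    intro hcomm
    push Not at hcomm
    obtain ⟨x, hx, hne⟩ := hcomm
    obtain ⟨p, s', hs, h1, h2, hp0, hs', hlt, A, hA, hp⟩ := reduces_of_ne hk2 hk3 hN hS hx hne
    have hnorm : ∀ g ∈ G, conjBy (CompGroup G A) g = CompGroup G A := fun g hg => compGroup_normal hk2 hk3 hQ hN hA hg
    have hpX := hp _ hnorm le_rfl
    refine ⟨A, hA, ?_⟩
    rcases hs' with rfl | hs'
    · rwa [hs, add_zero]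
    have hpp : p * p = 0 := by
      have := hS.sq
      rwa [hs, add_mul, mul_add, mul_add, h1, h2, hs'.sq, add_zero, add_zero, add_zero] at this
    have hex : (∀ g ∈ CompGroup G A, (g : Module.End k M) * s' = s' * (g : Module.End k M)) → False :=
      no_mixed hk2 hk3 hN hsemi hA hnorm hp0 hs'.ne hpp h1 hpX
    have hcase : ∀ c : k, InG (CompGroup G A) (1 + c • s') := by
      rcases ih _ (hn ▸ hlt) rfl hs' with ⟨B, hB, hsB⟩ | hr
      · by_cases e : Comp G A = Comp G B
        · rwa [CompGroup, e]
        refine absurd (fun g hg => ?_) hex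
        obtain ⟨t, ht, et⟩ := hsB 1
        have := congrArg Units.val (commute_of_mem hk2 hk3 hN hA hB e hg ht)
        rwa [Units.val_mul, Units.val_mul, et, one_smul, mul_add, add_mul, mul_one, one_mul, add_right_inj] at this
      · refine absurd (fun g hg => ?_) hex
        obtain ⟨t, ht, et⟩ := fam_mem_centralizer hs' hr 1
        have := congrArg Units.val (Subgroup.mem_centralizer_iff.mp ht.2 g (compGroup_le_roots hg))
        rwa [Units.val_mul, Units.val_mul, et, one_smul, mul_add, add_mul, mul_one, one_mul, add_right_inj] at this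
    intro c
    convert (hpX c).mul (hcase c) using 1
    rw [hs, mul_add, mul_one, add_mul, one_mul, smul_mul_smul_comm, h1, smul_zero, add_zero, smul_add, add_assoc]

/-- The properties of a decomposition. -/
structure IsDecomp (G : Subgroup GL') (T : Set (Subgroup GL')) : Prop where
  finite : T.Finite
  normal : ∀ K ∈ T, K ≤ G ∧ ∀ g ∈ G, conjBy K g = K
  commute : ∀ K ∈ T, ∀ L ∈ T, K ≠ L → ⁅K, L⁆ = ⊥
  simple : ∀ K ∈ T, IsQuasisimple ↥K ∧ Subgroup.closure (quadraticElements G ∩ (K : Set GL')) = K
  cover : ∀ g ∈ quadraticElements G, ∃ K ∈ T, g ∈ K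

theorem exists_decomp (hk2 : ringChar k ≠ 2) (hk3 : Nat.card k ≠ 3) : ∀ (G : Subgroup GL'),
    Subgroup.closure (quadraticElements G) = G → NoFix G → Semi G → ∃ T, IsDecomp G T := by
  intro G
  induction hn : Module.finrank k (Submodule.span k {s | Mem G s}) using Nat.strong_induction_on generalizing G with
  | _ n ih =>
    intro hQ hN hsemi
    by_cases h0 : ∃ s, Mem G s
    swap
    · exact ⟨∅, Set.finite_empty, by simp, by simp, by simp, fun g hg => absurd ⟨_, mem_quadratic_iff.mp hg⟩ h0⟩
    obtain ⟨x, hx⟩ : ∃ x, Min G x := by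
      classical
      obtain ⟨s, hs⟩ := h0
      have hex : ∃ m, ∃ u, Mem G u ∧ rk u = m := ⟨_, s, hs, rfl⟩
      obtain ⟨u, hu, e⟩ := Nat.find_spec hex
      exact ⟨u, hu, fun v hv => e.trans_le (Nat.find_min' hex ⟨v, hv, rfl⟩)⟩
    set Z := Subgroup.centralizer (Roots G : Set GL') with hZ
    set Y := Subgroup.closure (quadraticElements G ∩ (Z : Set GL')) with hY
    have hYG : Y ≤ G := (Subgroup.closure_le _).mpr fun g hg => hg.1.1
    have hYZ : Y ≤ Z := (Subgroup.closure_le _).mpr fun g hg => hg.2
    have hTY : quadraticElements G ∩ (Z : Set GL') ⊆ quadraticElements Y := by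
      rintro g ⟨hg, hgZ⟩
      have hm := mem_quadratic_iff.mp hg
      refine mem_quadratic_iff.mpr ⟨hm.sq, hm.ne, fun c => ?_⟩
      by_cases hc : c = 0
      · rw [hc, zero_smul, add_zero]; exact inG_one
      refine ⟨mk _ (smul_sq hm.sq c c), Subgroup.subset_closure ⟨mem_quadratic_iff.mpr (by
        rw [mk_sub_one]; exact hm.smul hc), Subgroup.mem_centralizer_iff.mpr fun b hb => Units.ext ?_⟩, mk_val _ _⟩
      have e : (b : Module.End k M) * (g : Module.End k M) = (g : Module.End k M) * (b : Module.End k M) :=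
        congrArg Units.val (Subgroup.mem_centralizer_iff.mp hgZ b hb)
      rw [Units.val_mul, Units.val_mul, mk_val]
      exact ((Commute.one_right _).add_right (((show Commute _ _ from e).sub_right (Commute.one_right _)).smul_right c)).eq
    have hmono : quadraticElements Y ⊆ quadraticElements G := fun g hg => by
      have hm := mem_quadratic_iff.mp hg
      exact mem_quadratic_iff.mpr ⟨hm.sq, hm.ne, fun c => (hm.fam c).mono hYG⟩
    have hQY : Subgroup.closure (quadraticElements Y) = Y :=
      le_antisymm ((Subgroup.closure_le _).mpr fun g hg => hg.1) (Subgroup.closure_mono hTY)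
    -- the members of the components
    have hsplit : ∀ g ∈ quadraticElements G, (∃ A ∈ quadraticRootSubgroups G, g ∈ CompGroup G A) ∨
        g ∈ quadraticElements G ∩ (Z : Set GL') := by
      intro g hg
      rcases dichotomy hk2 hk3 hQ hN hsemi (mem_quadratic_iff.mp hg) with ⟨A, hA, h⟩ | h
      · exact Or.inl ⟨A, hA, mem_of_quadratic hg h⟩
      · exact Or.inr ⟨hg, (mem_of_quadratic hg (fam_mem_centralizer (mem_quadratic_iff.mp hg) h)).2⟩
    have hcommY : ∀ {A a y}, a ∈ CompGroup G A → y ∈ Y → a * y = y * a := fun ha hy =>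
      Subgroup.mem_centralizer_iff.mp (hYZ hy) _ (compGroup_le_roots ha)
    have hnormal : ∀ N ≤ Y, (∀ g ∈ Y, conjBy N g = N) → ∀ g ∈ G, conjBy N g = N := by
      intro N hNY hn g hg
      rw [CfsgLib.RootSub.conjBy_eq_self_iff]
      rw [← hQ] at hg
      refine (Subgroup.closure_le _).mpr (fun q hq => ?_) hg
      rcases hsplit q hq with ⟨A, -, hqA⟩ | hqT
      · exact CfsgLib.RootSub.mem_normalizer_of_commute_all fun a ha => hcommY hqA (hNY ha)
      · exact CfsgLib.RootSub.conjBy_eq_self_iff.mp (hn q (Subgroup.subset_closure hqT))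
    have hYn : ∀ g ∈ G, conjBy Y g = Y := hnormal Y le_rfl fun g hg => conjBy_self_group hg
    have hNY : NoFix Y := fun N hNle hn hfix => hN N (hNle.trans hYG) (hnormal N hNle hn) hfix
    have hlt : Module.finrank k (Submodule.span k {s | Mem Y s}) < n := by
      rw [← hn]
      refine Submodule.finrank_lt_finrank_of_lt (lt_of_le_of_ne (Submodule.span_mono fun s hs =>
        ⟨hs.sq, hs.ne, fun c => (hs.fam c).mono hYG⟩) fun e => ?_)
      obtain ⟨r, F⟩ := exists_frame hk2 hk3 hN hx
      set L := LinearMap.mulLeft k r - LinearMap.mulRight k r with hL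
      have hle : Submodule.span k {s | Mem Y s} ≤ LinearMap.ker L := Submodule.span_le.mpr fun s hs => by
        obtain ⟨y, hy, ey⟩ := hs.inG
        have hr : mk r F.right.1.sq ∈ minimalQuadraticElements G := mem_minimal_iff.mpr (by rw [mk_sub_one]; exact F.right)
        have h1 := congrArg Units.val (hcommY (le_compGroup (self_mem_comp ⟨_, hr, rfl⟩)
          (self_mem_sameActionSubgroup hr)) hy)
        rw [Units.val_mul, Units.val_mul, ey, mk_val] at h1
        simp only [hL, SetLike.mem_coe, LinearMap.mem_ker, LinearMap.sub_apply, LinearMap.mulLeft_apply,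
          LinearMap.mulRight_apply]
        simp only [add_mul, mul_add, one_mul, mul_one] at h1
        rw [sub_eq_zero]
        refine sub_eq_zero.mp ?_
        rw [← sub_eq_zero] at h1
        rw [← h1]; abel
      have hxm : x ∈ Submodule.span k {s | Mem G s} := Submodule.subset_span hx.1
      rw [← e] at hxm
      have h1 := hle hxm
      simp only [hL, LinearMap.mem_ker, LinearMap.sub_apply, LinearMap.mulLeft_apply, LinearMap.mulRight_apply,
        sub_eq_zero] at h1
      refine hx.1.ne ?_
      rw [← F.xrx, mul_assoc, h1, ← mul_assoc, hx.1.sq, zero_mul]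
    obtain ⟨T, hT⟩ := ih _ hlt Y rfl hQY hNY (semi_normal hsemi hYG hYn)
    refine ⟨CompGroup G '' quadraticRootSubgroups G ∪ T, ?_, ?_, ?_, ?_, ?_⟩
    · refine Set.Finite.union ?_ hT.finite
      have := (finite_components hk2 hk3 hN).image fun S : Set (Subgroup GL') => ⨆ B ∈ S, B
      rw [← Set.image_comp] at this
      exact this
    · rintro K (⟨A, hA, rfl⟩ | hK)
      · exact ⟨compGroup_le, fun g hg => compGroup_normal hk2 hk3 hQ hN hA hg⟩
      · exact ⟨(hT.normal K hK).1.trans hYG, hnormal K (hT.normal K hK).1 (hT.normal K hK).2⟩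
    · have hcy : ∀ A, ∀ L ∈ T, ⁅CompGroup G A, L⁆ = ⊥ := fun A L hL => by
        rw [Subgroup.commutator_eq_bot_iff_le_centralizer]
        exact fun a ha => Subgroup.mem_centralizer_iff.mpr fun b hb => (hcommY ha ((hT.normal L hL).1 hb)).symm
      rintro K (⟨A, hA, rfl⟩ | hK) L (⟨B, hB, rfl⟩ | hL) hne
      · exact compGroup_commute hk2 hk3 hN hA hB fun e => hne (by rw [CompGroup, CompGroup, e])
      · exact hcy A L hL
      · rw [Subgroup.commutator_comm]; exact hcy B K hK
      · exact hT.commute K hK L hL hne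
    · rintro K (⟨A, hA, rfl⟩ | hK)
      · refine ⟨isQuasisimple_comp hk2 hk3 hN hsemi hA, le_antisymm
          ((Subgroup.closure_le _).mpr fun g hg => hg.2) (iSup₂_le fun B hB b hb => ?_)⟩
        obtain ⟨σ, hσ, rfl⟩ := hB.1
        rcases (mem_sameActionSubgroup_iff hσ).mp hb with rfl | ⟨hb', -⟩
        · exact one_mem _
        · exact Subgroup.subset_closure ⟨mem_quadratic_iff.mpr hb'.1, le_compGroup hB hb⟩
      · refine ⟨(hT.simple K hK).1, le_antisymm ((Subgroup.closure_le _).mpr fun g hg => hg.2) ?_⟩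
        conv_lhs => rw [← (hT.simple K hK).2]
        exact Subgroup.closure_mono (Set.inter_subset_inter_left _ hmono)
    · intro g hg
      rcases hsplit g hg with ⟨A, hA, hgA⟩ | hgT
      · exact ⟨_, Or.inl ⟨A, hA, rfl⟩, hgA⟩
      · obtain ⟨K, hK, hgK⟩ := hT.cover g (hTY hgT)
        exact ⟨K, Or.inr hK, hgK⟩

end CfsgLib.QP
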